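import Mathlib
import Cfsg.Prelude.Def_Solvable

set_option autoImplicit false

namespace Cfsg.Agent.H75

open scoped Pointwise

theorem mem_conj_smul {L : Type*} [Group L] {C : Subgroup L} {g x : L} :
    x ∈ MulAut.conj g • C ↔ g⁻¹ * x * g ∈ C := by
  rw [Subgroup.mem_pointwise_smul_iff_inv_smul_mem]
  simp [MulAut.smul_def]

theorem isFrobeniusComplement_iff {L : Type*} [Group L] (C : Subgroup L) :
    Cfsg.IsFrobeniusComplement C ↔
      C ≠ ⊥ ∧ C ≠ ⊤ ∧ ∀ g : L, g ∉ C → ∀ x ∈ C, g⁻¹ * x * g ∈ C → x = 1 := by
  unfold Cfsg.IsFrobeniusComplement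
  refine and_congr Iff.rfl (and_congr Iff.rfl (forall_congr' fun g => forall_congr' fun _ => ?_))
  rw [Subgroup.eq_bot_iff_forall]
  constructor
  · intro h x hx hx'
    exact h x ⟨hx, mem_conj_smul.mpr hx'⟩
  · rintro h x ⟨hx, hx'⟩
    exact h x hx (mem_conj_smul.mp hx')

theorem mem_frobeniusKernel_iff {L : Type*} [Group L] (C : Subgroup L) (x : L) :
    x ∈ Cfsg.frobeniusKernel C ↔ x = 1 ∨ ∀ g : L, g⁻¹ * x * g ∉ C := by
  unfold Cfsg.frobeniusKernel
  simp only [Set.mem_ofPred_eq, mem_conj_smul]

/-- transport of a Frobenius complement along an isomorphism -/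
theorem isFrobeniusComplement_map {L L' : Type*} [Group L] [Group L'] (e : L ≃* L')
    (C : Subgroup L) (hC : Cfsg.IsFrobeniusComplement C) :
    Cfsg.IsFrobeniusComplement (C.map e.toMonoidHom) := by
  rw [isFrobeniusComplement_iff] at hC ⊢
  obtain ⟨h1, h2, h3⟩ := hC
  refine ⟨?_, ?_, ?_⟩
  · rw [Ne, Subgroup.map_eq_bot_iff_of_injective _ e.injective]
    exact h1
  · intro h
    apply h2
    have := congrArg (Subgroup.comap e.toMonoidHom) h
    rwa [Subgroup.comap_map_eq_self_of_injective e.injective, Subgroup.comap_top] at this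
  · intro g' hg' x' hx' hx''
    obtain ⟨g, rfl⟩ := e.surjective g'
    obtain ⟨x, hx, rfl⟩ := hx'
    have hg : g ∉ C := fun hg => hg' (Subgroup.mem_map_of_mem _ hg)
    have h4 : g⁻¹ * x * g ∈ C := by
      have h5 : e.toMonoidHom (g⁻¹ * x * g) ∈ C.map e.toMonoidHom := by
        simpa [map_mul, map_inv] using hx''
      exact (Subgroup.mem_map_iff_mem e.injective).mp h5
    have := h3 g hg x hx h4
    rw [this]
    exact map_one _

theorem card_frobeniusKernel_map {L L' : Type*} [Group L] [Group L'] (e : L ≃* L')
    (C : Subgroup L) :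
    Nat.card (Cfsg.frobeniusKernel (C.map e.toMonoidHom)) = Nat.card (Cfsg.frobeniusKernel C) := by
  have h : Cfsg.frobeniusKernel (C.map e.toMonoidHom) = e '' Cfsg.frobeniusKernel C := by
    ext x'
    obtain ⟨x, rfl⟩ := e.surjective x'
    rw [mem_frobeniusKernel_iff, Set.mem_image]
    constructor
    · intro hx
      refine ⟨x, ?_, rfl⟩
      rw [mem_frobeniusKernel_iff]
      rcases hx with hx | hx
      · left
        exact e.injective (hx.trans (map_one e).symm)
      · right
        intro g hg
        apply hx (e g)
        have : (e g)⁻¹ * e x * e g = e.toMonoidHom (g⁻¹ * x * g) := by simp [map_mul, map_inv]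
        rw [this]
        exact Subgroup.mem_map_of_mem _ hg
    · rintro ⟨y, hy, hyx⟩
      have hyx' : y = x := e.injective hyx
      subst hyx'
      rw [mem_frobeniusKernel_iff] at hy
      rcases hy with hy | hy
      · left; rw [hy]; exact map_one e
      · right
        intro g' hg'
        obtain ⟨g, rfl⟩ := e.surjective g'
        apply hy g
        have : (e g)⁻¹ * e y * e g = e.toMonoidHom (g⁻¹ * y * g) := by simp [map_mul, map_inv]
        rw [this] at hg'
        exact (Subgroup.mem_map_iff_mem e.injective).mp hg'
  rw [h]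
  exact Nat.card_image_of_injective e.injective _

/-- every finite group with a Frobenius complement has a model in `Type` -/
theorem exists_type0_model {L : Type*} [Group L] [Finite L] (C : Subgroup L)
    (hC : Cfsg.IsFrobeniusComplement C) :
    ∃ (L' : Type) (_ : Group L') (_ : Finite L') (C' : Subgroup L'),
      Cfsg.IsFrobeniusComplement C' ∧ Nonempty (C ≃* C') ∧
      Nat.card (Cfsg.frobeniusKernel C') = Nat.card (Cfsg.frobeniusKernel C) := by
  let ψ : Shrink.{0} L ≃* L := Shrink.mulEquiv
  have hfin : Finite (Shrink.{0} L) := Finite.of_equiv L (equivShrink.{0} L)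
  refine ⟨Shrink.{0} L, inferInstance, hfin, C.map ψ.symm.toMonoidHom, ?_, ?_, ?_⟩
  · exact isFrobeniusComplement_map ψ.symm C hC
  · exact ⟨ψ.symm.subgroupMap C⟩
  · exact card_frobeniusKernel_map ψ.symm C

/-- A fixed-point-free action of a nontrivial finite group `H` on a nontrivial finite group `N`
gives a Frobenius group `N ⋊ H` with complement `H` and kernel of size `|N|`. -/
theorem frobenius_of_fpf {N H : Type*} [Group N] [Group H] [Finite N] [Finite H] [Nontrivial N]
    [Nontrivial H] (φ : H →* MulAut N) (hfpf : ∀ h : H, h ≠ 1 → ∀ n : N, φ h n = n → n = 1) :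
    ∃ (L : Type) (_ : Group L) (_ : Finite L) (C : Subgroup L),
      Cfsg.IsFrobeniusComplement C ∧ Nonempty (H ≃* C) ∧
      Nat.card (Cfsg.frobeniusKernel C) = Nat.card N := by
  have hfinL : Finite (N ⋊[φ] H) := Finite.of_equiv (N × H) SemidirectProduct.equivProd.symm
  have hmemC : ∀ x : N ⋊[φ] H, x ∈ (SemidirectProduct.inr : H →* N ⋊[φ] H).range ↔ x.left = 1 := by
    intro x
    constructor
    · rintro ⟨h, rfl⟩; rfl
    · intro hx
      refine ⟨x.right, ?_⟩
      ext <;> simp [hx]
  have hleft : ∀ g x : N ⋊[φ] H, (g⁻¹ * x * g).left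
      = φ g.right⁻¹ (g.left⁻¹ * x.left * φ x.right g.left) := by
    intro g x
    simp only [SemidirectProduct.mul_left, SemidirectProduct.inv_left, SemidirectProduct.mul_right,
      SemidirectProduct.inv_right, map_mul, MulAut.mul_apply]
  have hright : ∀ g x : N ⋊[φ] H, (g⁻¹ * x * g).right = g.right⁻¹ * x.right * g.right := by
    intro g x
    simp only [SemidirectProduct.mul_right, SemidirectProduct.inv_right]
  have hC₀ : Cfsg.IsFrobeniusComplement (SemidirectProduct.inr : H →* N ⋊[φ] H).range := by
    rw [isFrobeniusComplement_iff]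
    refine ⟨?_, ?_, ?_⟩
    · obtain ⟨h, hh⟩ := exists_ne (1 : H)
      intro hbot
      have h1 : (SemidirectProduct.inr h : N ⋊[φ] H) ∈
          (SemidirectProduct.inr : H →* N ⋊[φ] H).range := ⟨h, rfl⟩
      rw [hbot, Subgroup.mem_bot] at h1
      exact hh (by simpa using congrArg SemidirectProduct.right h1)
    · obtain ⟨n, hn⟩ := exists_ne (1 : N)
      intro htop
      have h1 : (SemidirectProduct.inl n : N ⋊[φ] H) ∈
          (SemidirectProduct.inr : H →* N ⋊[φ] H).range := by rw [htop]; trivial
      rw [hmemC] at h1
      exact hn h1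
    · intro g hg x hx hx'
      rw [hmemC] at hg hx hx'
      rw [hleft, hx, mul_one] at hx'
      have h2 : g.left⁻¹ * φ x.right g.left = 1 := by
        have := congrArg (φ g.right) hx'
        rwa [← MulAut.mul_apply, ← map_mul, mul_inv_cancel, map_one, MulAut.one_apply,
          map_one] at this
      have h3 : φ x.right g.left = g.left := by
        rw [inv_mul_eq_one] at h2; exact h2.symm
      have h4 : x.right = 1 := by
        by_contra hne
        exact hg (hfpf _ hne _ h3)
      ext
      · exact hx
      · exact h4
  have hker : Cfsg.frobeniusKernel (SemidirectProduct.inr : H →* N ⋊[φ] H).range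
      = Set.range (SemidirectProduct.inl : N → N ⋊[φ] H) := by
    ext x
    rw [mem_frobeniusKernel_iff]
    constructor
    · intro hx
      have hxr : x.right = 1 := by
        by_contra hne
        have hx1 : x ≠ 1 := fun h => hne (by rw [h]; rfl)
        have hx2 := hx.resolve_left hx1
        -- the map `a ↦ a * φ h a⁻¹` is surjective
        have hinj : Function.Injective (fun a : N => a * φ x.right a⁻¹) := by
          intro a b hab
          simp only at hab
          have h5 : φ x.right (b⁻¹ * a) = b⁻¹ * a := by
            rw [map_mul, map_inv, map_inv] at *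
            have h6 : a * (φ x.right a)⁻¹ = b * (φ x.right b)⁻¹ := hab
            have h7 : (φ x.right b)⁻¹ * φ x.right a = b⁻¹ * a := by
              have h8 : b⁻¹ * (a * (φ x.right a)⁻¹) * φ x.right a
                  = b⁻¹ * (b * (φ x.right b)⁻¹) * φ x.right a := by rw [h6]
              have h9 : b⁻¹ * (a * (φ x.right a)⁻¹) * φ x.right a = b⁻¹ * a := by group
              have h10 : b⁻¹ * (b * (φ x.right b)⁻¹) * φ x.right a
                  = (φ x.right b)⁻¹ * φ x.right a := by group
              rw [h9, h10] at h8
              exact h8.symm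
            exact h7
          have h11 := hfpf _ hne _ h5
          exact (inv_mul_eq_one.mp h11).symm
        obtain ⟨a, ha⟩ := (Finite.injective_iff_surjective.mp hinj) x.left
        simp only at ha
        apply hx2 (SemidirectProduct.inl a)
        rw [hmemC, hleft]
        simp only [SemidirectProduct.left_inl, SemidirectProduct.right_inl, inv_one, map_one,
          MulAut.one_apply]
        rw [← ha, map_inv]
        group
      refine ⟨x.left, ?_⟩
      ext
      · rfl
      · exact hxr.symm
    · rintro ⟨n, rfl⟩
      by_cases hn : n = 1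
      · left; rw [hn]; exact map_one _
      · right
        intro g hg
        rw [hmemC] at hg
        have hr := hright g (SemidirectProduct.inl n)
        rw [SemidirectProduct.right_inl, mul_one, inv_mul_cancel] at hr
        have h1 : g⁻¹ * SemidirectProduct.inl n * g = 1 := by
          ext
          · exact hg
          · exact hr
        have h2 : (SemidirectProduct.inl n : N ⋊[φ] H) = 1 := by
          have : SemidirectProduct.inl n = g * (g⁻¹ * SemidirectProduct.inl n * g) * g⁻¹ := by
            group
          rw [this, h1]; group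
        exact hn (SemidirectProduct.inl_injective (h2.trans (map_one _).symm))
  obtain ⟨L', hG, hF, C', h1, ⟨e⟩, h3⟩ := exists_type0_model _ hC₀
  refine ⟨L', hG, hF, C', h1, ⟨(MonoidHom.ofInjective SemidirectProduct.inr_injective).trans e⟩, ?_⟩
  rw [h3, hker]
  exact Nat.card_congr (Equiv.ofInjective _ SemidirectProduct.inl_injective).symm

/-- additive version: a fixed-point-free linear-type action on a finite abelian group -/
theorem frobenius_of_fpf_distrib {V H : Type*} [AddCommGroup V] [Group H] [Finite V] [Finite H]
    [Nontrivial V] [Nontrivial H] [DistribMulAction H V]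
    (hfpf : ∀ h : H, h ≠ 1 → ∀ v : V, h • v = v → v = 0) :
    ∃ (L : Type) (_ : Group L) (_ : Finite L) (C : Subgroup L),
      Cfsg.IsFrobeniusComplement C ∧ Nonempty (H ≃* C) ∧
      Nat.card (Cfsg.frobeniusKernel C) = Nat.card V := by
  let φ : H →* MulAut (Multiplicative V) :=
    (MulAutMultiplicative V).symm.toMonoidHom.comp (DistribMulAction.toAddAut H V)
  have hφ : ∀ (h : H) (v : V), φ h (Multiplicative.ofAdd v) = Multiplicative.ofAdd (h • v) := by
    intro h v
    rfl
  have hcard : Nat.card (Multiplicative V) = Nat.card V := rfl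
  rw [← hcard]
  apply frobenius_of_fpf φ
  intro h hh n hn
  have h1 := hfpf h hh (Multiplicative.toAdd n) (by
    have := hφ h (Multiplicative.toAdd n)
    rw [ofAdd_toAdd, hn] at this
    exact (Multiplicative.ofAdd.injective this).symm)
  exact Multiplicative.toAdd.injective h1

end Cfsg.Agent.H75
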