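import Mathlib
import Cfsg.Prelude.Def_Solvable
import Cfsg.Prelude.Def_Characters
import Cfsg.Agent.H4.Chars
import Cfsg.Agent.H4.PaQb
import Cfsg.Agent.H75.Frobenius

set_option autoImplicit false
set_option linter.style.haveILetI false
set_option linter.unusedSectionVars false

namespace Cfsg.Agent.H75

open Cfsg.Agent.H4
open scoped ComplexConjugate

universe u

section FrobCount

variable {G : Type u} [Group G]

/-- the basic property: if `g ∉ H`, `x ∈ H` and `g⁻¹ x g ∈ H` then `x = 1` -/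
theorem frob_ti {H : Subgroup G} (hH : Cfsg.IsFrobeniusComplement H) {g x : G} (hg : g ∉ H)
    (hx : x ∈ H) (hx' : g⁻¹ * x * g ∈ H) : x = 1 :=
  ((isFrobeniusComplement_iff H).mp hH).2.2 g hg x hx hx'

theorem card_not_mem_frobeniusKernel [Finite G] {H : Subgroup G}
    (hH : Cfsg.IsFrobeniusComplement H) :
    Nat.card {x : G // x ∉ Cfsg.frobeniusKernel H} = H.index * (Nat.card H - 1) := by
  classical
  have hmem : ∀ (q : G ⧸ H) (h : {h : H // h ≠ 1}),
      Quotient.out q * (h.1 : G) * (Quotient.out q)⁻¹ ∉ Cfsg.frobeniusKernel H := by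
    intro q h hk
    rw [mem_frobeniusKernel_iff] at hk
    rcases hk with hk | hk
    · apply h.2
      have h3 : (h.1 : G) = 1 := by
        have h2 := congrArg (fun t => (Quotient.out q)⁻¹ * t * Quotient.out q) hk
        simpa [mul_assoc] using h2
      exact Subtype.ext h3
    · apply hk (Quotient.out q)
      have : (Quotient.out q)⁻¹ * (Quotient.out q * (h.1 : G) * (Quotient.out q)⁻¹) * Quotient.out q
          = h.1 := by group
      rw [this]; exact h.1.2
  let F : (G ⧸ H) × {h : H // h ≠ 1} → {x : G // x ∉ Cfsg.frobeniusKernel H} :=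
    fun p => ⟨Quotient.out p.1 * (p.2.1 : G) * (Quotient.out p.1)⁻¹, hmem p.1 p.2⟩
  have hinj : Function.Injective F := by
    rintro ⟨q, h⟩ ⟨q', h'⟩ heq
    have h1 : Quotient.out q * (h.1 : G) * (Quotient.out q)⁻¹
        = Quotient.out q' * (h'.1 : G) * (Quotient.out q')⁻¹ := congrArg Subtype.val heq
    have h2 : ((Quotient.out q')⁻¹ * Quotient.out q) * (h.1 : G)
        * ((Quotient.out q')⁻¹ * Quotient.out q)⁻¹ = h'.1 := by
      have h3 := congrArg (fun t => (Quotient.out q')⁻¹ * t * Quotient.out q') h1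
      beta_reduce at h3
      have h4 : (Quotient.out q')⁻¹ * (Quotient.out q' * (h'.1 : G) * (Quotient.out q')⁻¹)
          * Quotient.out q' = h'.1 := by group
      rw [h4] at h3
      rw [← h3]; group
    have hk : (Quotient.out q')⁻¹ * Quotient.out q ∈ H := by
      by_contra hk
      have hk' : ((Quotient.out q')⁻¹ * Quotient.out q)⁻¹ ∉ H := fun hh =>
        hk (by simpa using H.inv_mem hh)
      have h5 := frob_ti hH hk' h.1.2 (by rw [inv_inv, h2]; exact h'.1.2)
      exact h.2 (Subtype.ext h5)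
    have hq : q = q' := by
      have h6 : (QuotientGroup.mk (Quotient.out q') : G ⧸ H) = QuotientGroup.mk (Quotient.out q) :=
        QuotientGroup.eq.mpr hk
      rw [QuotientGroup.out_eq', QuotientGroup.out_eq'] at h6
      exact h6.symm
    subst hq
    have h7 : (h.1 : G) = h'.1 := by
      have h8 := congrArg (fun t => (Quotient.out q)⁻¹ * t * Quotient.out q) h1
      simpa [mul_assoc] using h8
    have h9 : h = h' := Subtype.ext (Subtype.ext h7)
    rw [h9]
  have hsurj : Function.Surjective F := by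
    rintro ⟨x, hx⟩
    have hx' := hx
    rw [mem_frobeniusKernel_iff] at hx'
    push Not at hx'
    obtain ⟨hx1, g, hg⟩ := hx'
    obtain ⟨k, hk⟩ := QuotientGroup.mk_out_eq_mul H g
    have hk1 : (k : G)⁻¹ * (g⁻¹ * x * g) * k ∈ H := H.mul_mem (H.mul_mem (H.inv_mem k.2) hg) k.2
    have hk2 : (⟨(k : G)⁻¹ * (g⁻¹ * x * g) * k, hk1⟩ : H) ≠ 1 := by
      intro h
      have h2 : (k : G)⁻¹ * (g⁻¹ * x * g) * k = 1 := congrArg Subtype.val h
      apply hx1
      have h3 : x = g * k * ((k : G)⁻¹ * (g⁻¹ * x * g) * k) * (g * k)⁻¹ := by group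
      rw [h3, h2]; group
    refine ⟨⟨QuotientGroup.mk g, ⟨⟨(k : G)⁻¹ * (g⁻¹ * x * g) * k, hk1⟩, hk2⟩⟩, ?_⟩
    apply Subtype.ext
    change Quotient.out (QuotientGroup.mk g : G ⧸ H) * ((k : G)⁻¹ * (g⁻¹ * x * g) * k)
      * (Quotient.out (QuotientGroup.mk g : G ⧸ H))⁻¹ = x
    rw [hk]; group
  rw [← Nat.card_congr (Equiv.ofBijective F ⟨hinj, hsurj⟩), Nat.card_prod]
  have hcard : Nat.card {h : H // h ≠ 1} = Nat.card H - 1 := by
    haveI := Fintype.ofFinite H
    rw [Nat.card_eq_fintype_card, Nat.card_eq_fintype_card]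
    have h10 := Fintype.card_subtype_compl (fun h : H => h = 1)
    rw [Fintype.card_subtype_eq] at h10
    exact h10
  rw [hcard]
  rfl

theorem card_frobeniusKernel [Finite G] {H : Subgroup G} (hH : Cfsg.IsFrobeniusComplement H) :
    Nat.card (Cfsg.frobeniusKernel H) = H.index := by
  classical
  have h1 := card_not_mem_frobeniusKernel hH
  have h2 : Nat.card (Cfsg.frobeniusKernel H)
      + Nat.card {x : G // x ∉ Cfsg.frobeniusKernel H} = Nat.card G := by
    rw [← Nat.card_sum]
    exact Nat.card_congr (Equiv.sumCompl (· ∈ Cfsg.frobeniusKernel H))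
  have h3 : H.index * Nat.card H = Nat.card G := H.index_mul_card
  have h4 : 0 < Nat.card H := Nat.card_pos
  obtain ⟨c, hc⟩ : ∃ c, Nat.card H = c + 1 := ⟨Nat.card H - 1, by omega⟩
  rw [hc] at h1 h3
  rw [h1, ← h3, Nat.add_sub_cancel, Nat.mul_succ] at h2
  omega

end FrobCount

section Ind

variable {G : Type u} [Group G] [Fintype G]

theorem indFun_frob {H : Subgroup G} (hH : Cfsg.IsFrobeniusComplement H) (θ : H → ℂ)
    (hθ : IsClassFunction H θ) (h1 : θ 1 = 0) (h : H) : indFun H θ (h : G) = θ h := by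
  classical
  have hN : (Nat.card H : ℂ) ≠ 0 := (neZero_card_complex H).out
  have claim : ∀ x : G, extendByZero H θ (x⁻¹ * (h : G) * x) = if x ∈ H then θ h else 0 := by
    intro x
    split_ifs with hx
    · have hmem : x⁻¹ * (h : G) * x ∈ H := H.mul_mem (H.mul_mem (H.inv_mem hx) h.2) hx
      rw [extendByZero_of_mem _ _ hmem]
      have := hθ h (⟨x, hx⟩ : H)⁻¹
      rw [inv_inv] at this
      rw [← this]
      rfl
    · by_cases hmem : x⁻¹ * (h : G) * x ∈ H
      · have h2 : (h : G) = 1 := frob_ti hH hx h.2 hmem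
        rw [extendByZero_of_mem _ _ hmem]
        have h3 : (⟨x⁻¹ * (h : G) * x, hmem⟩ : H) = 1 := by
          apply Subtype.ext
          simp [h2]
        rw [h3, h1]
      · exact extendByZero_of_not_mem _ _ hmem
  rw [indFun_apply]
  simp only [claim]
  rw [Finset.sum_ite, Finset.sum_const_zero, add_zero, Finset.sum_const, nsmul_eq_mul,
    ← Fintype.card_subtype, ← Nat.card_eq_fintype_card]
  change (Nat.card H : ℂ)⁻¹ * ((Nat.card H : ℂ) * θ h) = θ h
  rw [← mul_assoc, inv_mul_cancel₀ hN, one_mul]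

theorem indFun_eq_zero_of_not_conj {H : Subgroup G} (θ : H → ℂ) {g : G}
    (hg : ∀ x : G, x⁻¹ * g * x ∉ H) : indFun H θ g = 0 := by
  rw [indFun_apply, Finset.sum_eq_zero, mul_zero]
  intro x _
  exact extendByZero_of_not_mem _ _ (hg x)

/-- the extension of a class function of a Frobenius complement to the whole group -/
noncomputable def frobExt (H : Subgroup G) (θ : H → ℂ) : G → ℂ :=
  fun g => indFun H (fun h => θ h - θ 1) g + θ 1

theorem frobExt_coe {H : Subgroup G} (hH : Cfsg.IsFrobeniusComplement H) (θ : H → ℂ)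
    (hθ : IsClassFunction H θ) (h : H) : frobExt H θ (h : G) = θ h := by
  unfold frobExt
  rw [indFun_frob hH (fun h => θ h - θ 1) (fun a b => by simp only [hθ a b]) (sub_self _) h]
  ring

theorem frobExt_one {H : Subgroup G} (hH : Cfsg.IsFrobeniusComplement H) (θ : H → ℂ)
    (hθ : IsClassFunction H θ) : frobExt H θ 1 = θ 1 :=
  frobExt_coe hH θ hθ 1

theorem frobExt_of_mem_kernel {H : Subgroup G} (hH : Cfsg.IsFrobeniusComplement H) (θ : H → ℂ)
    (hθ : IsClassFunction H θ) {g : G} (hg : g ∈ Cfsg.frobeniusKernel H) :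
    frobExt H θ g = θ 1 := by
  rw [mem_frobeniusKernel_iff] at hg
  rcases hg with rfl | hg
  · exact frobExt_one hH θ hθ
  · unfold frobExt
    rw [indFun_eq_zero_of_not_conj _ hg, zero_add]

theorem frobExt_isClassFunction (H : Subgroup G) (θ : H → ℂ) :
    IsClassFunction G (frobExt H θ) := by
  intro g x
  unfold frobExt
  rw [indFun_isClassFunction H _ g x]

theorem classInner_const (K : Type u) [Group K] [Fintype K] (a b : ℂ) :
    classInner (fun _ : K => a) (fun _ : K => b) = a * conj b := by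
  have hN : (Nat.card K : ℂ) ≠ 0 := (neZero_card_complex K).out
  unfold classInner
  rw [Finset.sum_const, Finset.card_univ, nsmul_eq_mul, ← Nat.card_eq_fintype_card, ← mul_assoc,
    inv_mul_cancel₀ hN, one_mul]

/-- the extension map is an isometry -/
theorem classInner_frobExt {H : Subgroup G} [Fintype H] (hH : Cfsg.IsFrobeniusComplement H)
    (θ η : H → ℂ) (hθ : IsClassFunction H θ) (hη : IsClassFunction H η) :
    classInner (frobExt H θ) (frobExt H η) = classInner θ η := by
  have hθ₀c : IsClassFunction H (fun h => θ h - θ 1) := fun a b => by simp only [hθ a b]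
  have hη₀c : IsClassFunction H (fun h => η h - η 1) := fun a b => by simp only [hη a b]
  have e1 : frobExt H θ = indFun H (fun h => θ h - θ 1) + (fun _ : G => θ 1) := rfl
  have e2 : frobExt H η = indFun H (fun h => η h - η 1) + (fun _ : G => η 1) := rfl
  have e3 : θ = (fun h => θ h - θ 1) + (fun _ : H => θ 1) := by ext h; simp
  have e4 : η = (fun h => η h - η 1) + (fun _ : H => η 1) := by ext h; simp
  have hcG : ∀ c : ℂ, IsClassFunction G (fun _ : G => c) := fun c _ _ => rfl
  have r1 : classInner (indFun H (fun h => θ h - θ 1)) (indFun H (fun h => η h - η 1))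
      = classInner (fun h => θ h - θ 1) (fun h => η h - η 1) := by
    rw [frobenius_reciprocity H _ _ (indFun_isClassFunction H _)]
    congr 1
    ext h
    exact indFun_frob hH _ hη₀c (sub_self _) h
  have r2 : classInner (indFun H (fun h => θ h - θ 1)) (fun _ : G => η 1)
      = classInner (fun h => θ h - θ 1) (fun _ : H => η 1) :=
    frobenius_reciprocity H _ _ (hcG _)
  have r3 : classInner (fun _ : G => θ 1) (indFun H (fun h => η h - η 1))
      = classInner (fun _ : H => θ 1) (fun h => η h - η 1) := by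
    rw [← classInner_conj_symm, frobenius_reciprocity H _ _ (hcG _), classInner_conj_symm]
  have r4 : classInner (fun _ : G => θ 1) (fun _ : G => η 1)
      = classInner (fun _ : H => θ 1) (fun _ : H => η 1) := by
    rw [classInner_const, classInner_const]
  calc classInner (frobExt H θ) (frobExt H η)
      = classInner (fun h => θ h - θ 1) (fun h => η h - η 1)
        + classInner (fun h => θ h - θ 1) (fun _ : H => η 1)
        + (classInner (fun _ : H => θ 1) (fun h => η h - η 1)
        + classInner (fun _ : H => θ 1) (fun _ : H => η 1)) := by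
        rw [e1, e2]
        simp only [classInner_add_left, classInner_add_right, r1, r2, r3, r4]
        ring
    _ = classInner ((fun h => θ h - θ 1) + (fun _ : H => θ 1))
          ((fun h => η h - η 1) + (fun _ : H => η 1)) := by
        simp only [classInner_add_left, classInner_add_right]
        ring
    _ = classInner θ η := by rw [← e3, ← e4]

theorem extendByZero_sub_const (H : Subgroup G) (φ : H → ℂ) (a : ℂ) (g : G) :
    extendByZero H (fun h => φ h - a) g
      = extendByZero H φ g - a * extendByZero H (fun _ => 1) g := by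
  by_cases hg : g ∈ H
  · rw [extendByZero_of_mem _ _ hg, extendByZero_of_mem _ _ hg, extendByZero_of_mem _ _ hg,
      mul_one]
  · rw [extendByZero_of_not_mem _ _ hg, extendByZero_of_not_mem _ _ hg,
      extendByZero_of_not_mem _ _ hg]
    ring

theorem frobExt_eq_sub (H : Subgroup G) (φ : H → ℂ) :
    frobExt H φ = (indFun H φ + φ 1 • (fun _ : G => (1 : ℂ)))
      - φ 1 • indFun H (fun _ : H => (1 : ℂ)) := by
  ext g
  simp only [frobExt, indFun_apply, extendByZero_sub_const, Finset.sum_sub_distrib,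
    ← Finset.mul_sum, Pi.add_apply, Pi.sub_apply, Pi.smul_apply, smul_eq_mul]
  ring

theorem frobExt_generalized {H : Subgroup G} (φ : H → ℂ) (hφ : IsCharacter H φ) (n : ℕ)
    (hn : φ 1 = n) :
    ∃ X Y : G → ℂ, IsCharacter G X ∧ IsCharacter G Y ∧ frobExt H φ = X - Y := by
  refine ⟨indFun H φ + (n : ℂ) • (fun _ : G => (1 : ℂ)),
    (n : ℂ) • indFun H (fun _ : H => (1 : ℂ)), ?_, ?_, ?_⟩
  · exact isCharacter_add (isCharacter_indFun H φ hφ)
      (isCharacter_nsmul n (isCharacter_of_isIrrCharacter isIrrCharacter_one))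
  · exact isCharacter_nsmul n
      (isCharacter_indFun H _ (isCharacter_of_isIrrCharacter isIrrCharacter_one))
  · rw [frobExt_eq_sub, hn]

/-- a difference of two characters of norm one and positive degree is an irreducible
character -/
theorem isIrrCharacter_of_sub_norm_one {X Y : G → ℂ} (hX : IsCharacter G X)
    (hY : IsCharacter G Y) (hnorm : classInner (X - Y) (X - Y) = 1) (n : ℕ) (hn : 0 < n)
    (h1 : (X - Y) 1 = n) : IsIrrCharacter G (X - Y) := by
  classical
  letI := fintypeIrr G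
  obtain ⟨m, hm⟩ := isCharacter_iff.mp hX
  obtain ⟨m', hm'⟩ := isCharacter_iff.mp hY
  have hf : X - Y = ∑ ψ : IrrCharacter G, (((m ψ : ℤ) - m' ψ : ℤ) : ℂ) • (ψ : G → ℂ) := by
    rw [hm, hm', finsum_irr_eq_sum, finsum_irr_eq_sum, ← Finset.sum_sub_distrib]
    refine Finset.sum_congr rfl fun ψ _ => ?_
    push_cast; rw [sub_smul]
  have hinner : ∀ ψ : IrrCharacter G,
      classInner (X - Y) ψ.1 = (((m ψ : ℤ) - m' ψ : ℤ) : ℂ) := by
    intro ψ
    rw [hf, classInner_sum_left]
    simp only [classInner_smul_left, irr_inner]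
    rw [Finset.sum_eq_single ψ]
    · simp
    · intro χ _ hχ; simp [hχ]
    · intro h'; exact absurd (Finset.mem_univ ψ) h'
  have hsum : (∑ ψ : IrrCharacter G, ((m ψ : ℤ) - m' ψ) * ((m ψ : ℤ) - m' ψ) : ℤ) = 1 := by
    have h2 : classInner (X - Y) (X - Y) = ∑ ψ : IrrCharacter G,
        (((m ψ : ℤ) - m' ψ : ℤ) : ℂ) * (((m ψ : ℤ) - m' ψ : ℤ) : ℂ) := by
      have h3 : classInner (X - Y) (X - Y) = classInner (X - Y)
          (∑ ψ : IrrCharacter G, (((m ψ : ℤ) - m' ψ : ℤ) : ℂ) • (ψ : G → ℂ)) := by rw [← hf]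
      rw [h3, classInner_sum_right]
      refine Finset.sum_congr rfl fun ψ _ => ?_
      rw [classInner_smul_right, hinner, map_intCast]
    rw [hnorm] at h2
    exact_mod_cast h2.symm
  have hex : ∃ ψ₀ : IrrCharacter G, (m ψ₀ : ℤ) - m' ψ₀ ≠ 0 := by
    by_contra hcon
    push Not at hcon
    simp [hcon] at hsum
  obtain ⟨ψ₀, hψ₀⟩ := hex
  have hsplit := Finset.add_sum_erase Finset.univ
    (fun ψ => ((m ψ : ℤ) - m' ψ) * ((m ψ : ℤ) - m' ψ)) (Finset.mem_univ ψ₀)
  rw [hsum] at hsplit
  have hnn : ∀ ψ : IrrCharacter G, 0 ≤ ((m ψ : ℤ) - m' ψ) * ((m ψ : ℤ) - m' ψ) :=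
    fun ψ => mul_self_nonneg _
  have h1' : 1 ≤ ((m ψ₀ : ℤ) - m' ψ₀) * ((m ψ₀ : ℤ) - m' ψ₀) := by
    have := mul_self_pos.mpr hψ₀
    omega
  have h0 : 0 ≤ ∑ ψ ∈ Finset.univ.erase ψ₀, ((m ψ : ℤ) - m' ψ) * ((m ψ : ℤ) - m' ψ) :=
    Finset.sum_nonneg fun ψ _ => hnn ψ
  have h2 : ((m ψ₀ : ℤ) - m' ψ₀) * ((m ψ₀ : ℤ) - m' ψ₀) = 1 := by linarith
  have h3 : ∑ ψ ∈ Finset.univ.erase ψ₀, ((m ψ : ℤ) - m' ψ) * ((m ψ : ℤ) - m' ψ) = 0 := by
    linarith
  have h5 : ∀ ψ, ψ ≠ ψ₀ → (m ψ : ℤ) - m' ψ = 0 := by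
    intro ψ hψ
    have := (Finset.sum_eq_zero_iff_of_nonneg fun ψ _ => hnn ψ).mp h3 ψ
      (Finset.mem_erase.mpr ⟨hψ, Finset.mem_univ ψ⟩)
    rcases mul_eq_zero.mp this with h | h <;> exact h
  have h6 : X - Y = (((m ψ₀ : ℤ) - m' ψ₀ : ℤ) : ℂ) • (ψ₀ : G → ℂ) := by
    rw [hf, Finset.sum_eq_single ψ₀]
    · intro ψ _ hψ; rw [h5 ψ hψ]; simp
    · intro h'; exact absurd (Finset.mem_univ ψ₀) h'
  obtain ⟨k, hk0, hk⟩ := irr_one_eq_natCast ψ₀
  rcases mul_self_eq_one_iff.mp h2 with h4 | h4
  · rw [h6, h4]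
    simpa using ψ₀.2
  · exfalso
    have h7 := congrFun h6 1
    rw [h1, h4, Pi.smul_apply, hk] at h7
    have h8 : ((n + k : ℕ) : ℂ) = 0 := by
      push_cast
      rw [h7]
      simp
    have h9 : n + k = 0 := by exact_mod_cast h8
    omega

theorem exists_normal_ker_of_isCharacter {χ : G → ℂ} (hχ : IsCharacter G χ) :
    ∃ K : Subgroup G, K.Normal ∧ ∀ g : G, g ∈ K ↔ χ g = χ 1 := by
  obtain ⟨n, ρ, rfl⟩ := hχ
  refine ⟨MonoidHom.ker ρ, MonoidHom.normal_ker ρ, fun g => ?_⟩
  rw [MonoidHom.mem_ker, Representation.char_one, character_eq_finrank_iff ρ g]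
  rfl

end Ind

/-- **Frobenius' theorem**: the Frobenius kernel is a normal complement. -/
theorem frobenius_theorem {G : Type u} [Group G] [Finite G] (H : Subgroup G)
    (hH : Cfsg.IsFrobeniusComplement H) :
    ∃ N : Subgroup G, (N : Set G) = Cfsg.frobeniusKernel H ∧ N.Normal ∧
      Subgroup.IsComplement' N H := by
  classical
  haveI := Fintype.ofFinite G
  haveI : Fintype H := Fintype.ofFinite H
  have hext : ∀ φ : IrrCharacter H, IsIrrCharacter G (frobExt H φ.1) := by
    intro φ
    obtain ⟨n, hn0, hn⟩ := irr_one_eq_natCast φ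
    obtain ⟨X, Y, hX, hY, hXY⟩ :=
      frobExt_generalized (G := G) φ.1 (isCharacter_of_isIrrCharacter φ.2) n hn
    rw [hXY]
    apply isIrrCharacter_of_sub_norm_one hX hY _ n hn0
    · rw [← hXY, frobExt_one hH φ.1 (irr_isClassFunction φ), hn]
    · rw [← hXY, classInner_frobExt hH _ _ (irr_isClassFunction φ) (irr_isClassFunction φ),
        irr_inner_self]
  choose K hKn hKmem using fun φ : IrrCharacter H =>
    exists_normal_ker_of_isCharacter (isCharacter_of_isIrrCharacter (hext φ))
  let M : Subgroup G := ⨅ φ, K φ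
  have hMn : M.Normal := Subgroup.normal_iInf_normal hKn
  have hMmem : ∀ g, g ∈ M ↔ ∀ φ : IrrCharacter H, frobExt H φ.1 g = frobExt H φ.1 1 := by
    intro g
    simp only [M, Subgroup.mem_iInf, hKmem]
  have hone : ∀ φ : IrrCharacter H, frobExt H φ.1 1 = φ.1 1 := fun φ =>
    frobExt_one hH φ.1 (irr_isClassFunction φ)
  have hMH : ∀ x, x ∈ M → x ∈ H → x = 1 := by
    intro x hxM hxH
    rw [hMmem] at hxM
    have h1 : IsConj (⟨x, hxH⟩ : H) 1 := by
      rw [isConj_iff_irr]
      intro φ
      have h2 := frobExt_coe hH φ.1 (irr_isClassFunction φ) ⟨x, hxH⟩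
      rw [← h2, ← hone φ]
      exact hxM φ
    have h3 : (⟨x, hxH⟩ : H) = 1 := isConj_one_left.mp h1
    exact congrArg Subtype.val h3
  have hMset : (M : Set G) = Cfsg.frobeniusKernel H := by
    ext g
    constructor
    · intro hg
      rw [mem_frobeniusKernel_iff]
      by_contra hcon
      push Not at hcon
      obtain ⟨hg1, x, hx⟩ := hcon
      have h1 : x⁻¹ * g * x ∈ M := by
        have := hMn.conj_mem g hg x⁻¹
        simpa using this
      have h2 := hMH _ h1 hx
      apply hg1
      have h3 : g = x * (x⁻¹ * g * x) * x⁻¹ := by group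
      rw [h3, h2]; group
    · intro hg
      rw [SetLike.mem_coe, hMmem]
      intro φ
      rw [frobExt_of_mem_kernel hH φ.1 (irr_isClassFunction φ) hg, hone]
  refine ⟨M, hMset, hMn, ?_⟩
  apply Subgroup.isComplement'_of_card_mul_and_disjoint
  · have h1 : Nat.card M = H.index := by
      rw [← card_frobeniusKernel hH, ← hMset]; rfl
    rw [h1, H.index_mul_card]
  · rw [Subgroup.disjoint_def]
    intro x hxM hxH
    exact hMH x hxM hxH

end Cfsg.Agent.H75
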