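import Mathlib
import Cfsg.Agent.H82.JxDefs

/-!
# JX-SQ (piece of the existence of a `J(T)`-component, clause `|W_K| = 4`)

`Y` elementary abelian, `ξ` (conjugation by `x`) of order dividing 3 without fixed points, `α`
(conjugation by `a`) an involution with `α ξ = ξ⁻¹ α`.  Then `1 + ξ + ξ² = 0`, and for `y ∈ Y`
the elements `v := y · α y` and `u := y · ξ v` are fixed by `α` with `y = u · ξ v`; the
decomposition is unique.
-/

set_option autoImplicit false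
open Cfsg

namespace Cfsg.Agent.H75.JxS

open Cfsg.Agent.H82.Jx

universe u

/-- The abstract form in a commutative group of exponent 2. -/
theorem sq_abs {Y : Type u} [CommGroup Y] (α ξ : Y →* Y) (hsq : ∀ y : Y, y * y = 1)
    (hα : ∀ y, α (α y) = y) (hξ : ∀ y, ξ (ξ (ξ y)) = y) (hαξ : ∀ y, α (ξ y) = ξ (ξ (α y)))
    (hfix : ∀ y, ξ y = y → y = 1) :
    (∀ y, α (y * α y) = y * α y ∧ α (y * ξ (y * α y)) = y * ξ (y * α y) ∧
      y = (y * ξ (y * α y)) * ξ (y * α y)) ∧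
    (∀ u v u' v', α u = u → α v = v → α u' = u' → α v' = v' → u * ξ v = u' * ξ v' →
      u = u' ∧ v = v') := by
  have hsq' : ∀ y z : Y, y * (y * z) = z := fun y z => by rw [← mul_assoc, hsq, one_mul]
  have hN : ∀ y, ξ (ξ y) = y * ξ y := by
    intro y
    have h1 : ξ (y * ξ y * ξ (ξ y)) = y * ξ y * ξ (ξ y) := by
      rw [map_mul, map_mul, hξ, mul_comm (ξ y * ξ (ξ y)) y, mul_assoc]
    have h2 := hfix _ h1
    have h3 : ξ (ξ y) = (y * ξ y)⁻¹ := eq_inv_of_mul_eq_one_right h2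
    rw [h3]; exact inv_eq_of_mul_eq_one_right (hsq _)
  refine ⟨fun y => ⟨?_, ?_, ?_⟩, ?_⟩
  · rw [map_mul, hα, mul_comm]
  · have hv : α (y * α y) = y * α y := by rw [map_mul, hα, mul_comm]
    rw [map_mul, hαξ, hv, hN, mul_comm y (α y), mul_assoc (α y) y, hsq']
  · rw [mul_assoc, hsq, mul_one]
  · intro u v u' v' hu hv hu' hv' h
    have hp : u * u' = ξ (v * v') := by
      rw [map_mul]
      calc u * u' = (u * ξ v) * (u' * ξ v) := by
            rw [mul_mul_mul_comm, hsq (ξ v), mul_one]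
        _ = (u' * ξ v') * (u' * ξ v) := by rw [h]
        _ = ξ v * ξ v' := by
            rw [mul_mul_mul_comm, hsq u', one_mul, mul_comm]
    have hq : α (ξ (v * v')) = ξ (ξ (v * v')) := by
      rw [hαξ, map_mul, hv, hv']
    have hp' : α (u * u') = u * u' := by rw [map_mul, hu, hu']
    rw [hp, hq] at hp'
    have h1 := hfix _ hp'
    have h2 : v * v' = 1 := by
      have h0 := hξ (v * v')
      rw [h1, map_one, map_one] at h0
      exact h0.symm
    have h3 : u * u' = 1 := by rw [hp, h1]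
    refine ⟨?_, ?_⟩
    · have h4 : u = u'⁻¹ := eq_inv_of_mul_eq_one_left h3
      rw [h4]; exact inv_eq_of_mul_eq_one_right (hsq _)
    · have h4 : v = v'⁻¹ := eq_inv_of_mul_eq_one_left h2
      rw [h4]; exact inv_eq_of_mul_eq_one_right (hsq _)

open scoped IsMulCommutative in
/-- JX-SQ. -/
theorem sq : StSq.{u} := by
  intro G _ _ Y a x hc h2 ha hx ha2 hx3 hax hxf
  have : IsMulCommutative ↥Y := ⟨⟨fun p q => Subtype.ext (hc p p.2 q q.2)⟩⟩
  let α : ↥Y →* ↥Y :=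
    { toFun := fun y => ⟨a * y * a⁻¹, ha y y.2⟩
      map_one' := by apply Subtype.ext; simp
      map_mul' := by
        intro p q; apply Subtype.ext
        show a * (p * q : G) * a⁻¹ = (a * p * a⁻¹) * (a * q * a⁻¹)
        group }
  let ξ : ↥Y →* ↥Y :=
    { toFun := fun y => ⟨x * y * x⁻¹, hx y y.2⟩
      map_one' := by apply Subtype.ext; simp
      map_mul' := by
        intro p q; apply Subtype.ext
        show x * (p * q : G) * x⁻¹ = (x * p * x⁻¹) * (x * q * x⁻¹)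
        group }
  have hαv : ∀ y : ↥Y, ((α y : ↥Y) : G) = a * y * a⁻¹ := fun y => rfl
  have hξv : ∀ y : ↥Y, ((ξ y : ↥Y) : G) = x * y * x⁻¹ := fun y => rfl
  have hsq : ∀ y : ↥Y, y * y = 1 := fun y => Subtype.ext (h2 y y.2)
  have hα : ∀ y : ↥Y, α (α y) = y := fun y => Subtype.ext (ha2 y y.2)
  have hξ : ∀ y : ↥Y, ξ (ξ (ξ y)) = y := fun y => Subtype.ext (hx3 y y.2)
  have hαξ : ∀ y : ↥Y, α (ξ y) = ξ (ξ (α y)) := by
    intro y
    apply Subtype.ext
    show a * (x * y * x⁻¹) * a⁻¹ = x * (x * (a * y * a⁻¹) * x⁻¹) * x⁻¹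
    rw [hax y y.2]
    have h0 := hx3 (a * y * a⁻¹) (ha y y.2)
    calc x⁻¹ * (a * (y : G) * a⁻¹) * x
        = x⁻¹ * (x * (x * (x * (a * (y : G) * a⁻¹) * x⁻¹) * x⁻¹) * x⁻¹) * x := by rw [h0]
      _ = x * (x * (a * (y : G) * a⁻¹) * x⁻¹) * x⁻¹ := by group
  have hfix : ∀ y : ↥Y, ξ y = y → y = 1 := fun y h =>
    Subtype.ext (hxf y y.2 (congrArg Subtype.val h))
  obtain ⟨hsurj, hinj⟩ := sq_abs α ξ hsq hα hξ hαξ hfix
  have hD : ∀ y : ↥Y, ((y : G) ∈ Y ⊓ Subgroup.centralizer ({a} : Set G)) ↔ α y = y := by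
    intro y
    rw [Subgroup.mem_inf, Subgroup.mem_centralizer_singleton_iff]
    constructor
    · rintro ⟨-, h⟩
      apply Subtype.ext
      show a * y * a⁻¹ = y
      rw [← h, mul_inv_cancel_right]
    · intro h
      refine ⟨y.2, ?_⟩
      have h' : a * y * a⁻¹ = y := congrArg Subtype.val h
      calc (y : G) * a = (a * y * a⁻¹) * a := by rw [h']
        _ = a * y := by group
  have hdec : ∀ y ∈ Y, ∃ u ∈ Y ⊓ Subgroup.centralizer ({a} : Set G),
      ∃ v ∈ Y ⊓ Subgroup.centralizer ({a} : Set G), y = u * (x * v * x⁻¹) := by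
    intro y hy
    obtain ⟨h1, h2, h3⟩ := hsurj ⟨y, hy⟩
    refine ⟨_, (hD _).mpr h2, _, (hD _).mpr h1, ?_⟩
    exact congrArg Subtype.val h3
  refine ⟨?_, hdec⟩
  -- the bijection `D × D → Y`
  let f : ↥(Y ⊓ Subgroup.centralizer ({a} : Set G)) × ↥(Y ⊓ Subgroup.centralizer ({a} : Set G)) →
      ↥Y := fun p => ⟨p.1 * (x * p.2 * x⁻¹), mul_mem p.1.2.1 (hx _ p.2.2.1)⟩
  have hf : Function.Bijective f := by
    constructor
    · rintro ⟨⟨u, hu⟩, ⟨v, hv⟩⟩ ⟨⟨u', hu'⟩, ⟨v', hv'⟩⟩ h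
      have h0 : u * (x * v * x⁻¹) = u' * (x * v' * x⁻¹) := congrArg Subtype.val h
      have key := hinj ⟨u, hu.1⟩ ⟨v, hv.1⟩ ⟨u', hu'.1⟩ ⟨v', hv'.1⟩
        ((hD ⟨u, hu.1⟩).mp hu) ((hD ⟨v, hv.1⟩).mp hv) ((hD ⟨u', hu'.1⟩).mp hu')
        ((hD ⟨v', hv'.1⟩).mp hv') (Subtype.ext h0)
      have e1 : u = u' := congrArg Subtype.val key.1
      have e2 : v = v' := congrArg Subtype.val key.2
      subst e1; subst e2; rfl
    · rintro ⟨y, hy⟩
      obtain ⟨u, hu, v, hv, h⟩ := hdec y hy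
      exact ⟨⟨⟨u, hu⟩, ⟨v, hv⟩⟩, Subtype.ext h.symm⟩
  have hcard := Nat.card_congr (Equiv.ofBijective f hf)
  rw [Nat.card_prod] at hcard
  rw [← hcard, pow_two]

end Cfsg.Agent.H75.JxS

universe u in
example : Cfsg.Agent.H82.Jx.StSq.{u} := Cfsg.Agent.H75.JxS.sq.{u}
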