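import Cfsg.Agent.H26.AIC.L3

/-!
# S2202 piece TIB (layer 4; helper75 for helper26)
-/

set_option autoImplicit false

namespace Cfsg.Agent.H75.AIC

open Subgroup Cfsg.Agent.H26 Cfsg.Agent.H26.AIC

variable {G : Type*} [Group G] [Finite G]

/-- for an involution `t ∉ NT P`: `Dg (NT P) t = JSet P t` and its cardinality. -/
theorem ti_D_eq_J (hH : Hyp G) (hTI : TIHyp G) (P : Sylow 2 G) (hP : Good P) {t : G}
    (ht : orderOf t = 2) (htN : t ∉ NT P) :
    JSet P t = (Dg (NT P) t : Set G) ∧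
      Nat.card (Dg (NT P) t) = Nat.card {s : G // orderOf s = 2 ∧ s ∈ (P : Subgroup G)} := by
  have hsub : JSet P t ⊆ (Dg (NT P) t : Set G) := fun d hd => J_sub_Dg P ht hd
  have hJ := J_card hH P hP ht htN
  have hNT := card_NT hH P hP
  have hle : Nat.card (Dg (NT P) t) * Nat.card (MT P) ≤ Nat.card (NT P) := by
    rw [← Nat.card_prod]
    let φ : (Dg (NT P) t) × (MT P) → NT P := fun x =>
      ⟨(x.1 : G) * (x.2 : G), (NT P).mul_mem ((mem_Dg _ _ _).mp x.1.2).1 (MT_le_NT P x.2.2)⟩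
    apply Nat.card_le_card_of_injective φ
    rintro ⟨⟨d, hd⟩, ⟨m, hm⟩⟩ ⟨⟨d', hd'⟩, ⟨m', hm'⟩⟩ h
    have h' : d * m = d' * m' := congrArg Subtype.val h
    have hx : d'⁻¹ * d = m' * m⁻¹ := by
      calc d'⁻¹ * d = d'⁻¹ * (d * m) * m⁻¹ := by group
        _ = d'⁻¹ * (d' * m') * m⁻¹ := by rw [h']
        _ = m' * m⁻¹ := by group
    have h1 : d'⁻¹ * d = 1 := by
      apply ti_Dg_inter hH hTI P hP htN ((Dg (NT P) t).mul_mem ((Dg (NT P) t).inv_mem hd') hd)
      rw [hx]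
      exact (MT P).mul_mem hm' ((MT P).inv_mem hm)
    have hd_eq : d = d' := (inv_mul_eq_one.mp h1).symm
    subst hd_eq
    have hm_eq : m = m' := mul_left_cancel h'
    subst hm_eq
    rfl
  have hMpos : 0 < Nat.card (MT P) := Nat.card_pos
  have hDle : Nat.card (Dg (NT P) t) ≤
      Nat.card {s : G // orderOf s = 2 ∧ s ∈ (P : Subgroup G)} := by
    rw [hNT, mul_comm] at hle
    exact Nat.le_of_mul_le_mul_left hle hMpos
  have hfin : (Dg (NT P) t : Set G).Finite := Set.toFinite _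
  have hcardJ : (JSet P t).ncard =
      Nat.card {s : G // orderOf s = 2 ∧ s ∈ (P : Subgroup G)} := by
    rw [← Nat.card_coe_set_eq]
    exact hJ
  have hcardD : ((Dg (NT P) t : Set G)).ncard = Nat.card (Dg (NT P) t) := by
    rw [← Nat.card_coe_set_eq]
    rfl
  have heq : JSet P t = (Dg (NT P) t : Set G) :=
    Set.eq_of_subset_of_ncard_le hsub (by rw [hcardD, hcardJ]; exact hDle) hfin
  refine ⟨heq, ?_⟩
  rw [← hcardD, ← heq, hcardJ]

theorem ti_Dg_inverted (hH : Hyp G) (hTI : TIHyp G) (P : Sylow 2 G) (hP : Good P) {t d : G}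
    (ht : orderOf t = 2) (htN : t ∉ NT P) (hd : d ∈ Dg (NT P) t) : t * d * t⁻¹ = d⁻¹ := by
  have h := (ti_D_eq_J hH hTI P hP ht htN).1
  have hd' : d ∈ JSet P t := by
    rw [h]
    exact hd
  exact hd'.2

theorem ti_Dg_card (hH : Hyp G) (hTI : TIHyp G) (P : Sylow 2 G) (hP : Good P) {g : G}
    (hg : g ∉ NT P) :
    Nat.card (Dg (NT P) g) = Nat.card {s : G // orderOf s = 2 ∧ s ∈ (P : Subgroup G)} := by
  obtain ⟨t, ht, htN, htg⟩ := exists_inv_coset hH P hP hg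
  rw [← Dg_congr (NT P) htg]
  exact (ti_D_eq_J hH hTI P hP ht htN).2

theorem ti_Dg_comm (hH : Hyp G) (hTI : TIHyp G) (P : Sylow 2 G) (hP : Good P) {g d e : G}
    (hg : g ∉ NT P) (hd : d ∈ Dg (NT P) g) (he : e ∈ Dg (NT P) g) : d * e = e * d := by
  obtain ⟨t, ht, htN, htg⟩ := exists_inv_coset hH P hP hg
  rw [← Dg_congr (NT P) htg] at hd he
  have h1 := ti_Dg_inverted hH hTI P hP ht htN hd
  have h2 := ti_Dg_inverted hH hTI P hP ht htN he
  have h3 := ti_Dg_inverted hH hTI P hP ht htN ((Dg (NT P) t).mul_mem hd he)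
  have h4 : t * (d * e) * t⁻¹ = (t * d * t⁻¹) * (t * e * t⁻¹) := by group
  rw [h3, h1, h2] at h4
  have := congrArg (·⁻¹) h4
  simp only [inv_inv, mul_inv_rev] at this
  exact this

theorem ti_NT_eq (hH : Hyp G) (hTI : TIHyp G) (P : Sylow 2 G) (hP : Good P) {g h : G}
    (hg : g ∉ NT P) (hh : h ∈ NT P) : ∃ d ∈ Dg (NT P) g, ∃ m ∈ MT P, h = d * m := by
  obtain ⟨t, ht, htN, htg⟩ := exists_inv_coset hH P hP hg
  obtain ⟨d, hd, hdm⟩ := J_surj hH P hP ht htN hh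
  refine ⟨d, ?_, d⁻¹ * h, hdm, by group⟩
  rw [← Dg_congr (NT P) htg]
  exact J_sub_Dg P ht hd

end Cfsg.Agent.H75.AIC
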