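import Cfsg.Agent.H26.AIC.L5

/-!
# S2202 piece TID (layer 6; helper75 for helper26)
-/

set_option autoImplicit false

namespace Cfsg.Agent.H75.AIC

open Subgroup Cfsg.Agent.H26 Cfsg.Agent.H26.AIC

variable {G : Type*} [Group G] [Finite G]

theorem ti_trans (hH : Hyp G) (hTI : TIHyp G) (P : Sylow 2 G) (hP : Good P) {g₁ g₂ : G}
    (hg₁ : g₁ ∉ NT P) (hg₂ : g₂ ∉ NT P) : ∃ m ∈ MT P, (m * g₁)⁻¹ * g₂ ∈ NT P := by
  -- a nontrivial element of `Dg (NT P) g₂`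
  obtain ⟨u, v, hu, huP, hv, hvP, huv⟩ := exists_two_inv hH P hP.1
  have hcard := Cfsg.Agent.H26.AIC.ti_Dg_card hH hTI P hP hg₂
  have hnt0 : Nontrivial {s : G // orderOf s = 2 ∧ s ∈ (P : Subgroup G)} :=
    ⟨⟨⟨u, hu, huP⟩, ⟨v, hv, hvP⟩, fun h => huv (congrArg Subtype.val h)⟩⟩
  have hnt : Nontrivial (Dg (NT P) g₂) := by
    rw [← Finite.one_lt_card_iff_nontrivial, hcard]
    exact Finite.one_lt_card_iff_nontrivial.mpr hnt0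
  obtain ⟨⟨d₂, hd₂⟩, hd₂ne⟩ := exists_ne (1 : Dg (NT P) g₂)
  have hd₂1 : d₂ ≠ 1 := fun h => hd₂ne (Subtype.ext h)
  obtain ⟨d₁, hd₁, m₀, hm₀, hdm⟩ :=
    Cfsg.Agent.H26.AIC.ti_NT_eq hH hTI P hP hg₁ ((mem_Dg _ _ _).mp hd₂).1
  have hd₁1 : d₁ ≠ 1 := by
    intro h
    rw [h, one_mul] at hdm
    rw [hdm] at hd₂ hd₂1
    exact hd₂1 (ti_Dg_inter hH hTI P hP hg₂ hd₂ hm₀)
  have hd₁N : d₁ ∈ NT P := ((mem_Dg _ _ _).mp hd₁).1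
  have hnormal : ∀ s ∈ MT P, d₁⁻¹ * s * d₁ ∈ MT P := by
    intro s hs
    have h1 : d₁ • P = P := (smul_syl_eq_iff d₁ P).mpr hd₁N
    have h2 : s ∈ MT (d₁ • P) := by
      rw [h1]
      exact hs
    exact (mem_MT_smul d₁ P s).mp h2
  have hne : (P : Subgroup G) ≠ ⊥ := good_ne_bot hP
  let ψ : ↥(MT P) → ↥(MT P) := fun s =>
    ⟨d₁⁻¹ * s * d₁ * (s : G)⁻¹, (MT P).mul_mem (hnormal s s.2) ((MT P).inv_mem s.2)⟩
  have hinj : Function.Injective ψ := by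
    intro s s' h
    have h' : d₁⁻¹ * s * d₁ * (s : G)⁻¹ = d₁⁻¹ * s' * d₁ * (s' : G)⁻¹ := congrArg Subtype.val h
    have hr : (s' : G)⁻¹ * s ∈ MT P := (MT P).mul_mem ((MT P).inv_mem s'.2) s.2
    have hc1 : (d₁⁻¹ * s' * d₁)⁻¹ * (d₁⁻¹ * s * d₁) = (s' : G)⁻¹ * s := by
      have hcomm : (d₁⁻¹ * s * d₁) * (s' : G)⁻¹ = (s' : G)⁻¹ * (d₁⁻¹ * s * d₁) :=
        MT_comm hH P hne (hnormal s s.2) ((MT P).inv_mem s'.2)
      calc (d₁⁻¹ * s' * d₁)⁻¹ * (d₁⁻¹ * s * d₁)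
          = (d₁⁻¹ * s' * d₁)⁻¹ * (d₁⁻¹ * s * d₁ * (s : G)⁻¹) * s := by group
        _ = (d₁⁻¹ * s' * d₁)⁻¹ * (d₁⁻¹ * s' * d₁ * (s' : G)⁻¹) * s := by rw [h']
        _ = (s' : G)⁻¹ * s := by group
    have hc2 : ((s' : G)⁻¹ * s) * d₁ = d₁ * ((s' : G)⁻¹ * s) := by
      have : (d₁⁻¹ * s' * d₁)⁻¹ * (d₁⁻¹ * s * d₁) = d₁⁻¹ * ((s' : G)⁻¹ * s) * d₁ := by group
      rw [this] at hc1
      calc ((s' : G)⁻¹ * s) * d₁ = d₁ * (d₁⁻¹ * ((s' : G)⁻¹ * s) * d₁) := by group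
        _ = d₁ * ((s' : G)⁻¹ * s) := by rw [hc1]
    have hr1 := ti_cent_free hH hTI P hP hg₁ hd₁ hd₁1 hr hc2
    apply Subtype.ext
    exact (inv_mul_eq_one.mp hr1).symm
  obtain ⟨s, hs⟩ := Finite.surjective_of_injective hinj ⟨m₀, hm₀⟩
  have hs' : d₁⁻¹ * s * d₁ * (s : G)⁻¹ = m₀ := congrArg Subtype.val hs
  have hconj : (s : G) * d₁ * (s : G)⁻¹ = d₂ := by
    rw [hdm, ← hs']
    group
  have hsN : (s : G) ∈ NT P := MT_le_NT P s.2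
  have hsg₁ : (s : G) * g₁ ∉ NT P := by
    intro h
    apply hg₁
    have := (NT P).mul_mem ((NT P).inv_mem hsN) h
    simpa using this
  have hfix : ((s : G) * g₁)⁻¹ * d₂ * ((s : G) * g₁) ∈ NT P := by
    have : ((s : G) * g₁)⁻¹ * d₂ * ((s : G) * g₁) = g₁⁻¹ * d₁ * g₁ := by
      rw [← hconj]
      group
    rw [this]
    exact ((mem_Dg _ _ _).mp hd₁).2
  rcases ti_fix hH hTI P hP hg₂ hd₂ hd₂1 hfix with h | h
  · exact absurd h hsg₁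
  · refine ⟨s, s.2, ?_⟩
    have := (NT P).inv_mem h
    simpa [mul_assoc] using this

end Cfsg.Agent.H75.AIC
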