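import Mathlib

set_option autoImplicit false
set_option linter.unusedSectionVars false

namespace Cfsg.Agent.H75

open Polynomial Module

section TransInv

variable {p : ℕ} [Fact p.Prime] {K : Type*} [Field K] [CharP K p]

/-- the cast `ZMod p → K` as a ring hom -/
noncomputable def zcast (p : ℕ) [Fact p.Prime] (K : Type*) [Field K] [CharP K p] : ZMod p →+* K :=
  ZMod.castHom (dvd_refl p) K

theorem zcast_apply (j : ZMod p) : zcast p K j = (ZMod.cast j : K) := rfl

theorem zcast_injective : Function.Injective (zcast p K) := (zcast p K).injective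

/-- translation operator on functions on `ZMod p` -/
def transOp (p : ℕ) (K : Type*) [Field K] : (ZMod p → K) →ₗ[K] (ZMod p → K) where
  toFun f := fun j => f (j - 1)
  map_add' _ _ := rfl
  map_smul' _ _ := rfl

/-- difference operator -/
def diffOp (p : ℕ) (K : Type*) [Field K] : (ZMod p → K) →ₗ[K] (ZMod p → K) :=
  transOp p K - LinearMap.id

theorem diffOp_apply (f : ZMod p → K) (j : ZMod p) : diffOp p K f j = f (j - 1) - f j := rfl

/-- evaluation of polynomials at the points of `ZMod p` -/
noncomputable def evalOp (p : ℕ) [Fact p.Prime] (K : Type*) [Field K] [CharP K p] :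
    K[X] →ₗ[K] (ZMod p → K) where
  toFun P := fun j => P.eval (zcast p K j)
  map_add' P Q := by ext j; simp
  map_smul' c P := by ext j; simp

theorem evalOp_apply (P : K[X]) (j : ZMod p) : evalOp p K P j = P.eval (zcast p K j) := rfl

/-- polynomial functions of degree `< r` -/
noncomputable def polyFun (p : ℕ) [Fact p.Prime] (K : Type*) [Field K] [CharP K p] (r : ℕ) :
    Submodule K (ZMod p → K) :=
  (degreeLT K r).map (evalOp p K)

theorem mem_polyFun {r : ℕ} {f : ZMod p → K} :
    f ∈ polyFun p K r ↔
      ∃ P : K[X], P.degree < r ∧ ∀ j : ZMod p, f j = P.eval (ZMod.cast j : K) := by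
  unfold polyFun
  rw [Submodule.mem_map]
  constructor
  · rintro ⟨P, hP, rfl⟩
    exact ⟨P, mem_degreeLT.mp hP, fun j => rfl⟩
  · rintro ⟨P, hP, hf⟩
    exact ⟨P, mem_degreeLT.mpr hP, funext fun j => (hf j).symm⟩

theorem evalOp_eq_zero {P : K[X]} (hP : P.degree < p) (h : evalOp p K P = 0) : P = 0 := by
  apply eq_zero_of_natDegree_lt_card_of_eval_eq_zero P (zcast_injective (p := p) (K := K))
  · intro j; exact congrFun h j
  · rw [ZMod.card]
    by_cases hP0 : P = 0
    · rw [hP0, natDegree_zero]; exact (Fact.out : p.Prime).pos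
    · exact (natDegree_lt_iff_degree_lt hP0).mpr hP

theorem finrank_polyFun {r : ℕ} (hr : r ≤ p) : finrank K (polyFun p K r) = r := by
  have hinj : Function.Injective ((evalOp p K).domRestrict (degreeLT K r)) := by
    rw [← LinearMap.ker_eq_bot, LinearMap.ker_eq_bot']
    intro P hP
    apply Subtype.ext
    apply evalOp_eq_zero (lt_of_lt_of_le (mem_degreeLT.mp P.2) (by exact_mod_cast hr)) hP
  have h1 : polyFun p K r = LinearMap.range ((evalOp p K).domRestrict (degreeLT K r)) := by
    rw [LinearMap.range_domRestrict]; rfl
  rw [h1, LinearMap.finrank_range_of_inj hinj, (degreeLTEquiv K r).finrank_eq,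
    Module.finrank_fin_fun]

theorem diffOp_polyFun {r : ℕ} {f : ZMod p → K} (hf : f ∈ polyFun p K (r + 1)) :
    diffOp p K f ∈ polyFun p K r := by
  rw [mem_polyFun] at hf ⊢
  obtain ⟨P, hP, hf⟩ := hf
  refine ⟨P.comp (X - C 1) - P, ?_, ?_⟩
  · by_cases hP0 : P = 0
    · subst hP0
      simp only [zero_comp, sub_zero, degree_zero]
      exact WithBot.bot_lt_coe r
    · have hc0 : P.comp (X - C 1) ≠ 0 := by
        intro h0
        rcases comp_eq_zero_iff.mp h0 with h | ⟨_, h⟩
        · exact hP0 h
        · have h3 := congrArg natDegree h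
          rw [natDegree_X_sub_C, natDegree_C] at h3
          exact one_ne_zero h3
      have hnd : (P.comp (X - C 1)).natDegree = P.natDegree := by
        rw [natDegree_comp, natDegree_X_sub_C, mul_one]
      have h1 : (P.comp (X - C 1) - P).degree < (P.comp (X - C 1)).degree := by
        apply degree_sub_lt_left
        · rw [degree_eq_natDegree hc0, degree_eq_natDegree hP0, hnd]
        · exact hc0
        · rw [leadingCoeff_comp (by rw [natDegree_X_sub_C]; exact one_ne_zero),
            leadingCoeff_X_sub_C, one_pow, mul_one]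
      have h2 : (P.comp (X - C 1)).degree ≤ r := by
        rw [degree_eq_natDegree hc0, hnd]
        have h4 : P.natDegree < r + 1 := (natDegree_lt_iff_degree_lt hP0).mpr (by exact_mod_cast hP)
        exact_mod_cast Nat.lt_succ_iff.mp h4
      exact lt_of_lt_of_le h1 h2
  · intro j
    rw [diffOp_apply, hf, hf, eval_sub, eval_comp, eval_sub, eval_X, eval_C]
    congr 2
    change zcast p K (j - 1) = zcast p K j - 1
    rw [map_sub, map_one]

theorem diffOp_pow_polyFun (r : ℕ) {f : ZMod p → K} (hf : f ∈ polyFun p K r) :
    (diffOp p K ^ r) f = 0 := by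
  induction r generalizing f with
  | zero =>
    rw [mem_polyFun] at hf
    obtain ⟨P, hP, hf⟩ := hf
    have hP0 : P = 0 := by
      by_contra hne
      have h0 : P.natDegree < 0 := (natDegree_lt_iff_degree_lt hne).mpr (by exact_mod_cast hP)
      exact absurd h0 (Nat.not_lt_zero _)
    subst hP0
    rw [pow_zero, Module.End.one_apply]
    ext j
    rw [hf j]; simp
  | succ r ih =>
    rw [pow_succ, Module.End.mul_apply]
    exact ih (diffOp_polyFun hf)

theorem finrank_ker_diffOp_le : finrank K (LinearMap.ker (diffOp p K)) ≤ 1 := by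
  have h : LinearMap.ker (diffOp p K) ≤ Submodule.span K {(fun _ => (1 : K) : ZMod p → K)} := by
    intro f hf
    rw [LinearMap.mem_ker] at hf
    have h1 : ∀ j, f (j - 1) = f j := fun j => sub_eq_zero.mp (congrFun hf j)
    have h2 : ∀ n : ℕ, f (n : ZMod p) = f 0 := by
      intro n
      induction n with
      | zero => simp
      | succ n ih =>
        rw [← ih, ← h1 ((n + 1 : ℕ) : ZMod p)]
        congr 1
        push_cast; ring
    rw [Submodule.mem_span_singleton]
    refine ⟨f 0, ?_⟩
    ext j
    rw [← ZMod.natCast_zmod_val j, h2]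
    simp
  calc finrank K (LinearMap.ker (diffOp p K))
      ≤ finrank K (Submodule.span K {(fun _ => (1 : K) : ZMod p → K)}) := Submodule.finrank_mono h
    _ ≤ 1 := (finrank_span_le_card ({(fun _ => (1 : K) : ZMod p → K)} : Set (ZMod p → K))).trans
        (by simp)

theorem finrank_ker_diffOp_pow_le (r : ℕ) : finrank K (LinearMap.ker (diffOp p K ^ r)) ≤ r := by
  induction r with
  | zero =>
    have : LinearMap.ker (diffOp p K ^ 0) = ⊥ := by
      rw [pow_zero]; exact LinearMap.ker_id
    rw [this, finrank_bot]
  | succ r ih =>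
    let g : LinearMap.ker (diffOp p K ^ (r + 1)) →ₗ[K] LinearMap.ker (diffOp p K ^ r) :=
      ((diffOp p K).domRestrict _).codRestrict _ (by
        intro x
        rw [LinearMap.mem_ker, LinearMap.domRestrict_apply, ← Module.End.mul_apply, ← pow_succ]
        exact x.2)
    have h1 := LinearMap.finrank_range_add_finrank_ker g
    have h2 : finrank K (LinearMap.range g) ≤ finrank K (LinearMap.ker (diffOp p K ^ r)) :=
      Submodule.finrank_le _
    have h3 : finrank K (LinearMap.ker g) ≤ finrank K (LinearMap.ker (diffOp p K)) := by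
      let i : LinearMap.ker g →ₗ[K] LinearMap.ker (diffOp p K) :=
        (((LinearMap.ker (diffOp p K ^ (r + 1))).subtype).comp (LinearMap.ker g).subtype).codRestrict
          _ (by
            intro x
            have hx := x.2
            rw [LinearMap.mem_ker] at hx ⊢
            have := congrArg Subtype.val hx
            exact this)
      apply LinearMap.finrank_le_finrank_of_injective (f := i)
      intro x y hxy
      have := congrArg Subtype.val hxy
      exact Subtype.ext (Subtype.ext this)
    have h4 := finrank_ker_diffOp_le (p := p) (K := K)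
    omega

theorem polyFun_eq_top : polyFun p K p = ⊤ := by
  apply Submodule.eq_top_of_finrank_eq
  rw [finrank_polyFun le_rfl, Module.finrank_fintype_fun_eq_card, ZMod.card]

theorem diffOp_pow_p : diffOp p K ^ p = 0 := by
  apply LinearMap.ext
  intro f
  exact diffOp_pow_polyFun p (by rw [polyFun_eq_top]; trivial)

/-- a translation-invariant subspace is the space of polynomial functions of degree less than
its dimension -/
theorem transInv_eq_polyFun (W : Submodule K (ZMod p → K))
    (hW : ∀ f ∈ W, (fun j => f (j - 1)) ∈ W) :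
    finrank K W ≤ p ∧ W = polyFun p K (finrank K W) := by
  have hWD : ∀ f ∈ W, diffOp p K f ∈ W := fun f hf => W.sub_mem (hW f hf) hf
  have hrp : finrank K W ≤ p := by
    have := Submodule.finrank_le W
    rwa [Module.finrank_fintype_fun_eq_card, ZMod.card] at this
  have hnil : IsNilpotent ((diffOp p K).restrict hWD) := by
    refine ⟨p, ?_⟩
    rw [Module.End.pow_restrict]
    apply LinearMap.ext
    intro w
    apply Subtype.ext
    rw [LinearMap.restrict_apply]
    simp [diffOp_pow_p]
  have hpow : ((diffOp p K).restrict hWD) ^ (finrank K W) = 0 := by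
    have h1 := IsNilpotent.charpoly_eq_X_pow_finrank hnil
    have h2 := LinearMap.aeval_self_charpoly ((diffOp p K).restrict hWD)
    rw [h1] at h2
    simpa using h2
  have hWker : W ≤ LinearMap.ker (diffOp p K ^ (finrank K W)) := by
    intro w hw
    rw [LinearMap.mem_ker]
    have h3 := congrArg (fun φ : Module.End K W => ((φ ⟨w, hw⟩ : W) : ZMod p → K)) hpow
    rw [Module.End.pow_restrict] at h3
    simpa using h3
  have hVker : polyFun p K (finrank K W) ≤ LinearMap.ker (diffOp p K ^ (finrank K W)) :=
    fun f hf => diffOp_pow_polyFun _ hf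
  have hdim := finrank_ker_diffOp_pow_le (p := p) (K := K) (finrank K W)
  have e1 : W = LinearMap.ker (diffOp p K ^ (finrank K W)) :=
    Submodule.eq_of_le_of_finrank_le hWker hdim
  have e2 : polyFun p K (finrank K W) = LinearMap.ker (diffOp p K ^ (finrank K W)) :=
    Submodule.eq_of_le_of_finrank_le hVker (by rw [finrank_polyFun hrp]; exact hdim)
  exact ⟨hrp, e1.trans e2.symm⟩

end TransInv

end Cfsg.Agent.H75
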