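import Mathlib
import Cfsg.Prelude.Def_Perm
import Cfsg.Agent.H75.TransInv

set_option autoImplicit false
set_option linter.unusedSectionVars false
set_option linter.style.haveILetI false

namespace Cfsg.Agent.H75

open Polynomial Module

section Muller

variable {p : ℕ} [Fact p.Prime] {K : Type*} [Field K] [CharP K p]

/-- Müller's degree argument: a permutation of `ZMod p` preserving the polynomial functions of
degree `< r` (with `2 ≤ r`, `2 r ≤ p + 1`) is affine. -/
theorem affine_of_polyFun_invariant (r : ℕ) (hr2 : 2 ≤ r) (hrp : 2 * r ≤ p + 1)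
    (σ : Equiv.Perm (ZMod p))
    (hσ : ∀ f ∈ polyFun p K r, (fun j => f (σ j)) ∈ polyFun p K r) :
    ∃ a b : ZMod p, ∀ j, σ j = a * j + b := by
  have hp : p.Prime := Fact.out
  have hp2 : 2 ≤ p := hp.two_le
  have h01 : (0 : ZMod p) ≠ 1 := zero_ne_one
  have hX : (fun j => zcast p K j) ∈ polyFun p K r := by
    rw [mem_polyFun]
    refine ⟨X, ?_, fun j => by rw [eval_X]; rfl⟩
    rw [degree_X]
    exact_mod_cast (by omega : 1 < r)
  obtain ⟨P, hPdeg, hP⟩ := mem_polyFun.mp (hσ _ hX)
  have hP' : ∀ j, zcast p K (σ j) = P.eval (zcast p K j) := hP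
  have hP0 : P ≠ 0 := by
    rintro rfl
    have h0 := hP' 0
    have h1 := hP' 1
    rw [eval_zero] at h0 h1
    exact h01 (σ.injective (zcast_injective (h0.trans h1.symm)))
  have hm_lt : P.natDegree < r := (natDegree_lt_iff_degree_lt hP0).mpr hPdeg
  have hm1 : 1 ≤ P.natDegree := by
    by_contra hcon
    have hm0 : P.natDegree = 0 := by omega
    obtain ⟨c, hc⟩ := natDegree_eq_zero.mp hm0
    have h0 := hP' 0
    have h1 := hP' 1
    rw [← hc, eval_C] at h0 h1
    exact h01 (σ.injective (zcast_injective (h0.trans h1.symm)))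
  have hm2 : P.natDegree ≤ 1 := by
    by_contra hcon
    push Not at hcon
    obtain ⟨m, hm⟩ : ∃ m, P.natDegree = m := ⟨_, rfl⟩
    rw [hm] at hcon hm_lt hm1
    obtain ⟨k, hk⟩ : ∃ k, (r + m - 1) / m = k := ⟨_, rfl⟩
    have hdm := Nat.div_add_mod (r + m - 1) m
    have hmod := Nat.mod_lt (r + m - 1) (by omega : 0 < m)
    rw [hk] at hdm
    have hkm_ge : r ≤ m * k := by omega
    have hkm_le : m * k ≤ r + m - 1 := by omega
    have hk_lt : k < r := by
      by_contra hkr
      push Not at hkr
      have h5 : m * r ≤ m * k := Nat.mul_le_mul_left m hkr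
      have h6 : 2 * r ≤ m * r := Nat.mul_le_mul_right r hcon
      omega
    have hkm_p : m * k < p := by omega
    have hXk : (fun j => zcast p K j ^ k) ∈ polyFun p K r := by
      rw [mem_polyFun]
      refine ⟨X ^ k, ?_, fun j => by rw [eval_pow, eval_X]; rfl⟩
      rw [degree_X_pow]
      exact_mod_cast hk_lt
    obtain ⟨Q, hQdeg, hQ⟩ := mem_polyFun.mp (hσ _ hXk)
    have hQ' : ∀ j, zcast p K (σ j) ^ k = Q.eval (zcast p K j) := hQ
    have hPk : (P ^ k).natDegree = m * k := by rw [natDegree_pow, hm, mul_comm]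
    have hQnat : Q.natDegree < r := by
      by_cases hQ0 : Q = 0
      · rw [hQ0, natDegree_zero]; omega
      · exact (natDegree_lt_iff_degree_lt hQ0).mpr hQdeg
    have heq : P ^ k = Q := by
      apply eq_of_natDegree_lt_card_of_eval_eq (P ^ k) Q (zcast_injective (p := p) (K := K))
      · intro j
        rw [eval_pow, ← hP' j]
        exact hQ' j
      · rw [ZMod.card, hPk]
        exact max_lt hkm_p (by omega)
    rw [← heq, hPk] at hQnat
    omega
  have hPeq := eq_X_add_C_of_natDegree_le_one hm2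
  have hval : ∀ j, zcast p K (σ j) = P.coeff 1 * zcast p K j + P.coeff 0 := by
    intro j
    rw [hP' j]
    conv_lhs => rw [hPeq]
    simp
  refine ⟨σ 1 - σ 0, σ 0, fun j => ?_⟩
  apply zcast_injective (p := p) (K := K)
  rw [map_add, map_mul, map_sub, hval j, hval 1, hval 0]
  simp

/-- a group of affine permutations of `ZMod p` is solvable -/
theorem isSolvable_of_affine {G : Type*} [Group G] (ρ : G →* Equiv.Perm (ZMod p))
    (hρ : Function.Injective ρ) (haff : ∀ g : G, ∃ a b : ZMod p, ∀ j, ρ g j = a * j + b) :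
    Group.IsSolvable G := by
  have hform : ∀ g : G, ∀ j, ρ g j = (ρ g 1 - ρ g 0) * j + ρ g 0 := by
    intro g j
    obtain ⟨a, b, hab⟩ := haff g
    rw [hab j, hab 1, hab 0]; ring
  let φ : G →* ZMod p :=
    { toFun := fun g => ρ g 1 - ρ g 0
      map_one' := by simp
      map_mul' := by
        intro g h
        simp only [map_mul, Equiv.Perm.mul_apply]
        rw [hform g (ρ h 1), hform g (ρ h 0)]; ring }
  have hker : ∀ g ∈ φ.toHomUnits.ker, ∀ j, ρ g j = j + ρ g 0 := by
    intro g hg j
    have h1 : φ g = 1 := by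
      have h3 := congrArg Units.val (MonoidHom.mem_ker.mp hg)
      rwa [MonoidHom.coe_toHomUnits, Units.val_one] at h3
    have h2 : ρ g 1 - ρ g 0 = 1 := h1
    rw [hform g j, h2, one_mul]
  haveI : Group.IsSolvable φ.toHomUnits.ker := by
    apply Group.isSolvable_of_comm
    intro a b
    apply Subtype.ext
    apply hρ
    ext j
    simp only [Subgroup.coe_mul, map_mul, Equiv.Perm.mul_apply]
    rw [hker a a.2 (ρ b j), hker b b.2 j, hker b b.2 (ρ a j), hker a a.2 j]
    ring
  exact Group.isSolvable_of_ker_le_range φ.toHomUnits.ker.subtype φ.toHomUnits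
    (by rw [Subgroup.range_subtype])

theorem solvable_of_invariant_small {G : Type*} [Group G] (ρ : G →* Equiv.Perm (ZMod p))
    (hρ : Function.Injective ρ) (t : G) (ht : ∀ j, ρ t j = j + 1)
    (W : Submodule K (ZMod p → K)) (hW : ∀ g : G, ∀ f ∈ W, (fun j => f (ρ g j)) ∈ W)
    (h2 : 2 ≤ finrank K W) (hsmall : 2 * finrank K W ≤ p + 1) : Group.IsSolvable G := by
  have htinv : ∀ j, ρ t⁻¹ j = j - 1 := by
    intro j
    rw [map_inv, Equiv.Perm.inv_eq_iff_eq, ht]; ring
  have hWt : ∀ f ∈ W, (fun j => f (j - 1)) ∈ W := by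
    intro f hf
    have := hW t⁻¹ f hf
    simpa only [htinv] using this
  obtain ⟨-, hWeq⟩ := transInv_eq_polyFun W hWt
  apply isSolvable_of_affine ρ hρ
  intro g
  apply affine_of_polyFun_invariant (K := K) (finrank K W) h2 hsmall (ρ g)
  intro f hf
  rw [← hWeq] at hf ⊢
  exact hW g f hf

/-- a group of permutations of `ZMod p` containing the translation and preserving a subspace of
functions of dimension between `2` and `p - 2` is solvable -/
theorem solvable_of_invariant {G : Type*} [Group G] (ρ : G →* Equiv.Perm (ZMod p))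
    (hρ : Function.Injective ρ) (t : G) (ht : ∀ j, ρ t j = j + 1)
    (W : Submodule K (ZMod p → K)) (hW : ∀ g : G, ∀ f ∈ W, (fun j => f (ρ g j)) ∈ W)
    (h2 : 2 ≤ finrank K W) (hp2 : finrank K W + 2 ≤ p) : Group.IsSolvable G := by
  by_cases hsmall : 2 * finrank K W ≤ p + 1
  · exact solvable_of_invariant_small ρ hρ t ht W hW h2 hsmall
  · let B : LinearMap.BilinForm K (ZMod p → K) :=
      Matrix.toBilin' (1 : Matrix (ZMod p) (ZMod p) K)
    have hB : B.Nondegenerate :=
      LinearMap.BilinForm.nondegenerate_toBilin'_of_det_ne_zero' _ (by simp)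
    have hBapp : ∀ x y : ZMod p → K, B x y = ∑ i, x i * y i := by
      intro x y
      simp [B, Matrix.toBilin'_apply', dotProduct]
    have hfin := LinearMap.BilinForm.finrank_orthogonal hB W
    rw [Module.finrank_fintype_fun_eq_card, ZMod.card] at hfin
    apply solvable_of_invariant_small ρ hρ t ht (B.orthogonal W)
    · intro g f hf
      rw [LinearMap.BilinForm.mem_orthogonal_iff] at hf ⊢
      intro n hn
      rw [hBapp]
      have h1 : ∑ i, n i * f (ρ g i) = ∑ i, n (ρ g⁻¹ (ρ g i)) * f (ρ g i) := by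
        refine Finset.sum_congr rfl fun i _ => ?_
        rw [map_inv]; simp
      rw [h1, Equiv.sum_comp (ρ g) (fun i => n (ρ g⁻¹ i) * f i), ← hBapp]
      exact hf _ (hW g⁻¹ n hn)
    · omega
    · omega

end Muller

section Transport

variable {α : Type*} [Fintype α] [DecidableEq α] {p : ℕ} [Fact p.Prime]

/-- a transitive group of prime degree contains a full cycle, which identifies the set with
`ZMod p` so that the cycle becomes the translation -/
theorem exists_equiv_zmod (hα : Fintype.card α = p) (G : Subgroup (Equiv.Perm α))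
    [MulAction.IsPretransitive G α] :
    ∃ (t : G) (e : ZMod p ≃ α), ∀ j, (t : Equiv.Perm α) (e j) = e (j + 1) := by
  classical
  have hp : p.Prime := Fact.out
  haveI : Nonempty α := Fintype.card_pos_iff.mp (by rw [hα]; exact hp.pos)
  obtain ⟨a₀⟩ := ‹Nonempty α›
  have hdvd : p ∣ Nat.card G := by
    have h1 : (MulAction.stabilizer G a₀).index = Nat.card α :=
      MulAction.index_stabilizer_of_transitive G a₀
    rw [Nat.card_eq_fintype_card, hα] at h1
    rw [← h1]
    exact Subgroup.index_dvd_card _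
  obtain ⟨t, ht⟩ := exists_prime_orderOf_dvd_card' p hdvd
  have htord : orderOf (t : Equiv.Perm α) = p := by rw [Subgroup.orderOf_coe]; exact ht
  have hcyc : (t : Equiv.Perm α).IsCycle :=
    Equiv.Perm.isCycle_of_prime_order'' (by rw [hα]; exact hp) (by rw [htord, hα])
  have hsupp : (t : Equiv.Perm α).support = Finset.univ := by
    apply Finset.eq_univ_of_card
    rw [← hcyc.orderOf, htord, hα]
  have hmoved : ∀ x, (t : Equiv.Perm α) x ≠ x := fun x =>
    Equiv.Perm.mem_support.mp (by rw [hsupp]; exact Finset.mem_univ x)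
  let e' : ZMod p → α := fun j => ((t : Equiv.Perm α) ^ j.val) a₀
  have hsurj : Function.Surjective e' := by
    intro y
    obtain ⟨i, hi⟩ := hcyc.exists_pow_eq (hmoved a₀) (hmoved y)
    refine ⟨(i : ZMod p), ?_⟩
    change ((t : Equiv.Perm α) ^ ((i : ZMod p)).val) a₀ = y
    rw [ZMod.val_natCast, ← htord, pow_mod_orderOf, hi]
  have hbij : Function.Bijective e' := by
    rw [Fintype.bijective_iff_surjective_and_card]
    exact ⟨hsurj, by rw [ZMod.card, hα]⟩
  refine ⟨t, Equiv.ofBijective e' hbij, fun j => ?_⟩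
  change (t : Equiv.Perm α) (((t : Equiv.Perm α) ^ j.val) a₀)
    = ((t : Equiv.Perm α) ^ (j + 1).val) a₀
  rw [← Equiv.Perm.mul_apply, ← pow_succ']
  congr 1
  rw [ZMod.val_add, ZMod.val_one]
  have hmod : (t : Equiv.Perm α) ^ ((j.val + 1) % p) = (t : Equiv.Perm α) ^ (j.val + 1) := by
    have h := pow_mod_orderOf (t : Equiv.Perm α) (j.val + 1)
    rwa [htord] at h
  rw [hmod]

/-- the heart of the permutation module of a non-solvable transitive group of prime degree is
irreducible -/
theorem heart_irreducible (hα : Fintype.card α = p) (G : Subgroup (Equiv.Perm α))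
    [MulAction.IsPretransitive G α] (hG : ¬ Group.IsSolvable G) {K : Type*} [Field K] [CharP K p]
    (W : Subrepresentation (Cfsg.permRep K G α))
    (h₁ : (Cfsg.permConstants K G α).toSubmodule ≤ W.toSubmodule)
    (h₂ : W.toSubmodule ≤ (Cfsg.permSumZero K G α).toSubmodule) :
    W = Cfsg.permConstants K G α ∨ W = Cfsg.permSumZero K G α := by
  classical
  have hp : p.Prime := Fact.out
  haveI : Nonempty α := Fintype.card_pos_iff.mp (by rw [hα]; exact hp.pos)
  obtain ⟨a₀⟩ := ‹Nonempty α›
  obtain ⟨t, e, hte⟩ := exists_equiv_zmod hα G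
  let ρ : G →* Equiv.Perm (ZMod p) := (e.symm.permCongrHom.toMonoidHom).comp G.subtype
  have hρapp : ∀ (g : G) (j : ZMod p), ρ g j = e.symm ((g : Equiv.Perm α) (e j)) := fun g j => rfl
  have hρinj : Function.Injective ρ := fun a b hab =>
    Subtype.ext (e.symm.permCongrHom.injective hab)
  have hρt : ∀ j, ρ t j = j + 1 := fun j => by rw [hρapp, hte, Equiv.symm_apply_apply]
  let L : (α → K) ≃ₗ[K] (ZMod p → K) := LinearEquiv.funCongrLeft K K e
  have hL : ∀ (f : α → K) (j : ZMod p), L f j = f (e j) := fun f j => rfl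
  have hW'inv : ∀ g : G, ∀ f' ∈ W.toSubmodule.map L.toLinearMap,
      (fun j => f' (ρ g j)) ∈ W.toSubmodule.map L.toLinearMap := by
    rintro g _ ⟨f, hf, rfl⟩
    refine ⟨Cfsg.permRep K G α g⁻¹ f, W.apply_mem_toSubmodule g⁻¹ hf, ?_⟩
    ext j
    change L (Cfsg.permRep K G α g⁻¹ f) j = L f (ρ g j)
    rw [hL, hL, hρapp, Equiv.apply_symm_apply]
    change f ((g⁻¹)⁻¹ • e j) = f ((g : Equiv.Perm α) (e j))
    rw [inv_inv]
    rfl
  have hfinW' : finrank K (W.toSubmodule.map L.toLinearMap) = finrank K W.toSubmodule :=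
    LinearEquiv.finrank_map_eq L _
  have hconst : finrank K (Cfsg.permConstants K G α).toSubmodule = 1 := by
    apply finrank_span_singleton
    intro h
    have := congrFun h a₀
    simp at this
  have hr1 : 1 ≤ finrank K W.toSubmodule := by
    rw [← hconst]; exact Submodule.finrank_mono h₁
  have hsz_lt : finrank K (Cfsg.permSumZero K G α).toSubmodule < p := by
    have h3 : (Cfsg.permSumZero K G α).toSubmodule ≠ ⊤ := by
      intro h
      have h1 : (Pi.single a₀ 1 : α → K) ∈ (Cfsg.permSumZero K G α).toSubmodule := by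
        rw [h]; trivial
      have h2 : ∑ x, (Pi.single a₀ (1 : K) : α → K) x = 0 := h1
      rw [Finset.sum_pi_single'] at h2
      simp at h2
    have h4 := Submodule.finrank_lt h3
    rwa [Module.finrank_fintype_fun_eq_card, hα] at h4
  have hr_lt : finrank K W.toSubmodule < p := lt_of_le_of_lt (Submodule.finrank_mono h₂) hsz_lt
  by_cases hr_eq1 : finrank K W.toSubmodule = 1
  · left
    apply Subrepresentation.toSubmodule_injective
    exact (Submodule.eq_of_le_of_finrank_le h₁ (by rw [hr_eq1, hconst])).symm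
  by_cases hr_eqp : finrank K W.toSubmodule = p - 1
  · right
    apply Subrepresentation.toSubmodule_injective
    exact Submodule.eq_of_le_of_finrank_le h₂ (by rw [hr_eqp]; omega)
  exfalso
  apply hG
  exact solvable_of_invariant (K := K) ρ hρinj t hρt (W.toSubmodule.map L.toLinearMap) hW'inv
    (by rw [hfinW']; omega) (by rw [hfinW']; omega)

end Transport

end Cfsg.Agent.H75
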