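import Mathlib

set_option autoImplicit false
set_option linter.unusedSectionVars false

namespace Cfsg.Agent.H75

open Matrix

theorem design_arith_false (n k : ℕ) (lam a b : ℤ) (m : ℕ) (hm : Odd m) (hk : 2 ≤ k)
    (hkn : k + 2 ≤ n) (hcop : k.Coprime n) (hlam : lam * ((n : ℤ) - 1) = (k : ℤ) * ((k : ℤ) - 1))
    (hq : ((k : ℤ) - lam) ^ m = b * b) (hkm : (k : ℤ) ^ m = a * (n : ℤ) + b) : False := by
  have hk' : (2 : ℤ) ≤ k := by exact_mod_cast hk
  have hkn' : (k : ℤ) + 2 ≤ n := by exact_mod_cast hkn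
  have hlam_pos : 0 < lam := by
    by_contra hcon
    push Not at hcon
    nlinarith
  have hlam_lt : lam < k := by
    by_contra hcon
    push Not at hcon
    nlinarith
  have hq_lt : (k : ℤ) - lam < n - k := by
    by_contra hcon
    push Not at hcon
    nlinarith [mul_nonneg (show (0:ℤ) ≤ (n:ℤ) - k - 2 by linarith) (show (0:ℤ) ≤ (n:ℤ) - k - 1 by linarith)]
  obtain ⟨j, hj⟩ := hm
  set q : ℤ := (k : ℤ) - lam with hqdef
  have hq1 : 1 ≤ q := by linarith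
  have hqpos : 0 < q ^ j := pow_pos (by linarith) j
  -- q is a perfect square
  have hdvd : q ^ j ∣ b := by
    have h1 : (q ^ j) ^ 2 ∣ b ^ 2 := by
      refine ⟨q, ?_⟩
      rw [pow_two b, ← hq, hj]; ring
    exact (Int.pow_dvd_pow_iff (by norm_num)).mp h1
  obtain ⟨t, ht⟩ := hdvd
  have hqt : q = t * t := by
    have h1 : q ^ j * q ^ j * q = q ^ j * q ^ j * (t * t) := by
      calc q ^ j * q ^ j * q = q ^ m := by rw [hj]; ring
        _ = b * b := hq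
        _ = q ^ j * q ^ j * (t * t) := by rw [ht]; ring
    exact mul_left_cancel₀ (mul_pos hqpos hqpos).ne' h1
  have hbt : b = t ^ m := by
    rw [ht, hqt, hj]; ring
  have htne : t ≠ 0 := by
    rintro rfl
    simp at hqt
    omega
  -- k² ≡ t² mod n
  have hk2 : (k : ℤ) ^ 2 = t ^ 2 + lam * n := by
    have : (k : ℤ) ^ 2 = q + lam * n := by rw [hqdef]; linarith
    rw [this, hqt]; ring
  have hcop' : IsCoprime (k : ℤ) (n : ℤ) := by
    exact_mod_cast Nat.isCoprime_iff_coprime.mpr hcop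
  have hcopt : IsCoprime t (n : ℤ) := by
    have h1 : IsCoprime ((k : ℤ) ^ 2) (n : ℤ) := hcop'.pow_left
    rw [hk2] at h1
    have h2 : IsCoprime (t ^ 2) (n : ℤ) := by
      have h3 : t ^ 2 + lam * (n : ℤ) = t ^ 2 + (n : ℤ) * lam := by ring
      rw [h3] at h1
      exact IsCoprime.of_add_mul_left_left h1
    exact (IsCoprime.pow_left_iff (by norm_num)).mp h2
  -- n ∣ t^(2j) * (k - t)
  have hmod : (n : ℤ) ∣ t ^ (2 * j) * ((k : ℤ) - t) := by
    have h1 : (k : ℤ) ^ m - b = a * n := by linarith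
    have h2 : (n : ℤ) ∣ ((k : ℤ) ^ 2) ^ j - (t ^ 2) ^ j := by
      have : ((k : ℤ) ^ 2 - t ^ 2) ∣ ((k : ℤ) ^ 2) ^ j - (t ^ 2) ^ j := sub_dvd_pow_sub_pow _ _ j
      exact Dvd.dvd.trans ⟨lam, by rw [hk2]; ring⟩ this
    obtain ⟨c, hc⟩ := h2
    refine ⟨a - k * c, ?_⟩
    have e1 : (k : ℤ) ^ m = k * ((k : ℤ) ^ 2) ^ j := by rw [hj]; ring
    have e2 : t ^ m = t * (t ^ 2) ^ j := by rw [hj]; ring
    have e3 : t ^ (2 * j) = (t ^ 2) ^ j := by ring
    rw [e3]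
    have e4 : (k : ℤ) * ((k : ℤ) ^ 2) ^ j - t * (t ^ 2) ^ j = a * n := by
      rw [← e1, ← e2, ← hbt]; exact h1
    linear_combination e4 - (k : ℤ) * hc
  have hdvd2 : (n : ℤ) ∣ (k : ℤ) - t :=
    (hcopt.symm.pow_right).dvd_of_dvd_mul_left hmod
  -- |t| ≤ q < min k (n-k)
  have htq : t * t = q := hqt.symm
  have habs : |t| ≤ q := by
    have h1 : |t| * |t| = q := by rw [abs_mul_abs_self]; exact htq
    have h2 : 1 ≤ |t| := Int.one_le_abs htne
    nlinarith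
  have hqk : q < k := by linarith
  obtain ⟨c, hc⟩ := hdvd2
  have hle := abs_le.mp habs
  have hn4 : (4 : ℤ) ≤ n := by linarith
  -- k - t is strictly between 0 and n... unless t = k - n
  have h1 : 0 < (k : ℤ) - t := by linarith [hle.2]
  have h2 : (k : ℤ) - t < n := by linarith [hle.1]
  have hc0 : 0 < c := by
    by_contra hcon
    push Not at hcon
    nlinarith
  have hc1 : c < 1 := by
    by_contra hcon
    push Not at hcon
    nlinarith
  omega


section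
variable {G Ω : Type*} [Group G] [MulAction G Ω] [Fintype Ω] [DecidableEq Ω]

/-- twisted invariance of a matrix under a group action -/
def TwInv (β : MulAut G) (N : Matrix Ω Ω ℤ) : Prop :=
  ∀ (g : G) (x y : Ω), N (β g • x) (g • y) = N x y

theorem TwInv.mul {β γ : MulAut G} {N₁ N₂ : Matrix Ω Ω ℤ} (h₁ : TwInv β N₁) (h₂ : TwInv γ N₂) :
    TwInv (β * γ) (N₁ * N₂) := by
  intro g x y
  rw [Matrix.mul_apply, Matrix.mul_apply, ← Equiv.sum_comp (MulAction.toPerm (γ g))]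
  apply Finset.sum_congr rfl
  intro z _
  rw [MulAut.mul_apply]
  have e1 := h₁ (γ g) x z
  have e2 := h₂ g z y
  simp only [MulAction.toPerm_apply]
  rw [e1, e2]

theorem TwInv.one : TwInv (1 : MulAut G) (1 : Matrix Ω Ω ℤ) := by
  intro g x y
  simp [Matrix.one_apply]

theorem TwInv.pow {β : MulAut G} {N : Matrix Ω Ω ℤ} (h : TwInv β N) (j : ℕ) :
    TwInv (β ^ j) (N ^ j) := by
  induction j with
  | zero => simpa using TwInv.one
  | succ j ih => rw [pow_succ, pow_succ]; exact ih.mul h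

theorem const_of_two_trans
    (h2 : ∀ {a b c d : Ω}, a ≠ b → c ≠ d → ∃ g : G, g • a = c ∧ g • b = d)
    (f : Ω → Ω → ℤ) (hf : ∀ (g : G) (x y : Ω), f (g • x) (g • y) = f x y) (x₀ x₁ : Ω)
    (h01 : x₀ ≠ x₁) :
    ∀ x y, f x y = f x₀ x₁ + if x = y then f x₀ x₀ - f x₀ x₁ else 0 := by
  intro x y
  by_cases hxy : x = y
  · subst hxy
    obtain ⟨x', hx'⟩ : ∃ x', x ≠ x' := by
      by_cases h : x = x₀
      · exact ⟨x₁, h ▸ h01⟩
      · exact ⟨x₀, h⟩
    obtain ⟨g, hg1, hg2⟩ := h2 h01 hx'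
    rw [if_pos rfl, ← hg1, hf]; ring
  · obtain ⟨g, hg1, hg2⟩ := h2 h01 hxy
    rw [if_neg hxy, ← hg1, ← hg2, hf]; ring

/-- matrices of the form `u J + v I` -/
def Form (N : Matrix Ω Ω ℤ) (v : ℤ) : Prop :=
  ∃ u : ℤ, ∀ x y, N x y = u + if x = y then v else 0

omit [Group G] [MulAction G Ω] in
theorem Form.mul {N₁ N₂ : Matrix Ω Ω ℤ} {v₁ v₂ : ℤ} (h₁ : Form N₁ v₁) (h₂ : Form N₂ v₂) :
    Form (N₁ * N₂) (v₁ * v₂) := by
  obtain ⟨u₁, h₁⟩ := h₁
  obtain ⟨u₂, h₂⟩ := h₂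
  refine ⟨Fintype.card Ω * u₁ * u₂ + u₁ * v₂ + v₁ * u₂, fun x y => ?_⟩
  rw [Matrix.mul_apply]
  simp only [h₁, h₂]
  simp only [add_mul, mul_add, Finset.sum_add_distrib, Finset.sum_const, Finset.card_univ,
    ite_mul, mul_ite, zero_mul, mul_zero, Finset.sum_ite_eq, Finset.sum_ite_eq', Finset.mem_univ,
    if_true, nsmul_eq_mul]
  by_cases hxy : x = y
  · subst hxy; simp; ring
  · simp [hxy]; ring

omit [Group G] [MulAction G Ω] in
theorem Form.one : Form (1 : Matrix Ω Ω ℤ) 1 :=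
  ⟨0, fun x y => by simp [Matrix.one_apply]⟩

omit [Group G] [MulAction G Ω] in
theorem Form.pow {N : Matrix Ω Ω ℤ} {v : ℤ} (h : Form N v) (j : ℕ) : Form (N ^ j) (v ^ j) := by
  induction j with
  | zero => simpa using Form.one
  | succ j ih => rw [pow_succ, pow_succ]; exact ih.mul h

omit [Group G] [MulAction G Ω] in
theorem Form.transpose {N : Matrix Ω Ω ℤ} {v : ℤ} (h : Form N v) : Form Nᵀ v := by
  obtain ⟨u, h⟩ := h
  refine ⟨u, fun x y => ?_⟩
  rw [Matrix.transpose_apply, h]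
  simp [eq_comm]

omit [Group G] [MulAction G Ω] in
theorem Form.unique {N : Matrix Ω Ω ℤ} {v v' : ℤ} (h : Form N v) (h' : Form N v') (x₀ x₁ : Ω)
    (h01 : x₀ ≠ x₁) : v = v' := by
  obtain ⟨u, h⟩ := h
  obtain ⟨u', h'⟩ := h'
  have e1 := h x₀ x₁
  have e2 := h' x₀ x₁
  have e3 := h x₀ x₀
  have e4 := h' x₀ x₀
  simp [h01] at e1 e2 e3 e4
  linarith

/-- The matrix form of the main argument: a twisted-invariant `0/1` matrix with constant column
sums `k`, `2 ≤ k ≤ n - 2`, `gcd(k, n) = 1`, cannot exist when the twist has odd order. -/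
theorem no_twisted_design
    (h2 : ∀ {a b c d : Ω}, a ≠ b → c ≠ d → ∃ g : G, g • a = c ∧ g • b = d)
    (α : MulAut G) (m : ℕ) (hm : Odd m) (hαm : α ^ m = 1)
    (M : Matrix Ω Ω ℤ) (hM : TwInv α M) (hM01 : ∀ x y, M x y * M x y = M x y)
    (k : ℕ) (hcol : ∀ y, ∑ x, M x y = (k : ℤ))
    (hcop : Nat.Coprime k (Fintype.card Ω)) (hk : 2 ≤ k) (hkn : k + 2 ≤ Fintype.card Ω) :
    False := by
  -- two distinct points
  have hcard : 1 < Fintype.card Ω := by omega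
  obtain ⟨x₀, x₁, h01⟩ := Fintype.exists_pair_of_one_lt_card hcard
  have htrans : ∀ x x' : Ω, ∃ g : G, g • x = x' := by
    intro x x'
    by_cases h : x = x'
    · exact ⟨1, by simp [h]⟩
    · obtain ⟨g, hg, _⟩ := h2 h (Ne.symm h)
      exact ⟨g, hg⟩
  -- row sums
  have hrowinv : ∀ (g : G) (x : Ω), ∑ y, M (g • x) y = ∑ y, M x y := by
    intro g x
    obtain ⟨h, rfl⟩ : ∃ h, α h = g := ⟨α.symm g, by simp⟩
    rw [← Equiv.sum_comp (MulAction.toPerm h)]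
    apply Finset.sum_congr rfl
    intro y _
    exact hM h x y
  have hrow : ∀ x, ∑ y, M x y = (k : ℤ) := by
    have hconst : ∀ x, ∑ y, M x y = ∑ y, M x₀ y := by
      intro x
      obtain ⟨g, rfl⟩ := htrans x₀ x
      exact hrowinv g x₀
    have htot : ∑ x, ∑ y, M x y = (Fintype.card Ω : ℤ) * (k : ℤ) := by
      calc ∑ x, ∑ y, M x y = ∑ y, ∑ x, M x y := Finset.sum_comm
        _ = (Fintype.card Ω : ℤ) * (k : ℤ) := by simp [hcol]
    have htot2 : ∑ x, ∑ y, M x y = (Fintype.card Ω : ℤ) * ∑ y, M x₀ y := by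
      simp [hconst]
    have hpos : (Fintype.card Ω : ℤ) ≠ 0 := by
      have : 0 < Fintype.card Ω := by omega
      exact_mod_cast this.ne'
    intro x
    rw [hconst x]
    exact mul_left_cancel₀ hpos (htot2.symm.trans htot)
  have hn1 : ((Fintype.card Ω : ℤ) - 1) ≠ 0 := by
    have : (2 : ℤ) ≤ (Fintype.card Ω : ℤ) := by exact_mod_cast hcard
    linarith
  -- M * Mᵀ
  have hμinv : ∀ (g : G) (x x' : Ω), (M * Mᵀ) (g • x) (g • x') = (M * Mᵀ) x x' := by
    intro g x x'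
    obtain ⟨h, rfl⟩ : ∃ h, α h = g := ⟨α.symm g, by simp⟩
    rw [Matrix.mul_apply, Matrix.mul_apply, ← Equiv.sum_comp (MulAction.toPerm h)]
    apply Finset.sum_congr rfl
    intro y _
    simp only [Matrix.transpose_apply, MulAction.toPerm_apply]
    rw [hM h x y, hM h x' y]
  have hμ := const_of_two_trans h2 (fun x x' => (M * Mᵀ) x x') hμinv x₀ x₁ h01
  have hμdiag : (M * Mᵀ) x₀ x₀ = (k : ℤ) := by
    rw [Matrix.mul_apply, ← hrow x₀]
    apply Finset.sum_congr rfl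
    intro y _
    rw [Matrix.transpose_apply]
    exact hM01 x₀ y
  have hμsum : ∑ x', (M * Mᵀ) x₀ x' = (k : ℤ) * (k : ℤ) := by
    simp only [Matrix.mul_apply, Matrix.transpose_apply]
    rw [Finset.sum_comm]
    simp only [← Finset.mul_sum, hcol]
    rw [← Finset.sum_mul, hrow]
  have hlam : (M * Mᵀ) x₀ x₁ * ((Fintype.card Ω : ℤ) - 1) = (k : ℤ) * ((k : ℤ) - 1) := by
    have h3 : ∑ x', (M * Mᵀ) x₀ x' = ∑ x', ((M * Mᵀ) x₀ x₁ +
        if x₀ = x' then (M * Mᵀ) x₀ x₀ - (M * Mᵀ) x₀ x₁ else 0) :=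
      Finset.sum_congr rfl (fun x' _ => hμ x₀ x')
    rw [hμsum, Finset.sum_add_distrib, Finset.sum_ite_eq, hμdiag] at h3
    simp at h3
    linarith
  -- Mᵀ * M
  have hνinv : ∀ (g : G) (y y' : Ω), (Mᵀ * M) (g • y) (g • y') = (Mᵀ * M) y y' := by
    intro g y y'
    rw [Matrix.mul_apply, Matrix.mul_apply, ← Equiv.sum_comp (MulAction.toPerm (α g))]
    apply Finset.sum_congr rfl
    intro x _
    simp only [Matrix.transpose_apply, MulAction.toPerm_apply]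
    rw [hM g x y, hM g x y']
  have hν := const_of_two_trans h2 (fun y y' => (Mᵀ * M) y y') hνinv x₀ x₁ h01
  have hνdiag : (Mᵀ * M) x₀ x₀ = (k : ℤ) := by
    rw [Matrix.mul_apply, ← hcol x₀]
    apply Finset.sum_congr rfl
    intro x _
    rw [Matrix.transpose_apply]
    exact hM01 x x₀
  have hνsum : ∑ y', (Mᵀ * M) x₀ y' = (k : ℤ) * (k : ℤ) := by
    simp only [Matrix.mul_apply, Matrix.transpose_apply]
    rw [Finset.sum_comm]
    simp only [← Finset.mul_sum, hrow]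
    rw [← Finset.sum_mul, hcol]
  have hlam' : (Mᵀ * M) x₀ x₁ * ((Fintype.card Ω : ℤ) - 1) = (k : ℤ) * ((k : ℤ) - 1) := by
    have h3 : ∑ y', (Mᵀ * M) x₀ y' = ∑ y', ((Mᵀ * M) x₀ x₁ +
        if x₀ = y' then (Mᵀ * M) x₀ x₀ - (Mᵀ * M) x₀ x₁ else 0) :=
      Finset.sum_congr rfl (fun y' _ => hν x₀ y')
    rw [hνsum, Finset.sum_add_distrib, Finset.sum_ite_eq, hνdiag] at h3
    simp at h3
    linarith
  have hlameq : (Mᵀ * M) x₀ x₁ = (M * Mᵀ) x₀ x₁ :=
    mul_right_cancel₀ hn1 (hlam'.trans hlam.symm)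
  have hcomm : Mᵀ * M = M * Mᵀ := by
    ext y y'
    have e1 : (Mᵀ * M) y y' = (Mᵀ * M) x₀ x₁ +
        if y = y' then (Mᵀ * M) x₀ x₀ - (Mᵀ * M) x₀ x₁ else 0 := hν y y'
    have e2 : (M * Mᵀ) y y' = (M * Mᵀ) x₀ x₁ +
        if y = y' then (M * Mᵀ) x₀ x₀ - (M * Mᵀ) x₀ x₁ else 0 := hμ y y'
    rw [e1, e2, hνdiag, hμdiag, hlameq]
  -- M ^ m
  have hpowinv : ∀ (g : G) (x y : Ω), (M ^ m) (g • x) (g • y) = (M ^ m) x y := by
    intro g x y
    have := (hM.pow m) g x y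
    rwa [hαm, MulAut.one_apply] at this
  have hpow := const_of_two_trans h2 (fun x y => (M ^ m) x y) hpowinv x₀ x₁ h01
  have hcolpow : ∀ (j : ℕ) (y : Ω), ∑ x, (M ^ j) x y = (k : ℤ) ^ j := by
    intro j
    induction j with
    | zero => intro y; simp [Matrix.one_apply]
    | succ j ih =>
      intro y
      rw [pow_succ, pow_succ]
      simp only [Matrix.mul_apply]
      rw [Finset.sum_comm]
      simp only [← Finset.sum_mul, ih]
      rw [← Finset.mul_sum, hcol]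
  have hkm : (k : ℤ) ^ m = (M ^ m) x₀ x₁ * (Fintype.card Ω : ℤ)
      + ((M ^ m) x₀ x₀ - (M ^ m) x₀ x₁) := by
    rw [← hcolpow m x₀]
    have h3 : ∑ x, (M ^ m) x x₀ = ∑ x, ((M ^ m) x₀ x₁ +
        if x = x₀ then (M ^ m) x₀ x₀ - (M ^ m) x₀ x₁ else 0) :=
      Finset.sum_congr rfl (fun x _ => hpow x x₀)
    rw [h3, Finset.sum_add_distrib, Finset.sum_ite_eq']
    simp
    ring
  -- compare the two forms
  have hF1 : Form (M * Mᵀ) ((k : ℤ) - (M * Mᵀ) x₀ x₁) :=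
    ⟨(M * Mᵀ) x₀ x₁, fun x y => by
      have e2 : (M * Mᵀ) x y = (M * Mᵀ) x₀ x₁ +
        if x = y then (M * Mᵀ) x₀ x₀ - (M * Mᵀ) x₀ x₁ else 0 := hμ x y
      rw [e2, hμdiag]⟩
  have hF2 : Form (M ^ m) ((M ^ m) x₀ x₀ - (M ^ m) x₀ x₁) :=
    ⟨(M ^ m) x₀ x₁, fun x y => hpow x y⟩
  have hF3 : Form ((M * Mᵀ) ^ m) (((k : ℤ) - (M * Mᵀ) x₀ x₁) ^ m) := hF1.pow m
  have hF4 : Form (M ^ m * (M ^ m)ᵀ)
      (((M ^ m) x₀ x₀ - (M ^ m) x₀ x₁) * ((M ^ m) x₀ x₀ - (M ^ m) x₀ x₁)) :=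
    hF2.mul hF2.transpose
  have hpoweq : (M * Mᵀ) ^ m = M ^ m * (M ^ m)ᵀ := by
    have hc : Commute M Mᵀ := hcomm.symm
    rw [hc.mul_pow, Matrix.transpose_pow]
  rw [hpoweq] at hF3
  have hq := hF3.unique hF4 x₀ x₁ h01
  exact design_arith_false (Fintype.card Ω) k ((M * Mᵀ) x₀ x₁) ((M ^ m) x₀ x₁)
    ((M ^ m) x₀ x₀ - (M ^ m) x₀ x₁) m hm hk hkn hcop hlam hq hkm

/-- The orbit form: if `Δ` is a set of points invariant under the image under `α` of the stabilizer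
of `o`, of size `k` prime to `n` with `2 ≤ k ≤ n - 2`, we get a contradiction. -/
theorem no_intermediate_invariant_set
    (h2 : ∀ {a b c d : Ω}, a ≠ b → c ≠ d → ∃ g : G, g • a = c ∧ g • b = d)
    (α : MulAut G) (m : ℕ) (hm : Odd m) (hαm : α ^ m = 1) (o : Ω) (Δ : Finset Ω)
    (hΔ : ∀ s : G, s • o = o → ∀ x, α s • x ∈ Δ ↔ x ∈ Δ)
    (hcop : Nat.Coprime Δ.card (Fintype.card Ω)) (hk : 2 ≤ Δ.card)
    (hkn : Δ.card + 2 ≤ Fintype.card Ω) : False := by
  have hcard : 1 < Fintype.card Ω := by omega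
  have htrans : ∀ x x' : Ω, ∃ g : G, g • x = x' := by
    intro x x'
    by_cases h : x = x'
    · exact ⟨1, by simp [h]⟩
    · obtain ⟨g, hg, _⟩ := h2 h (Ne.symm h)
      exact ⟨g, hg⟩
  choose c hc using fun y => htrans o y
  let M : Matrix Ω Ω ℤ := fun x y => if (α (c y))⁻¹ • x ∈ Δ then 1 else 0
  have hR1 : ∀ (g : G) (y x : Ω), g • o = y → ((α g)⁻¹ • x ∈ Δ ↔ (α (c y))⁻¹ • x ∈ Δ) := by
    intro g y x hg
    have hs : (g⁻¹ * c y) • o = o := by
      rw [mul_smul, hc, inv_smul_eq_iff, hg]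
    have := hΔ _ hs ((α (c y))⁻¹ • x)
    rw [← this, map_mul, map_inv, mul_smul, smul_inv_smul]
  have hM : TwInv α M := by
    intro h x y
    have h1 := hR1 (h * c y) (h • y) (α h • x) (by rw [mul_smul, hc])
    have h2 : (α (h * c y))⁻¹ • α h • x = (α (c y))⁻¹ • x := by
      rw [map_mul, _root_.mul_inv_rev, mul_smul, inv_smul_smul]
    rw [h2] at h1
    simp only [M]
    by_cases hx : (α (c y))⁻¹ • x ∈ Δ
    · rw [if_pos hx, if_pos (h1.mp hx)]
    · rw [if_neg hx, if_neg (fun h' => hx (h1.mpr h'))]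
  have hM01 : ∀ x y, M x y * M x y = M x y := by
    intro x y
    simp only [M]
    split_ifs <;> simp
  have hcol : ∀ y, ∑ x, M x y = (Δ.card : ℤ) := by
    intro y
    simp only [M]
    rw [← Equiv.sum_comp (MulAction.toPerm (α (c y)))]
    simp only [MulAction.toPerm_apply, inv_smul_smul]
    rw [Finset.sum_boole]
    congr 2
    ext x
    simp
  exact no_twisted_design h2 α m hm hαm M hM hM01 Δ.card hcol hcop hk hkn

end

end Cfsg.Agent.H75
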