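import Mathlib

set_option autoImplicit false

namespace Cfsg.Agent.H75

/-- If the image under the automorphism `α` of the stabilizer of `o` fixes `ω`, then `α` is induced
by a permutation `σ` with `σ o = ω`. -/
theorem exists_perm_of_fixed {Ω : Type*} [Finite Ω] (G : Subgroup (Equiv.Perm Ω))
    (htr : MulAction.IsPretransitive G Ω) (o : Ω) (α : G ≃* G) (ω : Ω)
    (hω : ∀ g ∈ (MulAction.stabilizer G o).map α.toMonoidHom, g • ω = ω) :
    ∃ σ : Equiv.Perm Ω, σ ∈ Subgroup.normalizer (G : Set (Equiv.Perm Ω)) ∧ σ o = ω ∧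
      ∀ g : G, ((α g : G) : Equiv.Perm Ω) = σ * (g : Equiv.Perm Ω) * σ⁻¹ := by
  classical
  have hex : ∀ x : Ω, ∃ g : G, g • o = x := fun x => htr.exists_smul_eq o x
  choose c hc using hex
  let f : Ω → Ω := fun x => α (c x) • ω
  have hf : ∀ g : G, f (g • o) = α g • ω := by
    intro g
    have h1 : (c (g • o))⁻¹ * g ∈ MulAction.stabilizer G o := by
      rw [MulAction.mem_stabilizer_iff, mul_smul, inv_smul_eq_iff, hc]
    have h2 : α ((c (g • o))⁻¹ * g) • ω = ω :=
      hω _ (Subgroup.mem_map_of_mem _ h1)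
    rw [map_mul, mul_smul, map_inv, inv_smul_eq_iff] at h2
    exact h2.symm
  have hsurj : Function.Surjective f := by
    intro y
    obtain ⟨g, hg⟩ := htr.exists_smul_eq ω y
    refine ⟨α.symm g • o, ?_⟩
    rw [hf, MulEquiv.apply_symm_apply, hg]
  have hbij : Function.Bijective f := ⟨Finite.injective_iff_surjective.mpr hsurj, hsurj⟩
  let σ : Equiv.Perm Ω := Equiv.ofBijective f hbij
  have hσ : ∀ x, σ x = f x := fun x => rfl
  have hconj : ∀ g : G, ((α g : G) : Equiv.Perm Ω) = σ * (g : Equiv.Perm Ω) * σ⁻¹ := by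
    intro g
    rw [eq_mul_inv_iff_mul_eq]
    ext y
    obtain ⟨h, rfl⟩ := htr.exists_smul_eq o y
    simp only [Equiv.Perm.coe_mul, Function.comp_apply]
    rw [hσ, hσ, hf]
    have h3 : (g : Equiv.Perm Ω) (h • o) = (g * h) • o := by
      rw [mul_smul]; rfl
    rw [h3, hf, map_mul, mul_smul]
    rfl
  refine ⟨σ, ?_, ?_, hconj⟩
  · rw [Subgroup.mem_normalizer_iff]
    intro h
    constructor
    · intro hh
      have := hconj ⟨h, hh⟩
      rw [← this]
      exact (α ⟨h, hh⟩).2
    · intro hh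
      have h4 := hconj (α.symm ⟨_, hh⟩)
      rw [MulEquiv.apply_symm_apply] at h4
      have h5 : h = ((α.symm ⟨_, hh⟩ : G) : Equiv.Perm Ω) := by
        have h6 : σ * h * σ⁻¹ = σ * ((α.symm ⟨_, hh⟩ : G) : Equiv.Perm Ω) * σ⁻¹ := h4
        have h7 := mul_right_cancel h6
        exact mul_left_cancel h7
      rw [h5]
      exact (α.symm ⟨_, hh⟩).2
  · have h8 : σ o = f ((1 : G) • o) := by rw [one_smul]; rfl
    rw [h8, hf, map_one, one_smul]

end Cfsg.Agent.H75
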