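import Mathlib
import Cfsg.Agent.H75.PermAut
import Cfsg.Agent.H75.DesignMatrix

set_option autoImplicit false

namespace Cfsg.Agent.H75

/-- membership in an orbit of a subgroup is invariant under the elements of the subgroup -/
theorem smul_mem_orbit_iff_of_mem {G Ω : Type*} [Group G] [MulAction G Ω] (H : Subgroup G)
    (ω x : Ω) {h : G} (hh : h ∈ H) : h • x ∈ MulAction.orbit H ω ↔ x ∈ MulAction.orbit H ω := by
  rw [MulAction.mem_orbit_iff, MulAction.mem_orbit_iff]
  constructor
  · rintro ⟨t, ht⟩
    refine ⟨(⟨h, hh⟩ : H)⁻¹ * t, ?_⟩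
    rw [mul_smul, ht]
    change h⁻¹ • h • x = x
    rw [inv_smul_smul]
  · rintro ⟨t, rfl⟩
    exact ⟨(⟨h, hh⟩ : H) * t, by rw [mul_smul]; rfl⟩

/-- an automorphism for which the image of a point stabilizer has an orbit of length `1` or
`n - 1` is induced by a permutation -/
theorem exists_perm_of_orbit_card {Ω : Type*} [Fintype Ω] (G : Subgroup (Equiv.Perm Ω))
    (htr : MulAction.IsPretransitive G Ω) (o : Ω) (α : MulAut G) (ω : Ω)
    (h : Nat.card (MulAction.orbit ((MulAction.stabilizer G o).map α.toMonoidHom) ω) = 1 ∨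
      Nat.card (MulAction.orbit ((MulAction.stabilizer G o).map α.toMonoidHom) ω)
        = Fintype.card Ω - 1) :
    ∃ σ : Equiv.Perm Ω, σ ∈ Subgroup.normalizer (G : Set (Equiv.Perm Ω)) ∧
      ∀ g : G, ((α g : G) : Equiv.Perm Ω) = σ * (g : Equiv.Perm Ω) * σ⁻¹ := by
  classical
  set H : Subgroup G := (MulAction.stabilizer G o).map α.toMonoidHom with hH
  suffices hfix : ∃ ω' : Ω, ∀ g ∈ H, g • ω' = ω' by
    obtain ⟨ω', hω'⟩ := hfix
    obtain ⟨σ, h1, _, h2⟩ := exists_perm_of_fixed G htr o α ω' hω'
    exact ⟨σ, h1, h2⟩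
  have hmem : ω ∈ MulAction.orbit H ω := MulAction.mem_orbit_self ω
  rcases h with h | h
  · refine ⟨ω, fun g hg => ?_⟩
    have h1 : g • ω ∈ MulAction.orbit H ω := (smul_mem_orbit_iff_of_mem H ω ω hg).mpr hmem
    have hsub : Subsingleton (MulAction.orbit H ω) := by
      have := (Nat.card_eq_one_iff_unique.mp h).1
      exact this
    have := hsub.elim ⟨g • ω, h1⟩ ⟨ω, hmem⟩
    exact congrArg Subtype.val this
  · -- the complement of the orbit is a single point
    have hcard : (MulAction.orbit H ω).toFinset.card = Fintype.card Ω - 1 := by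
      rw [Set.toFinset_card, ← Nat.card_eq_fintype_card]; exact h
    have hpos : 0 < Fintype.card Ω := Fintype.card_pos_iff.mpr ⟨ω⟩
    have hcompl : ((MulAction.orbit H ω).toFinset)ᶜ.card = 1 := by
      rw [Finset.card_compl, hcard]; omega
    obtain ⟨ω', hω'⟩ := Finset.card_eq_one.mp hcompl
    refine ⟨ω', fun g hg => ?_⟩
    have h1 : ω' ∉ MulAction.orbit H ω := by
      have : ω' ∈ ((MulAction.orbit H ω).toFinset)ᶜ := by rw [hω']; simp
      simpa using this
    have h2 : g • ω' ∉ MulAction.orbit H ω := fun hc =>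
      h1 ((smul_mem_orbit_iff_of_mem H ω ω' hg).mp hc)
    have h3 : g • ω' ∈ ((MulAction.orbit H ω).toFinset)ᶜ := by simpa using h2
    rw [hω'] at h3
    simpa using h3

/-- the orbit lengths of the image of a point stabilizer under an odd-order automorphism of a
doubly transitive group that are prime to the degree are `1` and `n - 1` -/
theorem orbit_card_of_coprime {Ω : Type*} [Fintype Ω] (G : Subgroup (Equiv.Perm Ω))
    (h2 : MulAction.IsMultiplyPretransitive G Ω 2) (o : Ω) (α : MulAut G)
    (hα : Odd (orderOf α)) (ω : Ω)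
    (hk : (Nat.card (MulAction.orbit ((MulAction.stabilizer G o).map α.toMonoidHom) ω)).Coprime
      (Fintype.card Ω)) :
    Nat.card (MulAction.orbit ((MulAction.stabilizer G o).map α.toMonoidHom) ω) = 1 ∨
      Nat.card (MulAction.orbit ((MulAction.stabilizer G o).map α.toMonoidHom) ω)
        = Fintype.card Ω - 1 := by
  classical
  set H : Subgroup G := (MulAction.stabilizer G o).map α.toMonoidHom with hH
  have hcard : Nat.card (MulAction.orbit H ω) = (MulAction.orbit H ω).toFinset.card := by
    rw [Set.toFinset_card, Nat.card_eq_fintype_card]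
  rw [hcard] at hk ⊢
  have hmem : ω ∈ (MulAction.orbit H ω).toFinset := by simp
  have hpos : 1 ≤ (MulAction.orbit H ω).toFinset.card := Finset.card_pos.mpr ⟨ω, hmem⟩
  have hle : (MulAction.orbit H ω).toFinset.card ≤ Fintype.card Ω := Finset.card_le_univ _
  by_contra hcon
  push Not at hcon
  obtain ⟨hc1, hc2⟩ := hcon
  have hne : (MulAction.orbit H ω).toFinset.card ≠ Fintype.card Ω := by
    intro heq
    rw [heq, Nat.coprime_self] at hk
    exact hc1 (heq.trans hk)
  have h2' : ∀ {a b c d : Ω}, a ≠ b → c ≠ d → ∃ g : G, g • a = c ∧ g • b = d :=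
    fun {a b c d} hab hcd => (MulAction.is_two_pretransitive_iff.mp h2) hab hcd
  refine no_intermediate_invariant_set (G := G) (Ω := Ω) h2' α
    (orderOf α) hα (pow_orderOf_eq_one α) o (MulAction.orbit H ω).toFinset ?_ hk (by omega)
    (by omega)
  intro s hs x
  have hsH : α s ∈ H := Subgroup.mem_map_of_mem _ (MulAction.mem_stabilizer_iff.mpr hs)
  simp only [Set.mem_toFinset]
  exact smul_mem_orbit_iff_of_mem H ω x hsH

end Cfsg.Agent.H75
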