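import Mathlib
import Cfsg.Prelude.Def_KGroupFacts
import Cfsg.Agent.H75.BurnsidePrime
import Cfsg.Agent.S0675
import Cfsg.Agent.S4290

set_option autoImplicit false
set_option linter.unusedSectionVars false
set_option linter.style.haveILetI false

namespace Cfsg.Agent.H75

open Equiv

section OddQuot

/-- a finite group all of whose odd-order elements lie in the image of a solvable group is
solvable -/
theorem isSolvable_of_odd_mem_range {Q : Type*} [Group Q] [Finite Q] {S : Type*} [Group S]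
    [Group.IsSolvable S] (ψ : S →* Q) (h : ∀ q : Q, Odd (orderOf q) → q ∈ ψ.range) :
    Group.IsSolvable Q := by
  let O : Subgroup Q := Subgroup.normalClosure {q | Odd (orderOf q)}
  have hO : O ≤ ψ.range := by
    change Subgroup.closure (Group.conjugatesOfSet {q | Odd (orderOf q)}) ≤ ψ.range
    rw [Subgroup.closure_le]
    intro x hx
    rw [Group.mem_conjugatesOfSet_iff] at hx
    obtain ⟨a, ha, hax⟩ := hx
    apply h
    obtain ⟨c, hc⟩ := isConj_iff.mp hax
    have hord := MulEquiv.orderOf_eq (MulAut.conj c) a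
    rw [MulAut.conj_apply] at hord
    rw [← hc, hord]
    exact ha
  haveI : Group.IsSolvable ψ.range :=
    Group.isSolvable_of_surjective (f := ψ.rangeRestrict) ψ.rangeRestrict_surjective
  haveI : Group.IsSolvable O :=
    Group.isSolvable_of_isSolvable_injective (f := Subgroup.inclusion hO)
      (Subgroup.inclusion_injective hO)
  have h2 : IsPGroup 2 (Q ⧸ O) := by
    intro g
    obtain ⟨x, rfl⟩ := QuotientGroup.mk_surjective g
    obtain ⟨k, m, hm, hkm⟩ := Nat.exists_eq_two_pow_mul_odd (orderOf_pos x).ne'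
    refine ⟨k, ?_⟩
    rw [← QuotientGroup.mk_pow, QuotientGroup.eq_one_iff]
    apply Subgroup.subset_normalClosure
    change Odd (orderOf (x ^ 2 ^ k))
    rw [orderOf_pow_of_dvd (by positivity) ⟨m, hkm⟩, hkm, Nat.mul_div_cancel_left _ (by positivity)]
    exact hm
  haveI : Fact (Nat.Prime 2) := ⟨Nat.prime_two⟩
  haveI : Group.IsNilpotent (Q ⧸ O) := h2.isNilpotent
  exact Group.isSolvable_of_ker_le_range O.subtype (QuotientGroup.mk' O)
    (by rw [QuotientGroup.ker_mk', Subgroup.range_subtype])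

theorem isSolvable_quotient_of_odd {A : Type*} [Group A] [Finite A] (I : Subgroup A) [I.Normal]
    {S : Type*} [Group S] [Group.IsSolvable S] (ψ : S →* A ⧸ I)
    (h : ∀ a : A, Odd (orderOf a) → (QuotientGroup.mk a : A ⧸ I) ∈ ψ.range) :
    Group.IsSolvable (A ⧸ I) := by
  apply isSolvable_of_odd_mem_range ψ
  intro q hq
  obtain ⟨a, rfl⟩ := QuotientGroup.mk_surjective q
  obtain ⟨k, m, hm, hkm⟩ := Nat.exists_eq_two_pow_mul_odd (orderOf_pos a).ne'
  have h1 : Odd (orderOf (a ^ 2 ^ k)) := by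
    rw [orderOf_pow_of_dvd (by positivity) ⟨m, hkm⟩, hkm, Nat.mul_div_cancel_left _ (by positivity)]
    exact hm
  have h2 := h _ h1
  rw [QuotientGroup.mk_pow] at h2
  have hcop : (2 ^ k).Coprime (orderOf (QuotientGroup.mk a : A ⧸ I)) :=
    Nat.Coprime.pow_left k (Nat.coprime_two_left.mpr hq)
  obtain ⟨n, hn⟩ := exists_pow_eq_self_of_coprime hcop
  rw [← hn]
  exact pow_mem h2 n

end OddQuot

section NormHom

variable {G B : Type*} [Group G] [Group B]

/-- the normalizer of the image of an injective hom acts by automorphisms on the source -/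
noncomputable def normHom (φ : G →* B) (hφ : Function.Injective φ) :
    Subgroup.normalizer (φ.range : Set B) →* MulAut G :=
  (MulAut.congr ((Subgroup.subgroupOfEquivOfLe (Subgroup.le_normalizer (H := φ.range))).trans
    (MonoidHom.ofInjective hφ).symm)).toMonoidHom.comp MulAut.conjNormal

theorem normHom_spec (φ : G →* B) (hφ : Function.Injective φ)
    (n : Subgroup.normalizer (φ.range : Set B)) (g : G) :
    φ (normHom φ hφ n g) = n * φ g * (n : B)⁻¹ := by
  have h1 : ∀ y : φ.range, φ ((MonoidHom.ofInjective hφ).symm y) = y := fun y => by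
    rw [← MonoidHom.ofInjective_apply hφ, MulEquiv.apply_symm_apply]
  have h2 : ∀ x : φ.range.subgroupOf (Subgroup.normalizer (φ.range : Set B)),
      φ (((Subgroup.subgroupOfEquivOfLe (Subgroup.le_normalizer (H := φ.range))).trans
        (MonoidHom.ofInjective hφ).symm) x) = ((x : Subgroup.normalizer (φ.range : Set B)) : B) := by
    intro x
    rw [MulEquiv.trans_apply, h1, Subgroup.subgroupOfEquivOfLe_apply_coe]
  change φ (((Subgroup.subgroupOfEquivOfLe (Subgroup.le_normalizer (H := φ.range))).trans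
        (MonoidHom.ofInjective hφ).symm) (MulAut.conjNormal n
        (((Subgroup.subgroupOfEquivOfLe (Subgroup.le_normalizer (H := φ.range))).trans
        (MonoidHom.ofInjective hφ).symm).symm g))) = _
  rw [h2, MulAut.conjNormal_apply, Subgroup.coe_mul, Subgroup.coe_mul, Subgroup.coe_inv, ← h2,
    MulEquiv.apply_symm_apply]

/-- for a finite subgroup, conjugating into it is enough to normalize -/
theorem mem_normalizer_of_conj_le (K : Subgroup B) [Finite K] (σ : B)
    (h : ∀ x ∈ K, σ * x * σ⁻¹ ∈ K) : σ ∈ Subgroup.normalizer (K : Set B) := by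
  have hmap : K.map (MulAut.conj σ).toMonoidHom = K := by
    apply Subgroup.eq_of_le_of_card_ge
    · rintro _ ⟨x, hx, rfl⟩
      exact h x hx
    · rw [Subgroup.card_map_of_injective (MulEquiv.injective _)]
  rw [Subgroup.mem_normalizer_iff]
  intro x
  refine ⟨h x, fun hx => ?_⟩
  rw [← hmap] at hx
  obtain ⟨y, hy, hyx⟩ := hx
  have : y = x := (MulAut.conj σ).injective hyx
  rw [← this]; exact hy

end NormHom

section PrimeDegree

variable {Ω : Type*} [Fintype Ω] [DecidableEq Ω] {p : ℕ} [Fact p.Prime]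

theorem exists_equiv_zmod_of_orderOf (hΩ : Fintype.card Ω = p) (τ : Perm Ω) (hτ : orderOf τ = p) :
    ∃ e : ZMod p ≃ Ω, ∀ j, τ (e j) = e (j + 1) := by
  classical
  have hp : p.Prime := Fact.out
  haveI : Nonempty Ω := Fintype.card_pos_iff.mp (by rw [hΩ]; exact hp.pos)
  obtain ⟨a₀⟩ := ‹Nonempty Ω›
  have hcyc : τ.IsCycle :=
    Equiv.Perm.isCycle_of_prime_order'' (by rw [hΩ]; exact hp) (by rw [hτ, hΩ])
  have hsupp : τ.support = Finset.univ := by
    apply Finset.eq_univ_of_card
    rw [← hcyc.orderOf, hτ, hΩ]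
  have hmoved : ∀ x, τ x ≠ x := fun x =>
    Equiv.Perm.mem_support.mp (by rw [hsupp]; exact Finset.mem_univ x)
  let e' : ZMod p → Ω := fun j => (τ ^ j.val) a₀
  have hsurj : Function.Surjective e' := by
    intro y
    obtain ⟨i, hi⟩ := hcyc.exists_pow_eq (hmoved a₀) (hmoved y)
    refine ⟨(i : ZMod p), ?_⟩
    change (τ ^ ((i : ZMod p)).val) a₀ = y
    rw [ZMod.val_natCast, ← hτ, pow_mod_orderOf, hi]
  have hbij : Function.Bijective e' := by
    rw [Fintype.bijective_iff_surjective_and_card]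
    exact ⟨hsurj, by rw [ZMod.card, hΩ]⟩
  refine ⟨Equiv.ofBijective e' hbij, fun j => ?_⟩
  change τ ((τ ^ j.val) a₀) = (τ ^ (j + 1).val) a₀
  rw [← Equiv.Perm.mul_apply, ← pow_succ']
  congr 1
  rw [ZMod.val_add, ZMod.val_one]
  have hmod : τ ^ ((j.val + 1) % p) = τ ^ (j.val + 1) := by
    have h := pow_mod_orderOf τ (j.val + 1)
    rwa [hτ] at h
  rw [hmod]

/-- the normalizer of a full cycle of prime length is solvable -/
theorem isSolvable_normalizer_zpowers (hΩ : Fintype.card Ω = p) (τ : Perm Ω) (hτ : orderOf τ = p) :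
    Group.IsSolvable (Subgroup.normalizer (Subgroup.zpowers τ : Set (Perm Ω))) := by
  obtain ⟨e, he⟩ := exists_equiv_zmod_of_orderOf hΩ τ hτ
  let ρ : Subgroup.normalizer (Subgroup.zpowers τ : Set (Perm Ω)) →* Perm (ZMod p) :=
    (e.symm.permCongrHom.toMonoidHom).comp (Subgroup.subtype _)
  have hρapp : ∀ g j, ρ g j = e.symm ((g : Perm Ω) (e j)) := fun g j => rfl
  have hρinj : Function.Injective ρ := fun a b hab =>
    Subtype.ext (e.symm.permCongrHom.injective hab)
  apply isSolvable_of_affine ρ hρinj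
  intro σ
  have hmem := (Subgroup.mem_normalizer_iff.mp σ.2 τ).mp (Subgroup.mem_zpowers τ)
  rw [← mem_powers_iff_mem_zpowers] at hmem
  obtain ⟨k, hk⟩ := (Submonoid.mem_powers_iff _ _).mp hmem
  have hτk : ∀ (n : ℕ) (j : ZMod p), (τ ^ n) (e j) = e (j + n) := by
    intro n
    induction n with
    | zero => intro j; simp
    | succ n ih =>
      intro j
      rw [pow_succ', Equiv.Perm.mul_apply, ih, he]
      congr 1
      push_cast; ring
  have hstep : ∀ j, ρ σ (j + 1) = ρ σ j + k := by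
    intro j
    rw [hρapp, hρapp, ← he]
    have h1 : (σ : Perm Ω) (τ (e j)) = (τ ^ k) ((σ : Perm Ω) (e j)) := by
      rw [hk]
      simp
    rw [h1]
    have h2 : (σ : Perm Ω) (e j) = e (e.symm ((σ : Perm Ω) (e j))) := by simp
    rw [h2, hτk, Equiv.symm_apply_apply, Equiv.symm_apply_apply]
  have hnat : ∀ n : ℕ, ρ σ (n : ZMod p) = k * n + ρ σ 0 := by
    intro n
    induction n with
    | zero => simp
    | succ n ih =>
      rw [Nat.cast_succ, hstep, ih]; ring
  refine ⟨k, ρ σ 0, fun j => ?_⟩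
  have := hnat j.val
  rwa [ZMod.natCast_zmod_val] at this

theorem out_solvable_of_prime_degree {G : Type*} [Group G] [Finite G]
    (hΩ : Fintype.card Ω = p) (φ : G →* Perm Ω)
    (hφ : Function.Injective φ) (htr : ∀ x y : Ω, ∃ g : G, φ g x = y)
    (hG : ¬ Group.IsSolvable G) : Group.IsSolvable (Cfsg.Out G) := by
  classical
  have hp : p.Prime := Fact.out
  haveI : Nonempty Ω := Fintype.card_pos_iff.mp (by rw [hΩ]; exact hp.pos)
  obtain ⟨o⟩ := ‹Nonempty Ω›
  let e : G ≃* φ.range := MonoidHom.ofInjective hφ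
  have he : ∀ g, ((e g : φ.range) : Perm Ω) = φ g := fun g => MonoidHom.ofInjective_apply hφ
  haveI : MulAction.IsPretransitive φ.range Ω := ⟨fun x y => by
    obtain ⟨g, hg⟩ := htr x y
    exact ⟨⟨φ g, g, rfl⟩, hg⟩⟩
  have hĜ : ¬ Group.IsSolvable φ.range := fun h =>
    hG (Group.isSolvable_of_isSolvable_injective (f := e.toMonoidHom) e.injective)
  have h2 : MulAction.IsMultiplyPretransitive φ.range Ω 2 := by
    rcases Cfsg.Agent.S0675.result (by rw [hΩ]; exact hp) φ.range with h | h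
    · exact absurd h hĜ
    · exact h
  have hidx : (MulAction.stabilizer φ.range o).index = p := by
    rw [MulAction.index_stabilizer_of_transitive, Nat.card_eq_fintype_card, hΩ]
  have hcardĜ : Nat.card (MulAction.stabilizer φ.range o) * p = Nat.card φ.range := by
    rw [← hidx]; exact Subgroup.card_mul_index _
  have hdvdfact : Nat.card φ.range ∣ p.factorial := by
    have := Subgroup.card_subgroup_dvd_card φ.range
    rwa [Nat.card_eq_fintype_card (α := Perm Ω), Fintype.card_perm, hΩ] at this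
  have hnd : ¬ p ∣ Nat.card (MulAction.stabilizer φ.range o) := by
    intro hd
    have h3 : p * p ∣ p.factorial := by
      refine dvd_trans ?_ hdvdfact
      rw [← hcardĜ]
      exact mul_dvd_mul hd dvd_rfl
    obtain ⟨q, hq⟩ : ∃ q, p = q + 1 := ⟨p - 1, by have := hp.pos; omega⟩
    have h3' : p * p ∣ p * q.factorial := by
      have : p.factorial = p * q.factorial := by rw [hq, Nat.factorial_succ]
      rwa [this] at h3
    have h4 := Nat.dvd_of_mul_dvd_mul_left hp.pos h3'
    have h5 := (hp.dvd_factorial).mp h4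
    omega
  have hHall : (Nat.card (MulAction.stabilizer φ.range o)).Coprime
      (MulAction.stabilizer φ.range o).index := by
    rw [hidx]
    exact ((Nat.Prime.coprime_iff_not_dvd hp).mpr hnd).symm
  have hodd : ∀ β : MulAut G, Odd (orderOf β) → ∃ σ : Perm Ω,
      σ ∈ Subgroup.normalizer (φ.range : Set (Perm Ω)) ∧ ∀ g : G, φ (β g) = σ * φ g * σ⁻¹ := by
    intro β hβ
    obtain ⟨σ, hσ, hσ2⟩ := Cfsg.Agent.S4290.result φ.range h2 o hHall (MulAut.congr e β)
      (by rw [MulEquiv.orderOf_eq]; exact hβ)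
    refine ⟨σ, hσ, fun g => ?_⟩
    have h := hσ2 (e g)
    rw [he] at h
    rw [← h, ← he]
    congr 2
    change e (β g) = e (β (e.symm (e g)))
    rw [MulEquiv.symm_apply_apply]
  have hcardG : Nat.card G = Nat.card (MulAction.stabilizer φ.range o) * p := by
    rw [hcardĜ]; exact Nat.card_congr e.toEquiv
  obtain ⟨t₀, ht₀⟩ := exists_prime_orderOf_dvd_card' p (by rw [hcardG]; exact dvd_mul_left _ _)
  have hfac : (Nat.card G).factorization p = 1 := by
    rw [hcardG, Nat.factorization_mul Nat.card_pos.ne' hp.ne_zero]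
    rw [Finsupp.add_apply, Nat.factorization_eq_zero_of_not_dvd hnd, hp.factorization_self]
  have hsyl : ∀ x : G, orderOf x = p →
      Nat.card (Subgroup.zpowers x) = p ^ (Nat.card G).factorization p := by
    intro x hx
    rw [hfac, pow_one, Nat.card_zpowers, hx]
  have hconj : ∀ β : MulAut G, ∃ γ : G, ∃ k : ℤ, γ⁻¹ * β t₀ * γ = t₀ ^ k := by
    intro β
    have hβt : orderOf (β t₀) = p := by rw [MulEquiv.orderOf_eq]; exact ht₀
    obtain ⟨γ, hγ⟩ := MulAction.exists_smul_eq G (Sylow.ofCard _ (hsyl t₀ ht₀))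
      (Sylow.ofCard _ (hsyl (β t₀) hβt))
    have h1 : β t₀ ∈ ((γ • Sylow.ofCard _ (hsyl t₀ ht₀) : Sylow p G) : Subgroup G) := by
      rw [hγ]; exact Subgroup.mem_zpowers _
    rw [Sylow.coe_subgroup_smul, Subgroup.mem_pointwise_smul_iff_inv_smul_mem] at h1
    obtain ⟨k, hk⟩ := Subgroup.mem_zpowers_iff.mp h1
    refine ⟨γ, k, ?_⟩
    rw [hk]
    simp [MulAut.smul_def]
  let τ : Perm Ω := φ t₀
  have hτ : orderOf τ = p := by rw [orderOf_injective φ hφ t₀]; exact ht₀
  let Sg : Subgroup (Perm Ω) := Subgroup.normalizer (φ.range : Set (Perm Ω)) ⊓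
    Subgroup.normalizer (Subgroup.zpowers τ : Set (Perm Ω))
  haveI : Group.IsSolvable (Subgroup.normalizer (Subgroup.zpowers τ : Set (Perm Ω))) :=
    isSolvable_normalizer_zpowers hΩ τ hτ
  haveI : Group.IsSolvable Sg :=
    Group.isSolvable_of_isSolvable_injective
      (f := Subgroup.inclusion (inf_le_right : Sg ≤ _)) (Subgroup.inclusion_injective _)
  let ψ : Sg →* Cfsg.Out G := (QuotientGroup.mk' (Cfsg.Inn G)).comp
    ((normHom φ hφ).comp (Subgroup.inclusion (inf_le_left : Sg ≤ _)))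
  haveI : Finite (MulAut G) :=
    Finite.of_injective (fun f : MulAut G => (f : G → G)) DFunLike.coe_injective
  apply isSolvable_quotient_of_odd (Cfsg.Inn G) ψ
  intro β hβ
  obtain ⟨σ, hσN, hσ⟩ := hodd β hβ
  obtain ⟨γ, k, hγ⟩ := hconj β
  have hconjτ : (φ γ)⁻¹ * σ * τ * ((φ γ)⁻¹ * σ)⁻¹ = τ ^ k := by
    rw [mul_inv_rev, inv_inv]
    calc (φ γ)⁻¹ * σ * τ * (σ⁻¹ * φ γ) = (φ γ)⁻¹ * (σ * φ t₀ * σ⁻¹) * φ γ := by
          change (φ γ)⁻¹ * σ * φ t₀ * (σ⁻¹ * φ γ) = _
          group
      _ = φ (γ⁻¹ * β t₀ * γ) := by rw [← hσ, map_mul, map_mul, map_inv]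
      _ = τ ^ k := by rw [hγ, map_zpow]
  have hσ' : (φ γ)⁻¹ * σ ∈ Sg := by
    refine ⟨Subgroup.mul_mem _ (Subgroup.inv_mem _ (Subgroup.le_normalizer ⟨γ, rfl⟩)) hσN, ?_⟩
    apply mem_normalizer_of_conj_le
    intro x hx
    obtain ⟨m, rfl⟩ := Subgroup.mem_zpowers_iff.mp hx
    have : (φ γ)⁻¹ * σ * τ ^ m * ((φ γ)⁻¹ * σ)⁻¹ = (τ ^ k) ^ m := by
      rw [← hconjτ, conj_zpow]
    rw [this]
    exact Subgroup.zpow_mem _ (Subgroup.zpow_mem _ (Subgroup.mem_zpowers τ) k) m
  refine ⟨⟨_, hσ'⟩, ?_⟩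
  have hnh : normHom φ hφ ⟨(φ γ)⁻¹ * σ, hσ'.1⟩ = (MulAut.conj γ)⁻¹ * β := by
    ext g
    apply hφ
    rw [normHom_spec]
    simp only [MulAut.mul_apply, MulAut.conj_inv_apply, map_mul, map_inv, hσ]
    group
  change (QuotientGroup.mk (normHom φ hφ ⟨(φ γ)⁻¹ * σ, hσ'.1⟩) : Cfsg.Out G) = QuotientGroup.mk β
  rw [hnh, QuotientGroup.mk_mul,
    (QuotientGroup.eq_one_iff _).mpr (inv_mem (⟨γ, rfl⟩ : MulAut.conj γ ∈ Cfsg.Inn G)), one_mul]

end PrimeDegree

end Cfsg.Agent.H75
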