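import Mathlib
import Cfsg.Agent.H75.OutPrime

set_option autoImplicit false
set_option linter.unusedSectionVars false
set_option linter.style.haveILetI false

namespace Cfsg.Agent.H75

open Equiv

section Parity

variable {p : ℕ} [Fact p.Prime]

/-- a symmetric subset of `ZMod p` (`p` odd) with constant difference counts contains none or
all of the non-zero residues -/
theorem symm_design_parity (hp2 : p ≠ 2) (S : Finset (ZMod p)) (hsymm : ∀ s ∈ S, -s ∈ S)
    (lam : ℕ) (hdes : ∀ d : ZMod p, d ≠ 0 → (S.filter (fun s => s - d ∈ S)).card = lam) :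
    (∀ s ∈ S, s = 0) ∨ (∀ s : ZMod p, s ≠ 0 → s ∈ S) := by
  classical
  have hp : p.Prime := Fact.out
  have h2 : (2 : ZMod p) ≠ 0 := by
    intro h
    have h' : ((2 : ℕ) : ZMod p) = 0 := by exact_mod_cast h
    rw [ZMod.natCast_eq_zero_iff] at h'
    exact hp2 ((Nat.prime_dvd_prime_iff_eq hp Nat.prime_two).mp h')
  have key : ∀ c : ZMod p, c ≠ 0 → (c ∈ S ↔ Odd lam) := by
    intro c hc
    have hd : c + c ≠ 0 := by
      intro h
      have : (2 : ZMod p) * c = 0 := by rw [two_mul]; exact h
      rcases mul_eq_zero.mp this with h' | h'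
      · exact h2 h'
      · exact hc h'
    have hcard := hdes (c + c) hd
    set T := S.filter (fun s => s - (c + c) ∈ S) with hT
    have hmemT : ∀ s, s ∈ T ↔ s ∈ S ∧ s - (c + c) ∈ S := fun s => by
      rw [hT, Finset.mem_filter]
    have hcT : c ∈ T ↔ c ∈ S := by
      rw [hmemT]
      constructor
      · exact fun h => h.1
      · intro h
        refine ⟨h, ?_⟩
        have : c - (c + c) = -c := by ring
        rw [this]; exact hsymm c h
    have heven : Even (T.erase c).card := by
      have hsum : ∑ x ∈ T.erase c, (1 : ZMod 2) = 0 := by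
        refine Finset.sum_involution (fun a _ => (c + c) - a) ?_ ?_ ?_ ?_
        · intro a _; decide
        · intro a ha _ heq
          have hac : a ≠ c := (Finset.mem_erase.mp ha).1
          apply hac
          have h3 : (2 : ZMod p) * (a - c) = 0 := by
            have : (2 : ZMod p) * (a - c) = a - (c + c - a) := by ring
            rw [this, heq, sub_self]
          rcases mul_eq_zero.mp h3 with h' | h'
          · exact absurd h' h2
          · exact sub_eq_zero.mp h'
        · intro a ha
          obtain ⟨hac, haT⟩ := Finset.mem_erase.mp ha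
          obtain ⟨ha1, ha2⟩ := (hmemT a).mp haT
          rw [Finset.mem_erase, hmemT]
          refine ⟨?_, ?_, ?_⟩
          · intro heq
            apply hac
            have : a = (c + c) - ((c + c) - a) := by ring
            rw [this, heq]; ring
          · have : c + c - a = -(a - (c + c)) := by ring
            rw [this]; exact hsymm _ ha2
          · have : c + c - a - (c + c) = -a := by ring
            rw [this]; exact hsymm _ ha1
        · intro a _; ring
      rw [Finset.sum_const, nsmul_eq_mul, mul_one] at hsum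
      rw [even_iff_two_dvd]
      exact (ZMod.natCast_eq_zero_iff _ _).mp hsum
    by_cases hcS : c ∈ S
    · have hcT' : c ∈ T := hcT.mpr hcS
      have h4 : T.card = (T.erase c).card + 1 := (Finset.card_erase_add_one hcT').symm
      rw [h4] at hcard
      constructor
      · intro _
        rw [← hcard]
        exact heven.add_one
      · intro _; exact hcS
    · have hcT' : c ∉ T := fun h => hcS (hcT.mp h)
      rw [Finset.erase_eq_of_notMem hcT'] at heven
      rw [hcard] at heven
      constructor
      · intro h; exact absurd h hcS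
      · intro h; exact absurd heven (Nat.not_even_iff_odd.mpr h)
  by_cases hodd : Odd lam
  · right
    intro s hs
    exact (key s hs).mpr hodd
  · left
    intro s hs
    by_contra hs0
    exact hodd ((key s hs0).mp hs)

end Parity

section Coords

variable {p : ℕ} [Fact p.Prime]

/-- coordinates on a set of odd prime size `p` with a dihedral action: a fixed-point-free element
`τ` of order `p` and an involution `t` inverting it become `j ↦ j + 1` and `j ↦ -j` -/
theorem exists_dihedral_coords {Γ : Type*} [Group Γ] {X : Type*} [Fintype X] [MulAction Γ X]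
    (hX : Fintype.card X = p) (hp2 : p ≠ 2) (τ t : Γ) (hτp : τ ^ p = 1) (ht2 : t ^ 2 = 1)
    (hconj : t * τ * t⁻¹ = τ⁻¹) (hfree : ∀ x : X, τ • x ≠ x) :
    ∃ e : ZMod p ≃ X, (∀ j, τ • e j = e (j + 1)) ∧ (∀ j, t • e j = e (-j)) := by
  classical
  have hp : p.Prime := Fact.out
  haveI : Fact (Nat.Prime 2) := ⟨Nat.prime_two⟩
  have hnd : ¬ 2 ∣ Fintype.card X := by
    rw [hX]
    intro h
    exact hp2 ((Nat.prime_dvd_prime_iff_eq Nat.prime_two hp).mp h).symm
  obtain ⟨x₀, hx₀⟩ := Equiv.Perm.exists_fixed_point_of_prime (p := 2) (n := 1) hnd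
    (σ := MulAction.toPerm t) (by
      rw [pow_one]
      ext x
      simp only [Equiv.Perm.coe_pow, Equiv.Perm.coe_one, id_eq]
      change t • t • x = x
      rw [← mul_smul, ← pow_two, ht2, one_smul])
  have hx₀' : t • x₀ = x₀ := hx₀
  let e₀ : ZMod p → X := fun j => τ ^ j.val • x₀
  have hpowmod : ∀ n : ℕ, τ ^ n = τ ^ (n % p) := fun n => pow_eq_pow_mod n hτp
  have hstep : ∀ j, τ • e₀ j = e₀ (j + 1) := by
    intro j
    change τ • τ ^ j.val • x₀ = τ ^ (j + 1).val • x₀
    rw [← mul_smul, ← pow_succ', ZMod.val_add, ZMod.val_one, ← hpowmod]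
  have hpow : ∀ (n : ℕ) (j : ZMod p), τ ^ n • e₀ j = e₀ (j + n) := by
    intro n
    induction n with
    | zero => intro j; simp
    | succ n ih =>
      intro j
      rw [pow_succ', mul_smul, ih, hstep]
      congr 1
      push_cast; ring
  have hinj : Function.Injective e₀ := by
    intro i j hij
    by_contra hne
    have hd : i - j ≠ 0 := sub_ne_zero.mpr hne
    have h1 : e₀ (i - j) = e₀ 0 := by
      have h2 : τ ^ (-j).val • e₀ i = τ ^ (-j).val • e₀ j := by rw [hij]
      rw [hpow, hpow, ZMod.natCast_zmod_val] at h2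
      rw [sub_eq_add_neg, h2, add_neg_cancel]
    have h3 : τ ^ (i - j).val • x₀ = x₀ := by
      have h0 : e₀ 0 = x₀ := by
        change τ ^ (0 : ZMod p).val • x₀ = x₀
        rw [ZMod.val_zero, pow_zero, one_smul]
      change e₀ (i - j) = x₀
      rw [h1, h0]
    have hpos : 0 < (i - j).val := by
      rcases Nat.eq_zero_or_pos (i - j).val with h | h
      · exact absurd ((ZMod.val_eq_zero _).mp h) hd
      · exact h
    have hlt : (i - j).val < p := ZMod.val_lt _
    have hcop : Nat.Coprime (i - j).val p := by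
      rw [Nat.coprime_comm, Nat.Prime.coprime_iff_not_dvd hp]
      intro hdvd
      have := Nat.le_of_dvd hpos hdvd
      omega
    obtain ⟨m, -, hm⟩ := Nat.exists_mul_mod_eq_one_of_coprime hcop hp.one_lt
    have h4 : τ = (τ ^ (i - j).val) ^ m := by
      rw [← pow_mul, hpowmod, hm, pow_one]
    have h5 : τ ^ (i - j).val ∈ MulAction.stabilizer Γ x₀ := h3
    have h6 : τ ∈ MulAction.stabilizer Γ x₀ := by
      rw [h4]; exact Subgroup.pow_mem _ h5 m
    exact hfree x₀ h6
  have hbij : Function.Bijective e₀ := by
    rw [Fintype.bijective_iff_injective_and_card]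
    exact ⟨hinj, by rw [ZMod.card, hX]⟩
  refine ⟨Equiv.ofBijective e₀ hbij, hstep, fun j => ?_⟩
  change t • τ ^ j.val • x₀ = τ ^ (-j).val • x₀
  have h1 : t * τ ^ j.val = (τ⁻¹) ^ j.val * t := by
    have := conj_pow (a := t) (b := τ) (i := j.val)
    rw [hconj] at this
    rw [this]; group
  rw [← mul_smul, h1, mul_smul, hx₀']
  congr 1
  have h2 : τ ^ (-j).val * τ ^ j.val = 1 := by
    rw [← pow_add]
    have h3 : (((-j).val + j.val : ℕ) : ZMod p) = 0 := by
      push_cast
      rw [ZMod.natCast_zmod_val, ZMod.natCast_zmod_val, neg_add_cancel]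
    obtain ⟨c, hc⟩ := (ZMod.natCast_eq_zero_iff _ _).mp h3
    rw [hc, pow_mul, hτp, one_pow]
  rw [inv_pow]
  exact (eq_inv_of_mul_eq_one_left h2).symm

theorem pow_smul_coords {Γ : Type*} [Group Γ] {X : Type*} [MulAction Γ X] (τ : Γ)
    (e : ZMod p ≃ X) (he : ∀ j, τ • e j = e (j + 1)) (n : ℕ) (j : ZMod p) :
    τ ^ n • e j = e (j + n) := by
  induction n generalizing j with
  | zero => simp
  | succ n ih =>
    rw [pow_succ', mul_smul, ih, he]
    congr 1
    push_cast; ring

end Coords

section PrimeSetup

variable {α : Type*} [Fintype α] [DecidableEq α] {p : ℕ} [Fact p.Prime]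

theorem factorization_card_prime_degree (hα : Fintype.card α = p) (G : Subgroup (Perm α))
    [MulAction.IsPretransitive G α] : (Nat.card G).factorization p = 1 := by
  classical
  have hp : p.Prime := Fact.out
  haveI : Nonempty α := Fintype.card_pos_iff.mp (by rw [hα]; exact hp.pos)
  obtain ⟨o⟩ := ‹Nonempty α›
  have hidx : (MulAction.stabilizer G o).index = p := by
    rw [MulAction.index_stabilizer_of_transitive, Nat.card_eq_fintype_card, hα]
  have hcardG : Nat.card (MulAction.stabilizer G o) * p = Nat.card G := by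
    rw [← hidx]; exact Subgroup.card_mul_index _
  have hdvdfact : Nat.card G ∣ p.factorial := by
    have := Subgroup.card_subgroup_dvd_card G
    rwa [Nat.card_eq_fintype_card (α := Perm α), Fintype.card_perm, hα] at this
  have hnd : ¬ p ∣ Nat.card (MulAction.stabilizer G o) := by
    intro hd
    have h3 : p * p ∣ p.factorial := by
      refine dvd_trans ?_ hdvdfact
      rw [← hcardG]
      exact mul_dvd_mul hd dvd_rfl
    obtain ⟨q, hq⟩ : ∃ q, p = q + 1 := ⟨p - 1, by have := hp.pos; omega⟩
    have h3' : p * p ∣ p * q.factorial := by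
      have : p.factorial = p * q.factorial := by rw [hq, Nat.factorial_succ]
      rwa [this] at h3
    have h4 := Nat.dvd_of_mul_dvd_mul_left hp.pos h3'
    have h5 := (hp.dvd_factorial).mp h4
    omega
  rw [← hcardG, Nat.factorization_mul Nat.card_pos.ne' hp.ne_zero, Finsupp.add_apply,
    Nat.factorization_eq_zero_of_not_dvd hnd, hp.factorization_self]

theorem not_dvd_card_of_index_eq (hα : Fintype.card α = p) (G : Subgroup (Perm α))
    [MulAction.IsPretransitive G α] (H : Subgroup G) (hH : H.index = p) : ¬ p ∣ Nat.card H := by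
  have hp : p.Prime := Fact.out
  intro hd
  have h1 : Nat.card H * p = Nat.card G := by rw [← hH]; exact Subgroup.card_mul_index H
  have hfac := factorization_card_prime_degree hα G
  have h2 : p ^ 2 ∣ Nat.card G := by rw [← h1, pow_two]; exact mul_dvd_mul hd dvd_rfl
  have h3 := (hp.pow_dvd_iff_le_factorization Nat.card_pos.ne').mp h2
  omega

/-- a permutation normalizing the group generated by the translation is affine -/
theorem affine_of_conj_mem_zpowers (τ σ : Perm α) (e : ZMod p ≃ α)
    (he : ∀ j, τ (e j) = e (j + 1)) (hσ : σ * τ * σ⁻¹ ∈ Subgroup.zpowers τ) :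
    ∃ k b : ZMod p, ∀ j, σ (e j) = e (k * j + b) := by
  rw [← mem_powers_iff_mem_zpowers] at hσ
  obtain ⟨k, hk⟩ := (Submonoid.mem_powers_iff _ _).mp hσ
  have hτk : ∀ (n : ℕ) (j : ZMod p), (τ ^ n) (e j) = e (j + n) := by
    intro n
    induction n with
    | zero => intro j; simp
    | succ n ih =>
      intro j
      rw [pow_succ', Equiv.Perm.mul_apply, ih, he]
      congr 1
      push_cast; ring
  have hstep : ∀ j, e.symm (σ (e (j + 1))) = e.symm (σ (e j)) + k := by
    intro j
    rw [← he]
    have h1 : σ (τ (e j)) = (τ ^ k) (σ (e j)) := by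
      rw [hk]
      simp
    rw [h1]
    have h2 : σ (e j) = e (e.symm (σ (e j))) := by simp
    rw [h2, hτk, Equiv.symm_apply_apply, Equiv.symm_apply_apply]
  have hnat : ∀ n : ℕ, e.symm (σ (e (n : ZMod p))) = k * n + e.symm (σ (e 0)) := by
    intro n
    induction n with
    | zero => simp
    | succ n ih =>
      rw [Nat.cast_succ, hstep, ih]; ring
  refine ⟨k, e.symm (σ (e 0)), fun j => ?_⟩
  have h := hnat j.val
  rw [ZMod.natCast_zmod_val] at h
  rw [← h, Equiv.apply_symm_apply]

/-- in a transitive group of odd prime degree whose Sylow `p`-normalizer has even order there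
are a generator `τ` of the Sylow subgroup and an involution `t` inverting it -/
theorem exists_dihedral_pair (hα : Fintype.card α = p) (hp2 : p ≠ 2) (G : Subgroup (Perm α))
    [MulAction.IsPretransitive G α] (P : Sylow p G)
    (heven : Even (Nat.card (Subgroup.normalizer ((P : Subgroup G) : Set G)))) :
    ∃ τ t : G, orderOf τ = p ∧ (P : Subgroup G) = Subgroup.zpowers τ ∧ orderOf t = 2 ∧
      t * τ * t⁻¹ = τ⁻¹ := by
  classical
  have hp : p.Prime := Fact.out
  have hfac := factorization_card_prime_degree hα G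
  have hPcard : Nat.card (P : Subgroup G) = p := by
    rw [Sylow.card_eq_multiplicity, hfac, pow_one]
  obtain ⟨τ', hτ'⟩ := exists_prime_orderOf_dvd_card' (G := (P : Subgroup G)) p (by rw [hPcard])
  have hτ : orderOf (τ' : G) = p := by rw [Subgroup.orderOf_coe]; exact hτ'
  have hPz : (P : Subgroup G) = Subgroup.zpowers (τ' : G) := by
    symm
    apply Subgroup.eq_of_le_of_card_ge
    · rw [Subgroup.zpowers_le]; exact τ'.2
    · rw [Nat.card_zpowers, hτ, hPcard]
  haveI : Fact (Nat.Prime 2) := ⟨Nat.prime_two⟩
  obtain ⟨t', ht'⟩ := exists_prime_orderOf_dvd_card'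
    (G := Subgroup.normalizer ((P : Subgroup G) : Set G)) 2 (even_iff_two_dvd.mp heven)
  have ht : orderOf (t' : G) = 2 := by rw [Subgroup.orderOf_coe]; exact ht'
  refine ⟨τ', t', hτ, hPz, ht, ?_⟩
  set τp : Perm α := ((τ' : G) : Perm α) with hτp
  set tp : Perm α := ((t' : G) : Perm α) with htp
  have hτperm : orderOf τp = p := by rw [hτp, Subgroup.orderOf_coe]; exact hτ
  obtain ⟨e, he⟩ := exists_equiv_zmod_of_orderOf hα τp hτperm
  have hnorm : (t' : G) * τ' * (t' : G)⁻¹ ∈ Subgroup.zpowers (τ' : G) := by
    rw [← hPz]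
    exact (Subgroup.mem_normalizer_iff.mp t'.2 τ').mp τ'.2
  have hnorm' : tp * τp * tp⁻¹ ∈ Subgroup.zpowers τp := by
    obtain ⟨m, hm⟩ := Subgroup.mem_zpowers_iff.mp hnorm
    rw [Subgroup.mem_zpowers_iff]
    refine ⟨m, ?_⟩
    have h := congrArg (Subtype.val) hm
    rw [Subgroup.coe_zpow, Subgroup.coe_mul, Subgroup.coe_mul, Subgroup.coe_inv] at h
    exact h
  obtain ⟨k, b, hkb⟩ := affine_of_conj_mem_zpowers τp tp e he hnorm'
  have ht2G : (t' : G) * (t' : G) = 1 := by
    rw [← pow_two, ← ht]; exact pow_orderOf_eq_one _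
  have ht2 : tp * tp = 1 := by
    have h := congrArg (Subtype.val) ht2G
    rw [Subgroup.coe_mul] at h
    exact h
  have hsq : ∀ j, k * (k * j + b) + b = j := by
    intro j
    have h := congrArg (fun f : Perm α => f (e j)) ht2
    simp only [Equiv.Perm.mul_apply, Equiv.Perm.one_apply] at h
    rw [hkb, hkb] at h
    exact e.injective h
  have h0 := hsq 0
  have h1 := hsq 1
  have hk2 : (k - 1) * (k + 1) = 0 := by
    have : (k - 1) * (k + 1) = (k * (k * 1 + b) + b) - (k * (k * 0 + b) + b) - 1 := by ring
    rw [this, h0, h1]; ring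
  have h2ne : (2 : ZMod p) ≠ 0 := by
    intro h
    have h' : ((2 : ℕ) : ZMod p) = 0 := by exact_mod_cast h
    rw [ZMod.natCast_eq_zero_iff] at h'
    exact hp2 ((Nat.prime_dvd_prime_iff_eq hp Nat.prime_two).mp h')
  have hk : k = -1 := by
    rcases mul_eq_zero.mp hk2 with h | h
    · exfalso
      have hk1 : k = 1 := sub_eq_zero.mp h
      rw [hk1] at h0
      have hb : (2 : ZMod p) * b = 0 := by
        have : (2 : ZMod p) * b = 1 * (1 * 0 + b) + b := by ring
        rw [this, h0]
      have hb0 : b = 0 := by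
        rcases mul_eq_zero.mp hb with h' | h'
        · exact absurd h' h2ne
        · exact h'
      have htp1 : tp = 1 := by
        ext x
        obtain ⟨j, rfl⟩ := e.surjective x
        rw [hkb, hk1, hb0]; simp
      have ht1 : (t' : G) = 1 := Subtype.ext htp1
      rw [ht1, orderOf_one] at ht
      omega
    · exact eq_neg_of_add_eq_zero_left h
  have hinv : tp⁻¹ = tp := inv_eq_of_mul_eq_one_left ht2
  have hfinal : tp * τp * tp⁻¹ = τp⁻¹ := by
    ext x
    obtain ⟨j, rfl⟩ := e.surjective x
    rw [hinv, Equiv.Perm.mul_apply, Equiv.Perm.mul_apply, hkb, he, hkb, hk]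
    symm
    rw [Equiv.Perm.inv_eq_iff_eq, he]
    congr 1
    ring
  apply Subtype.ext
  rw [Subgroup.coe_mul, Subgroup.coe_mul, Subgroup.coe_inv, Subgroup.coe_inv]
  exact hfinal

end PrimeSetup

end Cfsg.Agent.H75
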