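import Mathlib
import Cfsg.Agent.H75.PrimeDihedral

set_option autoImplicit false
set_option linter.unusedSectionVars false
set_option linter.style.haveILetI false

namespace Cfsg.Agent.H75

open Equiv
open scoped Pointwise commutatorElement

section TwoTrans

variable {α : Type*} [Fintype α] [DecidableEq α] {p : ℕ} [Fact p.Prime]

/-- an element of order `p` of a permutation group of degree `p` has no fixed point -/
theorem no_fixed_of_orderOf_eq (hα : Fintype.card α = p) (τ : Perm α) (hτ : orderOf τ = p)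
    (x : α) : τ x ≠ x := by
  have hp : p.Prime := Fact.out
  have hcyc : τ.IsCycle :=
    Equiv.Perm.isCycle_of_prime_order'' (by rw [hα]; exact hp) (by rw [hτ, hα])
  have hsupp : τ.support = Finset.univ := by
    apply Finset.eq_univ_of_card
    rw [← hcyc.orderOf, hτ, hα]
  exact Equiv.Perm.mem_support.mp (by rw [hsupp]; exact Finset.mem_univ x)

/-- Neumann: in a doubly transitive group of odd prime degree whose Sylow `p`-normalizer has
even order, a subgroup of index `p` fixes a point -/
theorem stabilizer_of_index_p_two_trans (hα : Fintype.card α = p) (hp2 : p ≠ 2)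
    (G : Subgroup (Perm α)) [MulAction.IsPretransitive G α]
    (h2t : MulAction.IsMultiplyPretransitive G α 2) (P : Sylow p G)
    (heven : Even (Nat.card (Subgroup.normalizer ((P : Subgroup G) : Set G))))
    (H : Subgroup G) (hH : H.index = p) : ∃ a : α, H ≤ MulAction.stabilizer G a := by
  classical
  have hp : p.Prime := Fact.out
  obtain ⟨τ, t, hτ, hPz, ht, hconj⟩ := exists_dihedral_pair hα hp2 G P heven
  have hndH := not_dvd_card_of_index_eq hα G H hH
  have hτp : τ ^ p = 1 := by rw [← hτ]; exact pow_orderOf_eq_one τ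
  have ht2 : t ^ 2 = 1 := by rw [← ht]; exact pow_orderOf_eq_one t
  have hfreeα : ∀ x : α, τ • x ≠ x := fun x =>
    no_fixed_of_orderOf_eq hα (τ : Perm α) (by rw [Subgroup.orderOf_coe]; exact hτ) x
  have hfreeΩ : ∀ y : G ⧸ H, τ • y ≠ y := by
    intro y hy
    obtain ⟨g, rfl⟩ := QuotientGroup.mk_surjective y
    have h1 : g⁻¹ * τ⁻¹ * g ∈ H := by
      have h : ((τ * g : G) : G ⧸ H) = (g : G ⧸ H) := hy
      rw [QuotientGroup.eq] at h
      have : (τ * g)⁻¹ * g = g⁻¹ * τ⁻¹ * g := by group
      rwa [this] at h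
    have h2 : orderOf (g⁻¹ * τ⁻¹ * g) = p := by
      have h3 := MulEquiv.orderOf_eq (MulAut.conj g⁻¹) τ⁻¹
      rw [MulAut.conj_apply, inv_inv, orderOf_inv] at h3
      rw [h3, hτ]
    exact hndH (h2 ▸ Subgroup.orderOf_dvd_natCard H h1)
  letI : Fintype (G ⧸ H) := Fintype.ofFinite _
  have hΩcard : Fintype.card (G ⧸ H) = p := by
    rw [← hH, Subgroup.index_eq_card, Nat.card_eq_fintype_card]
  obtain ⟨e, he1, he2⟩ := exists_dihedral_coords hα hp2 τ t hτp ht2 hconj hfreeα
  obtain ⟨e', he'1, he'2⟩ := exists_dihedral_coords hΩcard hp2 τ t hτp ht2 hconj hfreeΩ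
  set y₁ : G ⧸ H := ((1 : G) : G ⧸ H) with hy₁
  set k₁ : ZMod p := e'.symm y₁ with hk₁
  set x₁ : α := e k₁ with hx₁
  have hy₁k : e' k₁ = y₁ := by rw [hk₁, Equiv.apply_symm_apply]
  let R : α → G ⧸ H → Prop := fun x y => ∃ g : G, g • x₁ = x ∧ g • y₁ = y
  have hRinv : ∀ (g : G) x y, R x y → R (g • x) (g • y) := by
    rintro g x y ⟨g', rfl, rfl⟩
    exact ⟨g * g', by rw [mul_smul], by rw [mul_smul]⟩
  have hRτ : ∀ (n : ℕ) j k, R (e j) (e' k) → R (e (j + n)) (e' (k + n)) := by
    intro n j k h
    have := hRinv (τ ^ n) _ _ h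
    rwa [pow_smul_coords τ e he1, pow_smul_coords τ e' he'1] at this
  let S : Finset (ZMod p) := Finset.univ.filter (fun s => R (e 0) (e' s))
  have hS : ∀ s, s ∈ S ↔ R (e 0) (e' s) := fun s => by
    simp only [S, Finset.mem_filter, Finset.mem_univ, true_and]
  have hF1 : ∀ j k, R (e j) (e' k) ↔ k - j ∈ S := by
    intro j k
    rw [hS]
    constructor
    · intro h
      have := hRτ (-j).val j k h
      rwa [ZMod.natCast_zmod_val, add_neg_cancel, ← sub_eq_add_neg] at this
    · intro h
      have := hRτ j.val 0 (k - j) h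
      rwa [ZMod.natCast_zmod_val, zero_add, sub_add_cancel] at this
  have hsymm : ∀ s ∈ S, -s ∈ S := by
    intro s hs
    rw [hS] at hs ⊢
    have := hRinv t _ _ hs
    rwa [he2, he'2, neg_zero] at this
  have h0S : (0 : ZMod p) ∈ S := by
    have h : R (e k₁) (e' k₁) := ⟨1, by rw [one_smul], by rw [one_smul, hy₁k]⟩
    have := (hF1 k₁ k₁).mp h
    rwa [sub_self] at this
  have hle : ∀ d d' : ZMod p, d ≠ 0 → d' ≠ 0 →
      (S.filter (fun s => s - d ∈ S)).card ≤ (S.filter (fun s => s - d' ∈ S)).card := by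
    intro d d' hd hd'
    have hne1 : e 0 ≠ e d := fun h => hd (e.injective h).symm
    have hne2 : e 0 ≠ e d' := fun h => hd' (e.injective h).symm
    obtain ⟨g, hg1, hg2⟩ := (MulAction.is_two_pretransitive_iff.mp h2t) hne1 hne2
    apply Finset.card_le_card_of_injOn (fun s => e'.symm (g • e' s))
    · intro s hs
      rw [Finset.mem_coe, Finset.mem_filter] at hs ⊢
      obtain ⟨hs1, hs2⟩ := hs
      have hs2' : R (e d) (e' s) := (hF1 d s).mpr hs2
      have hs1' : R (e 0) (e' s) := (hS s).mp hs1
      constructor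
      · rw [hS, Equiv.apply_symm_apply]
        have := hRinv g _ _ hs1'
        rwa [hg1] at this
      · rw [← hF1, Equiv.apply_symm_apply]
        have := hRinv g _ _ hs2'
        rwa [hg2] at this
    · intro s _ s' _ hss
      have h1 : g • e' s = g • e' s' := e'.symm.injective hss
      exact e'.injective (MulAction.injective g h1)
  have hdes : ∀ d : ZMod p, d ≠ 0 →
      (S.filter (fun s => s - d ∈ S)).card = (S.filter (fun s => s - 1 ∈ S)).card :=
    fun d hd => le_antisymm (hle d 1 hd one_ne_zero) (hle 1 d one_ne_zero hd)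
  have hstabH : ∀ g : G, g • y₁ = y₁ ↔ g ∈ H := by
    intro g
    rw [← MulAction.mem_stabilizer_iff, hy₁, MulAction.stabilizer_quotient]
  rcases symm_design_parity hp2 S hsymm _ hdes with hcase | hcase
  · -- `S = {0}`: `H` fixes `x₁`
    refine ⟨x₁, fun h hh => ?_⟩
    rw [MulAction.mem_stabilizer_iff]
    have hR : R (h • x₁) (h • y₁) := hRinv h _ _ ⟨1, by rw [one_smul], by rw [one_smul]⟩
    rw [(hstabH h).mpr hh, ← hy₁k] at hR
    have hj : h • x₁ = e (e.symm (h • x₁)) := by rw [Equiv.apply_symm_apply]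
    rw [hj] at hR
    have h3 := hcase _ ((hF1 _ _).mp hR)
    rw [hj, ← sub_eq_zero.mp h3]
  · -- `S` is everything: `H` is transitive, impossible
    exfalso
    have hall : ∀ s, s ∈ S := by
      intro s
      by_cases hs : s = 0
      · rw [hs]; exact h0S
      · exact hcase s hs
    have htrH : ∀ x : α, ∃ h : H, h • x₁ = x := by
      intro x
      have hx : x = e (e.symm x) := by rw [Equiv.apply_symm_apply]
      have hR : R (e (e.symm x)) (e' k₁) := (hF1 _ _).mpr (hall _)
      obtain ⟨g, hg1, hg2⟩ := hR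
      rw [hy₁k] at hg2
      exact ⟨⟨g, (hstabH g).mp hg2⟩, by rw [hx, ← hg1]; rfl⟩
    haveI : MulAction.IsPretransitive H α := ⟨fun x y => by
      obtain ⟨hx, hhx⟩ := htrH x
      obtain ⟨hy, hhy⟩ := htrH y
      exact ⟨hy * hx⁻¹, by rw [mul_smul, ← hhx, inv_smul_smul, hhy]⟩⟩
    have hidx : (MulAction.stabilizer H x₁).index = p := by
      rw [MulAction.index_stabilizer_of_transitive, Nat.card_eq_fintype_card, hα]
    exact hndH (hidx ▸ Subgroup.index_dvd_card _)

end TwoTrans

section Solvable

/-- a nontrivial solvable group has a nontrivial abelian normal subgroup -/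
theorem exists_abelian_normal_of_solvable {G : Type*} [Group G] [Nontrivial G]
    [Group.IsSolvable G] :
    ∃ A : Subgroup G, A.Normal ∧ A ≠ ⊥ ∧ ∀ a ∈ A, ∀ b ∈ A, a * b = b * a := by
  classical
  have hex : ∃ n, derivedSeries G n = ⊥ := Group.IsSolvable.solvable
  have hmin : ∀ m, m < Nat.find hex → ¬ derivedSeries G m = ⊥ := fun m hm => Nat.find_min hex hm
  have hspec := Nat.find_spec hex
  obtain ⟨k, hk⟩ : ∃ k, Nat.find hex = k + 1 := by
    rcases Nat.eq_zero_or_pos (Nat.find hex) with h | h
    · exfalso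
      rw [h, derivedSeries_zero] at hspec
      exact top_ne_bot hspec
    · exact ⟨Nat.find hex - 1, by omega⟩
  refine ⟨derivedSeries G k, derivedSeries_normal G k, ?_, ?_⟩
  · exact hmin k (by omega)
  · intro a ha b hb
    rw [hk, derivedSeries_succ] at hspec
    have h1 : ⁅a, b⁆ ∈ ⁅derivedSeries G k, derivedSeries G k⁆ :=
      Subgroup.commutator_mem_commutator ha hb
    rw [hspec, Subgroup.mem_bot] at h1
    exact commutatorElement_eq_one_iff_mul_comm.mp h1

variable {α : Type*} [Fintype α] [DecidableEq α] {p : ℕ} [Fact p.Prime]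

/-- a nontrivial normal subgroup of a transitive group of prime degree is transitive -/
theorem normal_transitive_of_prime_degree (hα : Fintype.card α = p) (G : Subgroup (Perm α))
    [MulAction.IsPretransitive G α] (A : Subgroup G) [A.Normal] (hA : A ≠ ⊥) (x y : α) :
    ∃ a ∈ A, a • x = y := by
  classical
  have hp : p.Prime := Fact.out
  -- `A` moves `x`
  obtain ⟨a, haA, hax⟩ : ∃ a ∈ A, a • x ≠ x := by
    obtain ⟨⟨a, haA⟩, ha1⟩ := (Subgroup.ne_bot_iff_exists_ne_one.mp hA)
    have : ∃ z : α, (a : G) • z ≠ z := by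
      by_contra hcon
      push Not at hcon
      apply ha1
      apply Subtype.ext
      apply Subtype.ext
      ext z
      exact hcon z
    obtain ⟨z, hz⟩ := this
    obtain ⟨g, hg⟩ := MulAction.exists_smul_eq G x z
    refine ⟨g⁻¹ * a * g, ?_, ?_⟩
    · have := ‹A.Normal›.conj_mem a haA g⁻¹
      rwa [inv_inv] at this
    · intro h
      apply hz
      rw [mul_smul, mul_smul, hg] at h
      have h2 := congrArg (fun w => g • w) h
      simp only [smul_inv_smul] at h2
      rw [h2, hg]
  have hidx : (MulAction.stabilizer G x).index = p := by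
    rw [MulAction.index_stabilizer_of_transitive, Nat.card_eq_fintype_card, hα]
  have hle : MulAction.stabilizer G x ≤ A ⊔ MulAction.stabilizer G x := le_sup_right
  have hdvd : (A ⊔ MulAction.stabilizer G x).index ∣ p := by
    rw [← hidx]; exact Subgroup.index_dvd_of_le hle
  have htop : A ⊔ MulAction.stabilizer G x = ⊤ := by
    rcases (Nat.dvd_prime hp).mp hdvd with h1 | h1
    · exact Subgroup.index_eq_one.mp h1
    · exfalso
      have h2 := Subgroup.card_mul_index (A ⊔ MulAction.stabilizer G x)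
      have h3 := Subgroup.card_mul_index (MulAction.stabilizer G x)
      rw [h1] at h2; rw [hidx] at h3
      have h4 : Nat.card (A ⊔ MulAction.stabilizer G x : Subgroup G) =
          Nat.card (MulAction.stabilizer G x) :=
        Nat.eq_of_mul_eq_mul_right hp.pos (h2.trans h3.symm)
      have h5 := Subgroup.eq_of_le_of_card_ge hle (le_of_eq h4)
      apply hax
      have : a ∈ MulAction.stabilizer G x := by
        rw [h5]; exact Subgroup.mem_sup_left haA
      exact this
  obtain ⟨g, hg⟩ := MulAction.exists_smul_eq G x y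
  have hgmem : g ∈ A ⊔ MulAction.stabilizer G x := by rw [htop]; trivial
  have hset : g ∈ (A : Set G) * (MulAction.stabilizer G x : Set G) := by
    rw [← Subgroup.normal_mul]; exact hgmem
  obtain ⟨a', ha', h', hh', rfl⟩ := Set.mem_mul.mp hset
  refine ⟨a', ha', ?_⟩
  rw [← hg, mul_smul]
  congr 1
  exact (MulAction.mem_stabilizer_iff.mp hh').symm

/-- a transitive abelian subgroup of a permutation group is regular -/
theorem card_of_abelian_transitive (G : Subgroup (Perm α)) (A : Subgroup G)
    (hab : ∀ a ∈ A, ∀ b ∈ A, a * b = b * a) (htr : ∀ x y : α, ∃ a ∈ A, a • x = y) (x₀ : α) :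
    Nat.card A = Fintype.card α := by
  rw [← Nat.card_eq_fintype_card]
  apply Nat.card_eq_of_bijective (fun a : A => (a : G) • x₀)
  constructor
  · intro a b hab'
    have hab'' : (a : G) • x₀ = (b : G) • x₀ := hab'
    apply Subtype.ext
    apply Subtype.ext
    ext z
    obtain ⟨c, hc, rfl⟩ := htr x₀ z
    change (a : G) • c • x₀ = (b : G) • c • x₀
    rw [← mul_smul, ← mul_smul, hab _ a.2 _ hc, hab _ b.2 _ hc, mul_smul, mul_smul, hab'']
  · intro z
    obtain ⟨c, hc, rfl⟩ := htr x₀ z
    exact ⟨⟨c, hc⟩, rfl⟩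

/-- a `p'`-subgroup of a group of affine permutations fixes a point -/
theorem exists_fixed_of_affine (G : Subgroup (Perm α)) (e : ZMod p ≃ α)
    (haff : ∀ g : G, ∃ k b : ZMod p, ∀ j, g • e j = e (k * j + b))
    (H : Subgroup G) (hndH : ¬ p ∣ Nat.card H) : ∃ a : α, H ≤ MulAction.stabilizer G a := by
  classical
  have hp : p.Prime := Fact.out
  let kf : G → ZMod p := fun g => e.symm (g • e 1) - e.symm (g • e 0)
  let bf : G → ZMod p := fun g => e.symm (g • e 0)
  have hform : ∀ (g : G) (j : ZMod p), g • e j = e (kf g * j + bf g) := by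
    intro g j
    obtain ⟨k, b, hkb⟩ := haff g
    have h1 : kf g = k := by
      change e.symm (g • e 1) - e.symm (g • e 0) = k
      rw [hkb, hkb, Equiv.symm_apply_apply, Equiv.symm_apply_apply]; ring
    have h2 : bf g = b := by
      change e.symm (g • e 0) = b
      rw [hkb, Equiv.symm_apply_apply]; ring
    rw [h1, h2, hkb]
  have hext : ∀ g g' : G, (∀ j, g • e j = g' • e j) → g = g' := by
    intro g g' h
    apply Subtype.ext
    ext z
    obtain ⟨j, rfl⟩ := e.surjective z
    exact h j
  have hkmul : ∀ g h : G, kf (g * h) = kf g * kf h := by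
    intro g h
    have h1 : ∀ j, (g * h) • e j = e (kf g * (kf h * j + bf h) + bf g) := by
      intro j
      rw [mul_smul, hform h, hform g]
    change e.symm ((g * h) • e 1) - e.symm ((g * h) • e 0) = kf g * kf h
    rw [h1, h1, Equiv.symm_apply_apply, Equiv.symm_apply_apply]; ring
  have hk1 : kf 1 = 1 := by
    change e.symm ((1 : G) • e 1) - e.symm ((1 : G) • e 0) = 1
    rw [one_smul, one_smul, Equiv.symm_apply_apply, Equiv.symm_apply_apply]; ring
  have hkinv : ∀ g : G, kf g * kf g⁻¹ = 1 := by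
    intro g
    rw [← hkmul, mul_inv_cancel, hk1]
  -- translations in `H` are trivial
  have htrans : ∀ h ∈ H, kf h = 1 → h = 1 := by
    intro h hh hk
    have hpow : ∀ (n : ℕ) (j : ZMod p), (h ^ n) • e j = e (j + n * bf h) := by
      intro n
      induction n with
      | zero => intro j; simp
      | succ n ih =>
        intro j
        rw [pow_succ', mul_smul, ih, hform h, hk]
        congr 1
        push_cast; ring
    have hhp : h ^ p = 1 := by
      apply hext
      intro j
      rw [hpow, one_smul]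
      congr 1
      have : ((p : ℕ) : ZMod p) = 0 := ZMod.natCast_self p
      rw [this]; ring
    have hord : orderOf h ∣ p := orderOf_dvd_of_pow_eq_one hhp
    rcases (Nat.dvd_prime hp).mp hord with h1 | h1
    · exact orderOf_eq_one_iff.mp h1
    · exact absurd (h1 ▸ Subgroup.orderOf_dvd_natCard H hh) hndH
  -- `H` is commutative
  have hcomm : ∀ h ∈ H, ∀ h' ∈ H, h * h' = h' * h := by
    intro h hh h' hh'
    have h1 : h * h' * h⁻¹ * h'⁻¹ ∈ H :=
      H.mul_mem (H.mul_mem (H.mul_mem hh hh') (H.inv_mem hh)) (H.inv_mem hh')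
    have h2 : kf (h * h' * h⁻¹ * h'⁻¹) = 1 := by
      rw [hkmul, hkmul, hkmul]
      have e1 := hkinv h
      have e2 := hkinv h'
      calc kf h * kf h' * kf h⁻¹ * kf h'⁻¹ = (kf h * kf h⁻¹) * (kf h' * kf h'⁻¹) := by ring
        _ = 1 := by rw [e1, e2, one_mul]
    have h3 := htrans _ h1 h2
    have h4 : h * h' = (h * h' * h⁻¹ * h'⁻¹) * (h' * h) := by group
    rw [h4, h3, one_mul]
  by_cases hbot : ∀ h ∈ H, h = 1
  · refine ⟨e 0, fun h hh => ?_⟩
    rw [hbot h hh]; exact Subgroup.one_mem _
  · push Not at hbot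
    obtain ⟨h₀, hh₀, hne⟩ := hbot
    have hk₀ : kf h₀ ≠ 1 := fun h => hne (htrans h₀ hh₀ h)
    have hk₀' : 1 - kf h₀ ≠ 0 := fun h => hk₀ (sub_eq_zero.mp h).symm
    refine ⟨e (bf h₀ / (1 - kf h₀)), fun h hh => ?_⟩
    rw [MulAction.mem_stabilizer_iff]
    have hfix₀ : h₀ • e (bf h₀ / (1 - kf h₀)) = e (bf h₀ / (1 - kf h₀)) := by
      rw [hform]
      congr 1
      field_simp
      ring
    have huniq : ∀ j, h₀ • e j = e j → j = bf h₀ / (1 - kf h₀) := by
      intro j hj
      rw [hform] at hj
      have := e.injective hj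
      rw [eq_div_iff hk₀']
      linear_combination -this
    have h1 : h₀ • (h • e (bf h₀ / (1 - kf h₀))) = h • e (bf h₀ / (1 - kf h₀)) := by
      rw [← mul_smul, hcomm h₀ hh₀ h hh, mul_smul, hfix₀]
    have h2 : h • e (bf h₀ / (1 - kf h₀)) = e (e.symm (h • e (bf h₀ / (1 - kf h₀)))) := by
      rw [Equiv.apply_symm_apply]
    rw [h2] at h1
    rw [h2, huniq _ h1]

/-- Galois: in a solvable transitive group of prime degree, a subgroup of index `p` fixes a
point -/
theorem stabilizer_of_index_p_solvable (hα : Fintype.card α = p) (G : Subgroup (Perm α))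
    [MulAction.IsPretransitive G α] (hsolv : Group.IsSolvable G) (H : Subgroup G)
    (hH : H.index = p) : ∃ a : α, H ≤ MulAction.stabilizer G a := by
  classical
  have hp : p.Prime := Fact.out
  haveI : Nonempty α := Fintype.card_pos_iff.mp (by rw [hα]; exact hp.pos)
  obtain ⟨x₀⟩ := ‹Nonempty α›
  have hndH := not_dvd_card_of_index_eq hα G H hH
  haveI : Nontrivial G := by
    rw [← Finite.one_lt_card_iff_nontrivial]
    have h1 : Nat.card H * p = Nat.card G := by rw [← hH]; exact Subgroup.card_mul_index H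
    have h2 : 0 < Nat.card H := Nat.card_pos
    have h3 := hp.two_le
    nlinarith
  obtain ⟨A, hAn, hAne, hAab⟩ := exists_abelian_normal_of_solvable (G := G)
  have htrA := normal_transitive_of_prime_degree hα G A hAne
  have hAcard : Nat.card A = p := by rw [card_of_abelian_transitive G A hAab htrA x₀, hα]
  obtain ⟨τ', hτ'⟩ := exists_prime_orderOf_dvd_card' (G := A) p (by rw [hAcard])
  have hτ : orderOf (τ' : G) = p := by rw [Subgroup.orderOf_coe]; exact hτ'
  have hAz : A = Subgroup.zpowers (τ' : G) := by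
    symm
    apply Subgroup.eq_of_le_of_card_ge
    · rw [Subgroup.zpowers_le]; exact τ'.2
    · rw [Nat.card_zpowers, hτ, hAcard]
  have hτperm : orderOf ((τ' : G) : Perm α) = p := by rw [Subgroup.orderOf_coe]; exact hτ
  obtain ⟨e, he⟩ := exists_equiv_zmod_of_orderOf hα _ hτperm
  apply exists_fixed_of_affine G e ?_ H hndH
  intro g
  have hnorm : g * (τ' : G) * g⁻¹ ∈ Subgroup.zpowers (τ' : G) := by
    rw [← hAz]
    exact hAn.conj_mem _ τ'.2 g
  have hnorm' : (g : Perm α) * ((τ' : G) : Perm α) * (g : Perm α)⁻¹ ∈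
      Subgroup.zpowers ((τ' : G) : Perm α) := by
    obtain ⟨m, hm⟩ := Subgroup.mem_zpowers_iff.mp hnorm
    rw [Subgroup.mem_zpowers_iff]
    refine ⟨m, ?_⟩
    have h := congrArg (Subtype.val) hm
    rw [Subgroup.coe_zpow, Subgroup.coe_mul, Subgroup.coe_mul, Subgroup.coe_inv] at h
    exact h
  exact affine_of_conj_mem_zpowers _ _ e he hnorm'

end Solvable

end Cfsg.Agent.H75
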