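import Mathlib
import Cfsg.Agent.H75.PrimeIndex
import Cfsg.Agent.S0675
import Cfsg.Agent.S0676
import Cfsg.Agent.S1013

/-!
# Transitive groups of prime degree: Sylow normalizers, and degree 7
-/

set_option autoImplicit false

namespace Cfsg.Agent.H75

open Equiv

section General

variable {α : Type*} [Fintype α] [DecidableEq α] {p : ℕ} [Fact p.Prime]

/-- a Sylow `p`-subgroup of a transitive group of prime degree `p` is cyclic of order `p` -/
theorem exists_sylow_generator (hα : Fintype.card α = p) (G : Subgroup (Perm α))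
    [MulAction.IsPretransitive G α] (P : Sylow p G) :
    ∃ τ : G, orderOf τ = p ∧ (P : Subgroup G) = Subgroup.zpowers τ ∧
      Nat.card (P : Subgroup G) = p := by
  classical
  have hp : p.Prime := Fact.out
  have hfac := factorization_card_prime_degree hα G
  have hPcard : Nat.card (P : Subgroup G) = p := by
    rw [Sylow.card_eq_multiplicity, hfac, pow_one]
  obtain ⟨τ', hτ'⟩ := exists_prime_orderOf_dvd_card' (G := (P : Subgroup G)) p (by rw [hPcard])
  have hτ : orderOf (τ' : G) = p := by rw [Subgroup.orderOf_coe]; exact hτ'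
  have hPz : (P : Subgroup G) = Subgroup.zpowers (τ' : G) := by
    symm
    apply Subgroup.eq_of_le_of_card_ge
    · rw [Subgroup.zpowers_le]; exact τ'.2
    · rw [Nat.card_zpowers, hτ, hPcard]
  exact ⟨τ', hτ, hPz, hPcard⟩

/-- an element commuting with an element of order `p` in degree `p` is a power of it -/
theorem mem_zpowers_of_commute (hα : Fintype.card α = p) (G : Subgroup (Perm α))
    (τ c : G) (hτ : orderOf τ = p) (hc : c * τ = τ * c) : c ∈ Subgroup.zpowers τ := by
  classical
  have hp : p.Prime := Fact.out
  set τp : Perm α := (τ : Perm α) with hτp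
  set cp : Perm α := (c : Perm α) with hcp
  have hτperm : orderOf τp = p := by rw [hτp, Subgroup.orderOf_coe]; exact hτ
  obtain ⟨e, he⟩ := exists_equiv_zmod_of_orderOf hα τp hτperm
  have hcomm : cp * τp = τp * cp := by
    have h := congrArg (Subtype.val) hc
    rw [Subgroup.coe_mul, Subgroup.coe_mul] at h
    exact h
  have hτk : ∀ (n : ℕ) (j : ZMod p), (τp ^ n) (e j) = e (j + n) := by
    intro n
    induction n with
    | zero => intro j; simp
    | succ n ih =>
      intro j
      rw [pow_succ', Equiv.Perm.mul_apply, ih, he]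
      congr 1
      push_cast; ring
  have hcpow : ∀ n : ℕ, cp * τp ^ n = τp ^ n * cp := by
    intro n
    induction n with
    | zero => simp
    | succ n ih =>
      rw [pow_succ, ← mul_assoc, ih, mul_assoc, hcomm, ← mul_assoc]
  set b : ZMod p := e.symm (cp (e 0)) with hb
  have hcb : cp = τp ^ b.val := by
    ext x
    obtain ⟨j, rfl⟩ := e.surjective x
    have h1 : e j = (τp ^ j.val) (e 0) := by
      rw [hτk, zero_add, ZMod.natCast_zmod_val]
    have h2 : cp (e j) = (τp ^ j.val) (cp (e 0)) := by
      rw [h1]
      have := congrArg (fun f : Perm α => f (e 0)) (hcpow j.val)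
      simpa [Equiv.Perm.mul_apply] using this
    have h3 : cp (e 0) = e b := by rw [hb, Equiv.apply_symm_apply]
    rw [h2, h3, hτk, hτk, ZMod.natCast_zmod_val, ZMod.natCast_zmod_val, add_comm]
  rw [Subgroup.mem_zpowers_iff]
  refine ⟨(b.val : ℤ), ?_⟩
  apply Subtype.ext
  rw [zpow_natCast, Subgroup.coe_pow]
  exact hcb.symm

/-- the normalizer of a Sylow `p`-subgroup in degree `p` has order `p * d` with `d ∣ p - 1`;
`d` is the index of the Sylow subgroup in its normalizer, and if `d = 1` the normalizer
centralizes the Sylow subgroup -/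
theorem card_normalizer_prime_degree (hα : Fintype.card α = p) (G : Subgroup (Perm α))
    [MulAction.IsPretransitive G α] (P : Sylow p G) :
    ∃ d, d ∣ p - 1 ∧ Nat.card (Subgroup.normalizer ((P : Subgroup G) : Set G)) = p * d ∧
      (d = 1 → Subgroup.normalizer ((P : Subgroup G) : Set G) ≤
        Subgroup.centralizer ((P : Subgroup G) : Set G)) ∧
      ((P : Subgroup G).subgroupOf (Subgroup.normalizer ((P : Subgroup G) : Set G))).index = d := by
  classical
  have hp : p.Prime := Fact.out
  obtain ⟨τ, hτ, hPz, hPcard⟩ := exists_sylow_generator hα G P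
  have hker : (Subgroup.normalizerMonoidHom (P : Subgroup G)).ker =
      (Subgroup.centralizer ((P : Subgroup G) : Set G)).subgroupOf
        (Subgroup.normalizer ((P : Subgroup G) : Set G)) :=
    Subgroup.normalizerMonoidHom_ker (P : Subgroup G)
  have hcent : Subgroup.centralizer ((P : Subgroup G) : Set G) = (P : Subgroup G) := by
    apply le_antisymm
    · intro c hc
      rw [hPz]
      apply mem_zpowers_of_commute hα G τ c hτ
      have hτP : τ ∈ ((P : Subgroup G) : Set G) := by
        rw [hPz]; exact Subgroup.mem_zpowers τ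
      exact (Subgroup.mem_centralizer_iff.mp hc τ hτP).symm
    · rw [hPz]
      intro c hc
      rw [Subgroup.mem_centralizer_iff]
      intro h hh
      obtain ⟨m, rfl⟩ := Subgroup.mem_zpowers_iff.mp hc
      obtain ⟨n, rfl⟩ := Subgroup.mem_zpowers_iff.mp hh
      rw [← zpow_add, ← zpow_add, add_comm]
  rw [hcent] at hker
  have hkercard : Nat.card (Subgroup.normalizerMonoidHom (P : Subgroup G)).ker = p := by
    rw [hker]
    exact (Nat.card_congr (Subgroup.subgroupOfEquivOfLe Subgroup.le_normalizer).toEquiv).trans
      hPcard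
  have : IsCyclic (P : Subgroup G) := isCyclic_of_prime_card hPcard
  have hd : Nat.card (Subgroup.normalizerMonoidHom (P : Subgroup G)).range ∣ p - 1 := by
    have h1 := Subgroup.card_subgroup_dvd_card (Subgroup.normalizerMonoidHom (P : Subgroup G)).range
    rwa [IsCyclic.card_mulAut, hPcard, Nat.totient_prime hp] at h1
  refine ⟨Nat.card (Subgroup.normalizerMonoidHom (P : Subgroup G)).range, hd, ?_, ?_, ?_⟩
  · have h1 := Subgroup.card_mul_index (Subgroup.normalizerMonoidHom (P : Subgroup G)).ker
    rw [Subgroup.index_ker, hkercard] at h1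
    exact h1.symm
  · intro h1 n hn
    have hbot : (Subgroup.normalizerMonoidHom (P : Subgroup G)).range = ⊥ :=
      Subgroup.eq_bot_of_card_eq _ h1
    have hmem : (⟨n, hn⟩ : Subgroup.normalizer ((P : Subgroup G) : Set G)) ∈
        (Subgroup.normalizerMonoidHom (P : Subgroup G)).ker := by
      rw [MonoidHom.mem_ker, ← Subgroup.mem_bot, ← hbot]
      exact MonoidHom.mem_range.mpr ⟨_, rfl⟩
    rw [Subgroup.normalizerMonoidHom_ker, Subgroup.mem_subgroupOf] at hmem
    exact hmem
  · rw [← hker, Subgroup.index_ker]

/-- **Burnside transfer in prime degree**: if the normalizer of a Sylow `p`-subgroup centralizes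
it, the group is solvable (in fact of order `p`) -/
theorem solvable_of_normalizer_le_centralizer (hα : Fintype.card α = p) (G : Subgroup (Perm α))
    [MulAction.IsPretransitive G α] (P : Sylow p G)
    (hNC : Subgroup.normalizer ((P : Subgroup G) : Set G) ≤
        Subgroup.centralizer ((P : Subgroup G) : Set G)) : Group.IsSolvable G := by
  classical
  have hp : p.Prime := Fact.out
  obtain ⟨τ, hτ, hPz, hPcard⟩ := exists_sylow_generator hα G P
  have hcompl := MonoidHom.ker_transferSylow_isComplement' P hNC
  have hcm := hcompl.card_mul_card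
  rw [hPcard] at hcm
  by_cases hK : (MonoidHom.transferSylow P hNC).ker = ⊥
  · -- the group has order `p`
    rw [hK, Subgroup.card_bot, one_mul] at hcm
    have htop : (P : Subgroup G) = ⊤ := by
      apply Subgroup.eq_top_of_card_eq
      rw [hPcard, hcm]
    apply Group.isSolvable_of_comm
    intro a b
    have ha : a ∈ Subgroup.zpowers τ := by rw [← hPz, htop]; trivial
    have hb : b ∈ Subgroup.zpowers τ := by rw [← hPz, htop]; trivial
    obtain ⟨m, rfl⟩ := Subgroup.mem_zpowers_iff.mp ha
    obtain ⟨n, rfl⟩ := Subgroup.mem_zpowers_iff.mp hb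
    rw [← zpow_add, ← zpow_add, add_comm]
  · exfalso
    have : Nonempty α := Fintype.card_pos_iff.mp (by rw [hα]; exact hp.pos)
    obtain ⟨o⟩ := ‹Nonempty α›
    have htr := normal_transitive_of_prime_degree hα G (MonoidHom.transferSylow P hNC).ker hK
    have : MulAction.IsPretransitive (MonoidHom.transferSylow P hNC).ker α := by
      refine ⟨fun x y => ?_⟩
      obtain ⟨a, ha, hax⟩ := htr x y
      exact ⟨⟨a, ha⟩, hax⟩
    have hidx : (MulAction.stabilizer (MonoidHom.transferSylow P hNC).ker o).index = p := by
      rw [MulAction.index_stabilizer_of_transitive, Nat.card_eq_fintype_card, hα]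
    have hdvd : p ∣ Nat.card (MonoidHom.transferSylow P hNC).ker := by
      have h := Subgroup.index_dvd_card
        (MulAction.stabilizer (MonoidHom.transferSylow P hNC).ker o)
      rwa [hidx] at h
    have h2 : p ^ 2 ∣ Nat.card G := by
      rw [← hcm, pow_two]; exact mul_dvd_mul hdvd dvd_rfl
    have hfac := factorization_card_prime_degree hα G
    have h3 := (hp.pow_dvd_iff_le_factorization Nat.card_pos.ne').mp h2
    omega

/-- an involution in the normalizer of a Sylow `p`-subgroup has exactly one fixed point, so its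
sign is `(-1) ^ ((p - 1) / 2)` -/
theorem exists_involution_sign (hα : Fintype.card α = p) (hp2 : p ≠ 2) (G : Subgroup (Perm α))
    [MulAction.IsPretransitive G α] (P : Sylow p G)
    (heven : Even (Nat.card (Subgroup.normalizer ((P : Subgroup G) : Set G)))) :
    ∃ t : G, Equiv.Perm.sign (t : Perm α) = (-1) ^ ((p - 1) / 2) := by
  classical
  have hp : p.Prime := Fact.out
  obtain ⟨τ, t, hτ, hPz, ht, hconj⟩ := exists_dihedral_pair hα hp2 G P heven
  have hτp : τ ^ p = 1 := by rw [← hτ]; exact pow_orderOf_eq_one τ
  have ht2 : t ^ 2 = 1 := by rw [← ht]; exact pow_orderOf_eq_one t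
  have hfreeα : ∀ x : α, τ • x ≠ x := fun x =>
    no_fixed_of_orderOf_eq hα (τ : Perm α) (by rw [Subgroup.orderOf_coe]; exact hτ) x
  obtain ⟨e, he1, he2⟩ := exists_dihedral_coords hα hp2 τ t hτp ht2 hconj hfreeα
  refine ⟨t, ?_⟩
  have ht2' : (t : Perm α) ^ 2 = 1 := by
    have h := congrArg Subtype.val ht2
    rw [Subgroup.coe_pow] at h
    exact h
  have h2ne : (2 : ZMod p) ≠ 0 := by
    intro h
    have h' : ((2 : ℕ) : ZMod p) = 0 := by exact_mod_cast h
    rw [ZMod.natCast_eq_zero_iff] at h'
    exact hp2 ((Nat.prime_dvd_prime_iff_eq hp Nat.prime_two).mp h')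
  have hfix : Fintype.card (Function.fixedPoints ((t : Perm α) : α → α)) = 1 := by
    rw [Fintype.card_eq_one_iff]
    refine ⟨⟨e 0, ?_⟩, ?_⟩
    · have h := he2 0
      rw [neg_zero] at h
      exact h
    · rintro ⟨x, hx⟩
      apply Subtype.ext
      obtain ⟨j, rfl⟩ := e.surjective x
      have h1 : t • e j = e j := hx
      rw [he2] at h1
      have h2 := e.injective h1
      have h3 : (2 : ZMod p) * j = 0 := by linear_combination -h2
      rcases mul_eq_zero.mp h3 with h | h
      · exact absurd h h2ne
      · change e j = e 0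
        rw [h]
  rw [Equiv.Perm.sign_of_pow_two_eq_one ht2', hfix, hα]

end General

section Counting

/-- an `n`-fold transitive group has order divisible by `|X| (|X| - 1) ⋯ (|X| - n + 1)` -/
theorem descFactorial_dvd_card_of_pretransitive {M : Type*} [Group M] {X : Type*} [Fintype X]
    [DecidableEq X] [MulAction M X] (n : ℕ) (hn : n ≤ Fintype.card X)
    (h : MulAction.IsMultiplyPretransitive M X n) :
    (Fintype.card X).descFactorial n ∣ Nat.card M := by
  classical
  have hne : Nonempty (Fin n ↪ X) := Function.Embedding.nonempty_of_card_le (by simpa using hn)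
  obtain ⟨x⟩ := hne
  have h1 := MulAction.index_stabilizer_of_transitive M x
  have h2 := Subgroup.index_dvd_card (MulAction.stabilizer M x)
  rw [h1, Nat.card_eq_fintype_card, Fintype.card_embedding_eq, Fintype.card_fin] at h2
  exact h2

theorem card_arith_168 (c n : ℕ) (h1 : c = 21 * n) (h2 : n % 7 = 1) (h3 : 42 ∣ c)
    (h4 : c ∣ 5040) (h5 : c ≠ 2520) : c = 168 := by
  subst h1
  have hn : n ∣ 240 := by
    have h : 21 * n ∣ 21 * 240 := by simpa using h4
    exact Nat.dvd_of_mul_dvd_mul_left (by norm_num) h
  have hle : n ≤ 240 := Nat.le_of_dvd (by norm_num) hn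
  have h2n : 2 ∣ n := by
    have h : 21 * 2 ∣ 21 * n := by simpa using h3
    exact Nat.dvd_of_mul_dvd_mul_left (by norm_num) h
  interval_cases n <;> omega

end Counting

section Seven

variable {α : Type*} [Fintype α] [DecidableEq α]

/-- a non-solvable transitive group of degree 7 not containing the alternating group, whose
Sylow 7-normalizer has odd order, has order 168 and Sylow 7-normalizer of order 21 -/
theorem card_eq_168_of_odd_normalizer (hα : Fintype.card α = 7) (G : Subgroup (Perm α))
    [MulAction.IsPretransitive G α] (hG : ¬ Group.IsSolvable G) (hA : ¬ alternatingGroup α ≤ G)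
    (P : Sylow 7 G)
    (hodd : ¬ Even (Nat.card (Subgroup.normalizer ((P : Subgroup G) : Set G)))) :
    Nat.card G = 168 ∧ Nat.card (Subgroup.normalizer ((P : Subgroup G) : Set G)) = 21 ∧
      ((P : Subgroup G).subgroupOf (Subgroup.normalizer ((P : Subgroup G) : Set G))).index = 3 := by
  classical
  have : Fact (Nat.Prime 7) := ⟨by norm_num⟩
  obtain ⟨d, hd, hN, hd1, hidx⟩ := card_normalizer_prime_degree hα G P
  have hd6 : d ∣ 6 := hd
  have hdle : d ≤ 6 := Nat.le_of_dvd (by norm_num) hd6
  have hd3 : d = 3 := by
    interval_cases d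
    · omega
    · exact absurd (solvable_of_normalizer_le_centralizer hα G P (hd1 rfl)) hG
    · exfalso; apply hodd; rw [hN]; decide
    · rfl
    · omega
    · omega
    · exfalso; apply hodd; rw [hN]; decide
  subst hd3
  have hN21 : Nat.card (Subgroup.normalizer ((P : Subgroup G) : Set G)) = 21 := hN
  have hn7 : Nat.card (Sylow 7 G) ≡ 1 [MOD 7] := card_sylow_modEq_one 7 G
  have hidxN : Nat.card (Sylow 7 G) = (Subgroup.normalizer ((P : Subgroup G) : Set G)).index :=
    Sylow.card_eq_index_normalizer P
  have hcardG : Nat.card G = 21 * Nat.card (Sylow 7 G) := by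
    rw [hidxN, ← hN21]; exact (Subgroup.card_mul_index _).symm
  have h2t : MulAction.IsMultiplyPretransitive G α 2 := by
    rcases Cfsg.Agent.S0675.result (by rw [hα]; norm_num) G with h | h
    · exact absurd h hG
    · exact h
  have h42 : 42 ∣ Nat.card G := by
    have h := descFactorial_dvd_card_of_pretransitive (M := G) (X := α) 2
      (by rw [hα]; norm_num) h2t
    rwa [hα] at h
  have hfact : Nat.factorial 7 = 5040 := by decide
  have h5040 : Nat.card G ∣ 5040 := by
    have h := Subgroup.card_subgroup_dvd_card G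
    rwa [Nat.card_eq_fintype_card (α := Perm α), Fintype.card_perm, hα, hfact] at h
  have hne : Nat.card G ≠ 2520 := by
    intro h
    apply hA
    apply Equiv.Perm.alternatingGroup_le_of_index_le_two
    have h1 := Subgroup.card_mul_index G
    rw [h, Nat.card_eq_fintype_card (α := Perm α), Fintype.card_perm, hα, hfact] at h1
    omega
  exact ⟨card_arith_168 _ _ hcardG hn7 h42 h5040 hne, hN21, hidx⟩

/-- in a non-solvable transitive group of degree 7 not containing the alternating group, the
Sylow 7-normalizer has odd order -/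
theorem odd_normalizer_degree_seven (hα : Fintype.card α = 7) (G : Subgroup (Perm α))
    [MulAction.IsPretransitive G α] (hG : ¬ Group.IsSolvable G) (hA : ¬ alternatingGroup α ≤ G)
    (P : Sylow 7 G) :
    ¬ Even (Nat.card (Subgroup.normalizer ((P : Subgroup G) : Set G))) := by
  classical
  have : Fact (Nat.Prime 7) := ⟨by norm_num⟩
  intro heven
  have h3t := Cfsg.Agent.S0676.result hα G hG P heven
  have h210 : 210 ∣ Nat.card G := by
    have h := descFactorial_dvd_card_of_pretransitive (M := G) (X := α) 3
      (by rw [hα]; norm_num) h3t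
    rwa [hα] at h
  obtain ⟨t, ht⟩ := exists_involution_sign hα (by norm_num) G P heven
  have htm : Equiv.Perm.sign (t : Perm α) = -1 := by rw [ht]; decide
  set K' : Subgroup (Perm α) := G ⊓ alternatingGroup α with hK'
  let sg : G →* ℤˣ := Equiv.Perm.sign.comp G.subtype
  have hker : ∀ g : G, g ∈ sg.ker ↔ (g : Perm α) ∈ alternatingGroup α := by
    intro g
    rw [MonoidHom.mem_ker, Equiv.Perm.mem_alternatingGroup]; rfl
  have hindex : sg.ker.index = 2 := by
    rw [Subgroup.index_ker]
    have hrange : sg.range = ⊤ := by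
      rw [eq_top_iff]
      intro u _
      rcases Int.units_eq_one_or u with h | h
      · rw [h]; exact one_mem _
      · rw [h]; exact ⟨t, htm⟩
    rw [hrange, Subgroup.card_top, Nat.card_eq_fintype_card, Fintype.card_units_int]
  have hcardK : Nat.card K' = Nat.card sg.ker := by
    apply Nat.card_congr
    exact
      { toFun := fun x => ⟨⟨x.1, x.2.1⟩, (hker _).mpr x.2.2⟩
        invFun := fun y => ⟨y.1.1, ⟨y.1.2, (hker _).mp y.2⟩⟩
        left_inv := fun x => rfl
        right_inv := fun y => rfl }
  have hcardG : Nat.card G = Nat.card K' * 2 := by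
    rw [hcardK, ← hindex]; exact (Subgroup.card_mul_index _).symm
  have hkne : sg.ker ≠ ⊥ := by
    intro h
    rw [h, Subgroup.index_bot] at hindex
    rw [hindex] at h210
    omega
  have htr := normal_transitive_of_prime_degree hα G sg.ker hkne
  have : MulAction.IsPretransitive K' α := by
    refine ⟨fun x y => ?_⟩
    obtain ⟨a, ha, hax⟩ := htr x y
    exact ⟨⟨a.1, ⟨a.2, (hker a).mp ha⟩⟩, hax⟩
  have hKsolv : ¬ Group.IsSolvable K' := by
    intro hs
    apply hG
    exact Group.isSolvable_of_ker_le_range (Subgroup.inclusion (inf_le_left : K' ≤ G)) sg (by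
      intro g hg
      exact ⟨⟨g.1, ⟨g.2, (hker g).mp hg⟩⟩, rfl⟩)
  have hKA : ¬ alternatingGroup α ≤ K' := fun h => hA (h.trans inf_le_left)
  obtain ⟨Q⟩ : Nonempty (Sylow 7 K') := inferInstance
  have hQodd : ¬ Even (Nat.card (Subgroup.normalizer ((Q : Subgroup K') : Set K'))) := by
    intro hev
    obtain ⟨t', ht'⟩ := exists_involution_sign hα (by norm_num) K' Q hev
    have h1 : Equiv.Perm.sign (t' : Perm α) = 1 := Equiv.Perm.mem_alternatingGroup.mp t'.2.2
    rw [h1] at ht'
    revert ht'; decide
  obtain ⟨h168, -, -⟩ := card_eq_168_of_odd_normalizer hα K' hKsolv hKA Q hQodd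
  rw [hcardG, h168] at h210
  omega

end Seven

end Cfsg.Agent.H75
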