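import Mathlib

set_option autoImplicit false

/-!
# Camina–Herzog: all 2-elements 2-central implies abelian Sylow 2-subgroups

An elementary proof (no `Z*`-theorem, no classification).
-/

namespace Cfsg.Agent.H75.CH

open Subgroup

universe u

/-- Every element of 2-power order centralizes some Sylow 2-subgroup. -/
def Hyp (G : Type u) [Group G] : Prop :=
  ∀ x : G, (∃ k : ℕ, orderOf x = 2 ^ k) →
    ∃ Q : Sylow 2 G, (Q : Subgroup G) ≤ Subgroup.centralizer ({x} : Set G)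

section basic

variable {G : Type u} [Group G]

instance factTwo : Fact (Nat.Prime 2) := ⟨Nat.prime_two⟩

/-- A fixed-point-free involution on a finite set forces even cardinality. -/
theorem two_dvd_ncard_of_involution {α : Type*} [Finite α] (K : Set α) (f : α → α)
    (hK : ∀ k ∈ K, f k ∈ K) (hf : ∀ k ∈ K, f (f k) = k) (hne : ∀ k ∈ K, f k ≠ k) :
    2 ∣ K.ncard := by
  classical
  have := Fintype.ofFinite α
  rw [Set.ncard_eq_toFinset_card']
  have h := Finset.sum_involution (s := K.toFinset) (f := fun _ => (1 : ZMod 2))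
    (fun a _ => f a) (fun a _ => by decide) (fun a ha _ => hne a (Set.mem_toFinset.mp ha))
    (fun a ha => Set.mem_toFinset.mpr (hK a (Set.mem_toFinset.mp ha)))
    (fun a ha => hf a (Set.mem_toFinset.mp ha))
  rw [Finset.sum_const, nsmul_eq_mul, mul_one] at h
  exact (ZMod.natCast_eq_zero_iff _ _).mp h

theorem index_centralizer_eq_ncard [Finite G] (x : G) :
    (Subgroup.centralizer ({x} : Set G)).index = (MulAction.orbit (ConjAct G) x).ncard := by
  rw [← MulAction.index_stabilizer]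
  have : Finite (ConjAct G) := Finite.of_equiv G ConjAct.toConjAct.toEquiv
  have h1 := Subgroup.card_mul_index (Subgroup.centralizer ({x} : Set G))
  have h2 := Subgroup.card_mul_index (MulAction.stabilizer (ConjAct G) x)
  have h3 : Nat.card (ConjAct G) = Nat.card G := Nat.card_congr ConjAct.ofConjAct.toEquiv
  rw [Subgroup.nat_card_centralizer_nat_card_stabilizer] at h1
  rw [h3, ← h1] at h2
  exact (Nat.eq_of_mul_eq_mul_left Nat.card_pos h2).symm

theorem odd_index [Finite G] (hG : Hyp G) {x : G} (hx : ∃ k : ℕ, orderOf x = 2 ^ k) :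
    ¬ 2 ∣ (Subgroup.centralizer ({x} : Set G)).index := by
  obtain ⟨Q, hQ⟩ := hG x hx
  intro h
  exact Q.not_dvd_index (h.trans (Subgroup.index_dvd_of_le hQ))

/-- Parity principle: under `Hyp`, the conjugacy class of a 2-element carries no
fixed-point-free involution. -/
theorem no_involution_on_class [Finite G] (hG : Hyp G) {x : G}
    (hx : ∃ k : ℕ, orderOf x = 2 ^ k) (f : G → G)
    (hK : ∀ k, IsConj k x → IsConj (f k) x) (hf : ∀ k, IsConj k x → f (f k) = k)
    (hne : ∀ k, IsConj k x → f k ≠ k) : False := by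
  apply odd_index hG hx
  rw [index_centralizer_eq_ncard]
  exact two_dvd_ncard_of_involution _ f
    (fun k hk => ConjAct.mem_orbit_conjAct.mpr (hK k (ConjAct.mem_orbit_conjAct.mp hk)))
    (fun k hk => hf k (ConjAct.mem_orbit_conjAct.mp hk))
    (fun k hk => hne k (ConjAct.mem_orbit_conjAct.mp hk))

/-- A 2-element conjugate to its inverse is an involution (or trivial). -/
theorem sq_eq_one_of_conj_inv [Finite G] (hG : Hyp G) {x : G}
    (hx : ∃ k : ℕ, orderOf x = 2 ^ k) {g : G} (hg : g⁻¹ * x * g = x⁻¹) : x * x = 1 := by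
  by_contra hne
  apply no_involution_on_class hG hx (fun k => k⁻¹)
  · intro k hk
    obtain ⟨c, hc⟩ := isConj_iff.mp hk
    -- c * k * c⁻¹ = x
    refine isConj_iff.mpr ⟨g * c, ?_⟩
    have : k = c⁻¹ * x * c := by rw [← hc]; group
    rw [this]
    have h2 : g * c * (c⁻¹ * x * c)⁻¹ * (g * c)⁻¹ = g * x⁻¹ * g⁻¹ := by group
    rw [h2, ← hg]; group
  · intro k _; exact inv_inv k
  · intro k hk h
    obtain ⟨c, hc⟩ := isConj_iff.mp hk
    apply hne
    have hk2 : k * k = 1 := by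
      have : k⁻¹ * k = 1 := inv_mul_cancel k
      rw [h] at this; exact this
    rw [← hc]
    have : c * k * c⁻¹ * (c * k * c⁻¹) = c * (k * k) * c⁻¹ := by group
    rw [this, hk2]; group

/-- A 2-element is not conjugate to its product with a non-trivial central involution. -/
theorem not_conj_mul_central [Finite G] (hG : Hyp G) {x w : G}
    (hx : ∃ k : ℕ, orderOf x = 2 ^ k) (hw : ∀ g : G, g * w = w * g) (hw2 : w * w = 1)
    (hw1 : w ≠ 1) {s : G} (hs : s⁻¹ * x * s = x * w) : False := by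
  apply no_involution_on_class hG hx (fun k => k * w)
  · intro k hk
    obtain ⟨c, hc⟩ := isConj_iff.mp hk
    refine isConj_iff.mpr ⟨s * c, ?_⟩
    have hk' : k = c⁻¹ * x * c := by rw [← hc]; group
    rw [hk']
    have h1 : s * c * (c⁻¹ * x * c * w) * (s * c)⁻¹ = s * (x * (c * w * c⁻¹)) * s⁻¹ := by group
    rw [h1]
    have h2 : c * w * c⁻¹ = w := by rw [hw c]; group
    rw [h2, ← hs]; group
  · intro k _
    show k * w * w = k
    rw [mul_assoc, hw2, mul_one]
  · intro k _ h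
    apply hw1
    have : k * w = k * 1 := by rw [mul_one]; exact h
    exact mul_left_cancel this

theorem two_elt_of_mem {P : Subgroup G} (hP : IsPGroup 2 P) {x : G} (hx : x ∈ P) :
    ∃ k : ℕ, orderOf x = 2 ^ k := by
  obtain ⟨k, hk⟩ := IsPGroup.iff_orderOf.mp hP ⟨x, hx⟩
  exact ⟨k, by rw [← hk]; exact (Subgroup.orderOf_mk x hx).symm⟩

/-- Two elements of a common 2-subgroup with equal squares commute. -/
theorem commute_of_sq_eq [Finite G] (hG : Hyp G) {T : Subgroup G} (hT : IsPGroup 2 T)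
    {x x' : G} (hx : x ∈ T) (hx' : x' ∈ T) (hsq : x * x = x' * x') : x * x' = x' * x := by
  have hr : ∃ k : ℕ, orderOf (x * x'⁻¹) = 2 ^ k :=
    two_elt_of_mem hT (T.mul_mem hx (T.inv_mem hx'))
  have h1 : x'⁻¹ * x = x' * x⁻¹ := by
    have : x'⁻¹ = x' * (x * x)⁻¹ := by rw [hsq]; group
    rw [this]; group
  have hconj : x⁻¹ * (x * x'⁻¹) * x = (x * x'⁻¹)⁻¹ := by
    have : x⁻¹ * (x * x'⁻¹) * x = x'⁻¹ * x := by group
    rw [this, h1]; group
  have h2 := sq_eq_one_of_conj_inv hG hr hconj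
  -- x x'⁻¹ x x'⁻¹ = 1
  have h3 : x * x'⁻¹ = x'⁻¹ * x := by
    have : x * x'⁻¹ = (x * x'⁻¹)⁻¹ := eq_inv_of_mul_eq_one_left h2
    rw [this, h1]; group
  have : x' * (x * x'⁻¹) * x' = x' * (x'⁻¹ * x) * x' := by rw [h3]
  have e1 : x' * (x * x'⁻¹) * x' = x' * x := by group
  have e2 : x' * (x'⁻¹ * x) * x' = x * x' := by group
  rw [e1, e2] at this
  exact this.symm

end basic

section sylow

variable {G : Type u} [Group G] [Finite G]

theorem mem_smul_sylow {c x : G} {Q : Sylow 2 G} :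
    x ∈ ((c • Q : Sylow 2 G) : Subgroup G) ↔ c⁻¹ * x * c ∈ (Q : Subgroup G) := by
  rw [Sylow.coe_subgroup_smul, Subgroup.mem_pointwise_smul_iff_inv_smul_mem]
  simp [MulAut.smul_def]

/-- A 2-subgroup `B` of `H` is conjugate under `H` into a given Sylow of `G` lying in `H`. -/
theorem conj_into_sylow (H : Subgroup G) (Q : Sylow 2 G) (hQ : (Q : Subgroup G) ≤ H)
    (B : Subgroup G) (hB : B ≤ H) (hB2 : IsPGroup 2 B) :
    ∃ c ∈ H, ∀ b ∈ B, c⁻¹ * b * c ∈ (Q : Subgroup G) := by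
  obtain ⟨R, hR⟩ := (hB2.comap_subtype (K := H)).exists_le_sylow
  obtain ⟨c, hc⟩ := MulAction.exists_smul_eq H (Q.subtype hQ) R
  refine ⟨c, c.2, fun b hb => ?_⟩
  have h1 : (⟨b, hB hb⟩ : H) ∈ (R : Subgroup H) := hR (Subgroup.mem_subgroupOf.mpr hb)
  rw [← hc, mem_smul_sylow] at h1
  rw [Sylow.coe_subtype, Subgroup.mem_subgroupOf] at h1
  simpa using h1

theorem isPGroup_zpowers {K : Type u} [Group K] {g : K} (hg : ∃ k : ℕ, orderOf g = 2 ^ k) :
    IsPGroup 2 (Subgroup.zpowers g) := by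
  obtain ⟨k, hk⟩ := hg
  exact IsPGroup.of_card (n := k) (by rw [Nat.card_zpowers, hk])

theorem conj_elt_into_sylow {K : Type u} [Group K] [Finite K] (T : Sylow 2 K) {g : K}
    (hg : ∃ k : ℕ, orderOf g = 2 ^ k) : ∃ y : K, y⁻¹ * g * y ∈ (T : Subgroup K) := by
  obtain ⟨R, hR⟩ := (isPGroup_zpowers hg).exists_le_sylow
  obtain ⟨y, hy⟩ := MulAction.exists_smul_eq K T R
  refine ⟨y, ?_⟩
  have : g ∈ ((y • T : Sylow 2 K) : Subgroup K) := by
    rw [hy]; exact hR (Subgroup.mem_zpowers g)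
  exact mem_smul_sylow.mp this

theorem orderOf_sq_lt {x : G} (hx : ∃ k : ℕ, orderOf x = 2 ^ k) (h1 : x ≠ 1) :
    orderOf (x * x) < orderOf x := by
  obtain ⟨k, hk⟩ := hx
  have hk0 : k ≠ 0 := by
    rintro rfl
    rw [pow_zero, orderOf_eq_one_iff] at hk
    exact h1 hk
  obtain ⟨j, rfl⟩ := Nat.exists_eq_succ_of_ne_zero hk0
  rw [← pow_two, orderOf_pow' x two_ne_zero, hk]
  have : Nat.gcd (2 ^ (j + 1)) 2 = 2 :=
    Nat.gcd_eq_right (dvd_pow_self 2 (Nat.succ_ne_zero j))
  rw [this]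
  exact Nat.div_lt_self (by positivity) (by norm_num)

/-- Key lemma: under `Hyp`, every involution of a Sylow 2-subgroup is central in it. -/
theorem inv_central (hG : Hyp G) (S : Sylow 2 G) {u : G} (hu : u ∈ (S : Subgroup G))
    (hu2 : u * u = 1) {s : G} (hs : s ∈ (S : Subgroup G)) : u * s = s * u := by
  by_contra hcon
  have hS2 : IsPGroup 2 (S : Subgroup G) := S.isPGroup'
  have hcomm : ∀ v w : G, v ∈ (S : Subgroup G) → w ∈ (S : Subgroup G) → v * v = 1 →
      w * w = 1 → v * w = w * v :=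
    fun v w hv hw hv2 hw2 => commute_of_sq_eq hG hS2 hv hw (by rw [hv2, hw2])
  -- a bad element of minimal order
  let A : Set G := {a | a ∈ (S : Subgroup G) ∧
    ∃ v ∈ (S : Subgroup G), v * v = 1 ∧ v * a ≠ a * v}
  have hAne : A.Nonempty := ⟨s, hs, u, hu, hu2, hcon⟩
  obtain ⟨a, haA, hmin⟩ := Set.exists_min_image A orderOf (Set.toFinite A) hAne
  obtain ⟨haS, u₀, hu₀S, hu₀2, hu₀a⟩ := haA
  have ha1 : a ≠ 1 := by
    rintro rfl; exact hu₀a (by simp)
  have haa : ∀ v ∈ (S : Subgroup G), v * v = 1 → v * (a * a) = (a * a) * v := by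
    intro v hv hv2
    by_contra h
    have hmem : a * a ∈ A := ⟨mul_mem haS haS, v, hv, hv2, h⟩
    have h1 := hmin (a * a) hmem
    have h2 := orderOf_sq_lt (two_elt_of_mem hS2 haS) ha1
    omega
  -- the subgroup B = C_E(a)
  let B : Subgroup G :=
    { carrier := {b | b ∈ (S : Subgroup G) ∧ b * b = 1 ∧ b * a = a * b}
      one_mem' := ⟨one_mem _, by simp, by simp⟩
      mul_mem' := by
        rintro b b' ⟨hb, hb2, hba⟩ ⟨hb', hb'2, hb'a⟩
        refine ⟨mul_mem hb hb', ?_, ?_⟩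
        · have := hcomm b b' hb hb' hb2 hb'2
          calc b * b' * (b * b') = b * (b' * b) * b' := by group
            _ = b * (b * b') * b' := by rw [this]
            _ = (b * b) * (b' * b') := by group
            _ = 1 := by rw [hb2, hb'2, one_mul]
        · calc b * b' * a = b * (b' * a) := by group
            _ = b * (a * b') := by rw [hb'a]
            _ = (b * a) * b' := by group
            _ = a * b * b' := by rw [hba]
            _ = a * (b * b') := by group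
      inv_mem' := by
        rintro b ⟨hb, hb2, hba⟩
        have : b⁻¹ = b := inv_eq_of_mul_eq_one_left hb2
        rw [this]; exact ⟨hb, hb2, hba⟩ }
  have hBmem : ∀ b : G, b ∈ B ↔ (b ∈ (S : Subgroup G) ∧ b * b = 1 ∧ b * a = a * b) :=
    fun b => Iff.rfl
  have hBS : B ≤ (S : Subgroup G) := fun b hb => ((hBmem b).mp hb).1
  have hB2 : IsPGroup 2 B := hS2.to_le hBS
  have hBC : B ≤ Subgroup.centralizer ({a} : Set G) := by
    intro b hb
    rw [Subgroup.mem_centralizer_iff]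
    intro h hh
    rw [Set.mem_singleton_iff] at hh; subst hh
    exact ((hBmem b).mp hb).2.2.symm
  obtain ⟨Q, hQ⟩ := hG a (two_elt_of_mem hS2 haS)
  obtain ⟨c, hc, hcB⟩ := conj_into_sylow (Subgroup.centralizer ({a} : Set G)) Q hQ B hBC hB2
  obtain ⟨P, hPdef⟩ : ∃ P : Sylow 2 G, P = c • Q := ⟨_, rfl⟩
  have hBP : ∀ b ∈ B, b ∈ (P : Subgroup G) := fun b hb => by
    rw [hPdef]; exact mem_smul_sylow.mpr (hcB b hb)
  have hca : a * c = c * a := by
    have := Subgroup.mem_centralizer_iff.mp hc a rfl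
    exact this
  have hPa : ∀ p ∈ (P : Subgroup G), p * a = a * p := by
    intro p hp
    rw [hPdef] at hp
    have h1 := Subgroup.mem_centralizer_iff.mp (hQ (mem_smul_sylow.mp hp)) a rfl
    have h3 : c * a * c⁻¹ = a := by rw [← hca]; group
    calc p * a = p * (c * a * c⁻¹) := by rw [h3]
      _ = c * ((c⁻¹ * p * c) * a) * c⁻¹ := by group
      _ = c * (a * (c⁻¹ * p * c)) * c⁻¹ := by rw [h1]
      _ = (c * a * c⁻¹) * p := by group
      _ = a * p := by rw [h3]
  have hP2 : IsPGroup 2 (P : Subgroup G) := P.isPGroup'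
  have hcommP : ∀ v w : G, v ∈ (P : Subgroup G) → w ∈ (P : Subgroup G) → v * v = 1 →
      w * w = 1 → v * w = w * v :=
    fun v w hv hw hv2 hw2 => commute_of_sq_eq hG hP2 hv hw (by rw [hv2, hw2])
  -- the subgroup H0
  let H0 : Subgroup G :=
    { carrier := {x | (∀ b ∈ B, x * b = b * x) ∧ x⁻¹ * a⁻¹ * x * a ∈ B}
      one_mem' := by
        refine ⟨fun b _ => by simp, ?_⟩
        have : (1 : G)⁻¹ * a⁻¹ * 1 * a = 1 := by group
        rw [this]; exact B.one_mem
      mul_mem' := by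
        rintro x y ⟨hxB, hxa⟩ ⟨hyB, hya⟩
        refine ⟨fun b hb => ?_, ?_⟩
        · calc x * y * b = x * (y * b) := by group
            _ = x * (b * y) := by rw [hyB b hb]
            _ = (x * b) * y := by group
            _ = b * x * y := by rw [hxB b hb]
            _ = b * (x * y) := by group
        · have e : (x * y)⁻¹ * a⁻¹ * (x * y) * a
              = y⁻¹ * ((x⁻¹ * a⁻¹ * x * a) * y) * (y⁻¹ * a⁻¹ * y * a) := by group
          rw [e, ← hyB _ hxa]
          have e2 : y⁻¹ * (y * (x⁻¹ * a⁻¹ * x * a)) * (y⁻¹ * a⁻¹ * y * a)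
              = (x⁻¹ * a⁻¹ * x * a) * (y⁻¹ * a⁻¹ * y * a) := by group
          rw [e2]; exact B.mul_mem hxa hya
      inv_mem' := by
        rintro x ⟨hxB, hxa⟩
        refine ⟨fun b hb => ?_, ?_⟩
        · calc x⁻¹ * b = x⁻¹ * (b * x) * x⁻¹ := by group
            _ = x⁻¹ * (x * b) * x⁻¹ := by rw [hxB b hb]
            _ = b * x⁻¹ := by group
        · have e : x⁻¹⁻¹ * a⁻¹ * x⁻¹ * a = x * (x⁻¹ * a⁻¹ * x * a)⁻¹ * x⁻¹ := by group
          rw [e, hxB _ (B.inv_mem hxa)]
          have e2 : (x⁻¹ * a⁻¹ * x * a)⁻¹ * x * x⁻¹ = (x⁻¹ * a⁻¹ * x * a)⁻¹ := by group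
          rw [e2]; exact B.inv_mem hxa }
  have hH0mem : ∀ x : G, x ∈ H0 ↔ ((∀ b ∈ B, x * b = b * x) ∧ x⁻¹ * a⁻¹ * x * a ∈ B) :=
    fun x => Iff.rfl
  have hIH0 : ∀ v ∈ (S : Subgroup G), v * v = 1 → v ∈ H0 := by
    intro v hv hv2
    rw [hH0mem]
    refine ⟨fun b hb => hcomm v b hv (hBS hb) hv2 ((hBmem b).mp hb).2.1, ?_⟩
    have hv' : a⁻¹ * v * a ∈ (S : Subgroup G) := mul_mem (mul_mem (inv_mem haS) hv) haS
    have hv'2 : (a⁻¹ * v * a) * (a⁻¹ * v * a) = 1 := by
      have : (a⁻¹ * v * a) * (a⁻¹ * v * a) = a⁻¹ * (v * v) * a := by group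
      rw [this, hv2]; group
    have hc1 := hcomm v (a⁻¹ * v * a) hv hv' hv2 hv'2
    have hvinv : v⁻¹ = v := inv_eq_of_mul_eq_one_left hv2
    have e : v⁻¹ * a⁻¹ * v * a = v * (a⁻¹ * v * a) := by rw [hvinv]; group
    rw [e, hBmem]
    refine ⟨mul_mem hv hv', ?_, ?_⟩
    · calc v * (a⁻¹ * v * a) * (v * (a⁻¹ * v * a))
          = v * ((a⁻¹ * v * a) * v) * (a⁻¹ * v * a) := by group
        _ = v * (v * (a⁻¹ * v * a)) * (a⁻¹ * v * a) := by rw [← hc1]
        _ = (v * v) * ((a⁻¹ * v * a) * (a⁻¹ * v * a)) := by group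
        _ = 1 := by rw [hv2, hv'2, one_mul]
    · have h4 := haa v hv hv2
      calc v * (a⁻¹ * v * a) * a = v * a⁻¹ * (v * (a * a)) := by group
        _ = v * a⁻¹ * ((a * a) * v) := by rw [h4]
        _ = a * ((a⁻¹ * v * a) * v) := by group
        _ = a * (v * (a⁻¹ * v * a)) := by rw [← hc1]
  have hPH0 : ∀ v ∈ (P : Subgroup G), v * v = 1 → v ∈ H0 := by
    intro v hv hv2
    rw [hH0mem]
    refine ⟨fun b hb => hcommP v b hv (hBP b hb) hv2 ((hBmem b).mp hb).2.1, ?_⟩
    have : v⁻¹ * a⁻¹ * v * a = 1 := by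
      have h := hPa v hv
      calc v⁻¹ * a⁻¹ * v * a = v⁻¹ * a⁻¹ * (v * a) := by group
        _ = v⁻¹ * a⁻¹ * (a * v) := by rw [h]
        _ = 1 := by group
    rw [this]; exact B.one_mem
  have hu₀H : u₀ ∈ H0 := hIH0 u₀ hu₀S hu₀2
  -- Sylow theory inside H0
  have hF2 : IsPGroup 2 ((P : Subgroup G) ⊓ H0 : Subgroup G) := hP2.to_le inf_le_left
  obtain ⟨T1, hT1⟩ := (hF2.comap_subtype (K := H0)).exists_le_sylow
  have hu₀ord : ∃ k : ℕ, orderOf (⟨u₀, hu₀H⟩ : H0) = 2 ^ k := by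
    obtain ⟨k, hk⟩ := two_elt_of_mem hS2 hu₀S
    exact ⟨k, by rw [← hk]; exact Subgroup.orderOf_mk u₀ hu₀H⟩
  obtain ⟨y, hy⟩ := conj_elt_into_sylow T1 hu₀ord
  have hT2 : IsPGroup 2 ((T1 : Subgroup H0).map H0.subtype) := T1.isPGroup'.map _
  obtain ⟨R, hR⟩ := hT2.exists_le_sylow
  obtain ⟨x, hxdef⟩ : ∃ x : G, x = (y : G)⁻¹ * u₀ * (y : G) := ⟨_, rfl⟩
  have hxR : x ∈ (R : Subgroup G) := by
    apply hR
    refine ⟨_, hy, ?_⟩
    rw [hxdef]; simp
  have hPR : ∀ v ∈ (P : Subgroup G), v * v = 1 → v ∈ (R : Subgroup G) := by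
    intro v hv hv2
    have hvH := hPH0 v hv hv2
    apply hR
    refine ⟨⟨v, hvH⟩, hT1 ?_, rfl⟩
    rw [Subgroup.mem_comap]
    exact ⟨hv, hvH⟩
  obtain ⟨k, hk⟩ := MulAction.exists_smul_eq G P R
  have hsub : {v : G | v ∈ (P : Subgroup G) ∧ v * v = 1} ⊆
      {v : G | v ∈ (R : Subgroup G) ∧ v * v = 1} := fun v hv => ⟨hPR v hv.1 hv.2, hv.2⟩
  have hle : ({v : G | v ∈ (R : Subgroup G) ∧ v * v = 1}).ncard ≤
      ({v : G | v ∈ (P : Subgroup G) ∧ v * v = 1}).ncard := by
    apply Set.ncard_le_ncard_of_injOn (fun v => k⁻¹ * v * k)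
    · intro v hv
      refine ⟨?_, ?_⟩
      · have : v ∈ ((k • P : Sylow 2 G) : Subgroup G) := by rw [hk]; exact hv.1
        exact mem_smul_sylow.mp this
      · have : k⁻¹ * v * k * (k⁻¹ * v * k) = k⁻¹ * (v * v) * k := by group
        rw [this, hv.2]; group
    · intro v _ w _ h
      simpa using h
  have hIeq := Set.eq_of_subset_of_ncard_le hsub hle (Set.toFinite _)
  have hx2 : x * x = 1 := by
    have : x * x = (y : G)⁻¹ * (u₀ * u₀) * (y : G) := by rw [hxdef]; group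
    rw [this, hu₀2]; group
  have hxP : x ∈ (P : Subgroup G) := by
    have : x ∈ {v : G | v ∈ (R : Subgroup G) ∧ v * v = 1} := ⟨hxR, hx2⟩
    rw [← hIeq] at this
    exact this.1
  have hxa : x * a = a * x := hPa x hxP
  have hxB : ∀ b ∈ B, x * b = b * x :=
    fun b hb => hcommP x b hxP (hBP b hb) hx2 ((hBmem b).mp hb).2.1
  obtain ⟨_, hya⟩ := (hH0mem (y : G)).mp y.2
  have hby := hxB _ hya
  have hu₀ : u₀ = (y : G) * x * (y : G)⁻¹ := by rw [hxdef]; group
  apply hu₀a
  calc u₀ * a = (y : G) * x * (y : G)⁻¹ * a := by rw [← hu₀]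
    _ = (y : G) * (x * a) * ((y : G)⁻¹ * a⁻¹ * (y : G) * a)⁻¹ * (y : G)⁻¹ := by group
    _ = (y : G) * (a * x) * ((y : G)⁻¹ * a⁻¹ * (y : G) * a)⁻¹ * (y : G)⁻¹ := by rw [hxa]
    _ = a * (y : G) * (((y : G)⁻¹ * a⁻¹ * (y : G) * a) * x)
          * ((y : G)⁻¹ * a⁻¹ * (y : G) * a)⁻¹ * (y : G)⁻¹ := by group
    _ = a * (y : G) * (x * ((y : G)⁻¹ * a⁻¹ * (y : G) * a))
          * ((y : G)⁻¹ * a⁻¹ * (y : G) * a)⁻¹ * (y : G)⁻¹ := by rw [← hby]
    _ = a * ((y : G) * x * (y : G)⁻¹) := by group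
    _ = a * u₀ := by rw [← hu₀]

end sylow

section main

/-- **Camina–Herzog**: if every 2-element centralizes a Sylow 2-subgroup, then the Sylow
2-subgroups are abelian. -/
theorem main : ∀ (n : ℕ) (G : Type u) [Group G] [Finite G], Nat.card G = n → Hyp G →
    ∀ (P : Sylow 2 G) (a b : G), a ∈ (P : Subgroup G) → b ∈ (P : Subgroup G) →
      a * b = b * a := by
  intro n
  induction n using Nat.strong_induction_on with
  | _ n IH =>
  intro G _ _ hn hG
  by_cases hex : ∃ z : G, (∃ k : ℕ, orderOf z = 2 ^ k) ∧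
      (∀ R : Sylow 2 G, z ∈ (R : Subgroup G) → ∀ s ∈ (R : Subgroup G), z * s = s * z) ∧
      ¬ (∀ g : G, g * z = z * g)
  · obtain ⟨z, hz2, hW, hnc⟩ := hex
    obtain ⟨H, hHdef⟩ : ∃ H : Subgroup G, H = Subgroup.centralizer ({z} : Set G) := ⟨_, rfl⟩
    have hHmem : ∀ g : G, g ∈ H ↔ z * g = g * z := by
      intro g
      rw [hHdef, Subgroup.mem_centralizer_iff]
      constructor
      · intro h; exact h z rfl
      · intro h t ht
        rw [Set.mem_singleton_iff] at ht; subst ht; exact h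
    have hHne : H ≠ ⊤ := by
      intro h
      apply hnc
      intro g
      have : g ∈ H := by rw [h]; trivial
      exact ((hHmem g).mp this).symm
    have hcard : Nat.card H < n := by
      rw [← hn]
      refine lt_of_le_of_ne (Subgroup.card_le_card_group H) ?_
      intro h
      exact hHne (Subgroup.card_eq_iff_eq_top H |>.mp h)
    have hz2' : IsPGroup 2 (Subgroup.zpowers z) := isPGroup_zpowers hz2
    have hRH : ∀ R : Sylow 2 G, z ∈ (R : Subgroup G) → (R : Subgroup G) ≤ H := by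
      intro R hzR r hr
      rw [hHmem]
      exact hW R hzR r hr
    have hHyp : Hyp H := by
      intro y hy
      obtain ⟨k, hk⟩ := hy
      have hy' : ∃ k : ℕ, orderOf (y : G) = 2 ^ k := ⟨k, by rw [Subgroup.orderOf_coe]; exact hk⟩
      obtain ⟨Q, hQ⟩ := hG (y : G) hy'
      have hzy : Subgroup.zpowers z ≤ Subgroup.centralizer ({(y : G)} : Set G) := by
        rw [Subgroup.zpowers_le, Subgroup.mem_centralizer_iff]
        intro t ht
        rw [Set.mem_singleton_iff] at ht; subst ht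
        exact ((hHmem (y : G)).mp y.2).symm
      obtain ⟨c, hc, hcz⟩ := conj_into_sylow _ Q hQ _ hzy hz2'
      obtain ⟨R, hRdef⟩ : ∃ R : Sylow 2 G, R = c • Q := ⟨_, rfl⟩
      have hzR : z ∈ (R : Subgroup G) := by
        rw [hRdef]; exact mem_smul_sylow.mpr (hcz z (Subgroup.mem_zpowers z))
      have hRy : (R : Subgroup G) ≤ Subgroup.centralizer ({(y : G)} : Set G) := by
        intro r hr
        rw [hRdef] at hr
        have h1 := hQ (mem_smul_sylow.mp hr)
        have : r = c * (c⁻¹ * r * c) * c⁻¹ := by group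
        rw [this]
        exact mul_mem (mul_mem hc h1) (inv_mem hc)
      refine ⟨R.subtype (hRH R hzR), ?_⟩
      intro r hr
      rw [Sylow.coe_subtype, Subgroup.mem_subgroupOf] at hr
      have h2 := hRy hr
      rw [Subgroup.mem_centralizer_iff] at h2 ⊢
      intro t ht
      rw [Set.mem_singleton_iff] at ht; subst ht
      exact Subtype.ext (h2 (t : G) rfl)
    have IHH := IH (Nat.card H) hcard H rfl hHyp
    obtain ⟨R₀, hR₀⟩ := hz2'.exists_le_sylow
    have hzR₀ : z ∈ (R₀ : Subgroup G) := hR₀ (Subgroup.mem_zpowers z)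
    have hR₀H := hRH R₀ hzR₀
    have hR₀comm : ∀ a b : G, a ∈ (R₀ : Subgroup G) → b ∈ (R₀ : Subgroup G) →
        a * b = b * a := by
      intro a b ha hb
      have := IHH (R₀.subtype hR₀H) ⟨a, hR₀H ha⟩ ⟨b, hR₀H hb⟩
        (by rw [Sylow.coe_subtype, Subgroup.mem_subgroupOf]; exact ha)
        (by rw [Sylow.coe_subtype, Subgroup.mem_subgroupOf]; exact hb)
      exact congrArg Subtype.val this
    intro P a b ha hb
    obtain ⟨g, hg⟩ := MulAction.exists_smul_eq G R₀ P
    have ha' : g⁻¹ * a * g ∈ (R₀ : Subgroup G) := mem_smul_sylow.mp (by rw [hg]; exact ha)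
    have hb' : g⁻¹ * b * g ∈ (R₀ : Subgroup G) := mem_smul_sylow.mp (by rw [hg]; exact hb)
    have h := hR₀comm _ _ ha' hb'
    have e1 : g⁻¹ * a * g * (g⁻¹ * b * g) = g⁻¹ * (a * b) * g := by group
    have e2 : g⁻¹ * b * g * (g⁻¹ * a * g) = g⁻¹ * (b * a) * g := by group
    rw [e1, e2] at h
    simpa using h
  · push Not at hex
    have hWall : ∀ N : ℕ, ∀ x : G, orderOf x = N → (∃ k : ℕ, N = 2 ^ k) →
        ∀ R : Sylow 2 G, x ∈ (R : Subgroup G) → ∀ s ∈ (R : Subgroup G), x * s = s * x := by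
      intro N
      induction N using Nat.strong_induction_on with
      | _ N IH2 =>
      intro x hxN hx2 R hxR s hsR
      by_cases hsq : x * x = 1
      · exact inv_central hG R hxR hsq hsR
      · have hx2' : ∃ k : ℕ, orderOf x = 2 ^ k := by
          obtain ⟨k, hk⟩ := hx2; exact ⟨k, by rw [hxN, hk]⟩
        have hx1 : x ≠ 1 := by
          rintro rfl; exact hsq (by simp)
        have hy_ord : orderOf (x * x) < N := by
          rw [← hxN]; exact orderOf_sq_lt hx2' hx1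
        have hy2 : ∃ k : ℕ, orderOf (x * x) = 2 ^ k :=
          two_elt_of_mem R.isPGroup' (mul_mem hxR hxR)
        have hyW := IH2 (orderOf (x * x)) hy_ord (x * x) rfl hy2
        have hyc := hex (x * x) hy2 hyW
        have hx'R : s⁻¹ * x * s ∈ (R : Subgroup G) := mul_mem (mul_mem (inv_mem hsR) hxR) hsR
        have hsq' : x * x = (s⁻¹ * x * s) * (s⁻¹ * x * s) := by
          have e : (s⁻¹ * x * s) * (s⁻¹ * x * s) = s⁻¹ * ((x * x) * s) := by group
          rw [e, ← hyc s]; group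
        have hcx := commute_of_sq_eq hG R.isPGroup' hxR hx'R hsq'
        by_cases hw1 : x⁻¹ * (s⁻¹ * x * s) = 1
        · have h3 : s⁻¹ * x * s = x := (inv_mul_eq_one.mp hw1).symm
          calc x * s = s * (s⁻¹ * x * s) := by group
            _ = s * x := by rw [h3]
        · exfalso
          have hwR : x⁻¹ * (s⁻¹ * x * s) ∈ (R : Subgroup G) := mul_mem (inv_mem hxR) hx'R
          have h5 : (s⁻¹ * x * s) * x⁻¹ = x⁻¹ * (s⁻¹ * x * s) := by
            calc (s⁻¹ * x * s) * x⁻¹ = x⁻¹ * (x * (s⁻¹ * x * s)) * x⁻¹ := by group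
              _ = x⁻¹ * ((s⁻¹ * x * s) * x) * x⁻¹ := by rw [hcx]
              _ = x⁻¹ * (s⁻¹ * x * s) := by group
          have hw2 : (x⁻¹ * (s⁻¹ * x * s)) * (x⁻¹ * (s⁻¹ * x * s)) = 1 := by
            calc (x⁻¹ * (s⁻¹ * x * s)) * (x⁻¹ * (s⁻¹ * x * s))
                = x⁻¹ * ((s⁻¹ * x * s) * x⁻¹) * (s⁻¹ * x * s) := by group
              _ = x⁻¹ * (x⁻¹ * (s⁻¹ * x * s)) * (s⁻¹ * x * s) := by rw [h5]
              _ = (x * x)⁻¹ * ((s⁻¹ * x * s) * (s⁻¹ * x * s)) := by group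
              _ = 1 := by rw [← hsq']; group
          have hwW : ∀ R' : Sylow 2 G, x⁻¹ * (s⁻¹ * x * s) ∈ (R' : Subgroup G) →
              ∀ t ∈ (R' : Subgroup G), x⁻¹ * (s⁻¹ * x * s) * t = t * (x⁻¹ * (s⁻¹ * x * s)) :=
            fun R' hwR' t ht => inv_central hG R' hwR' hw2 ht
          have hwc := hex _ (two_elt_of_mem R.isPGroup' hwR) hwW
          exact not_conj_mul_central hG hx2' hwc hw2 hw1 (s := s) (by group)
    intro P a b ha hb
    exact hWall (orderOf a) a rfl (two_elt_of_mem P.isPGroup' ha) P ha b hb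

variable {G : Type u} [Group G] [Finite G]

theorem sylow_comm (hG : Hyp G) (P : Sylow 2 G) (a b : G) (ha : a ∈ (P : Subgroup G))
    (hb : b ∈ (P : Subgroup G)) : a * b = b * a :=
  main (Nat.card G) G rfl hG P a b ha hb

/-- Odd index of a centralizer gives a Sylow 2-subgroup inside it. -/
theorem hyp_of_odd_index
    (h : ∀ x : G, (∃ k : ℕ, orderOf x = 2 ^ k) →
      ¬ 2 ∣ (Subgroup.centralizer ({x} : Set G)).index) : Hyp G := by
  intro x hx
  obtain ⟨C, hC⟩ : ∃ C : Subgroup G, C = Subgroup.centralizer ({x} : Set G) := ⟨_, rfl⟩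
  have hidx : ¬ 2 ∣ C.index := by rw [hC]; exact h x hx
  obtain ⟨Q₀⟩ : Nonempty (Sylow 2 C) := inferInstance
  have hcard : Nat.card ((Q₀ : Subgroup C).map C.subtype) = 2 ^ (Nat.card G).factorization 2 := by
    rw [Subgroup.card_map_of_injective C.subtype_injective, Q₀.card_eq_multiplicity]
    congr 1
    rw [← Subgroup.card_mul_index C, Nat.factorization_mul Nat.card_pos.ne'
      (fun h0 => hidx (by rw [h0]; exact dvd_zero 2)), Finsupp.add_apply,
      Nat.factorization_eq_zero_of_not_dvd hidx, add_zero]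
  refine ⟨Sylow.ofCard _ hcard, ?_⟩
  rw [Sylow.coe_ofCard, ← hC]
  exact (Subgroup.map_subtype_le _)

/-- The converse direction: abelian Sylow 2-subgroups make every 2-element 2-central. -/
theorem hyp_of_comm (P : Sylow 2 G)
    (hP : ∀ a b : G, a ∈ (P : Subgroup G) → b ∈ (P : Subgroup G) → a * b = b * a) : Hyp G := by
  intro x hx
  obtain ⟨Q, hQ⟩ := (isPGroup_zpowers hx).exists_le_sylow
  refine ⟨Q, ?_⟩
  intro q hq
  rw [Subgroup.mem_centralizer_iff]
  intro t ht
  rw [Set.mem_singleton_iff] at ht; subst ht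
  obtain ⟨g, hg⟩ := MulAction.exists_smul_eq G P Q
  have hq' : g⁻¹ * q * g ∈ (P : Subgroup G) := mem_smul_sylow.mp (by rw [hg]; exact hq)
  have ht' : g⁻¹ * t * g ∈ (P : Subgroup G) :=
    mem_smul_sylow.mp (by rw [hg]; exact hQ (Subgroup.mem_zpowers t))
  have h := hP _ _ ht' hq'
  have e1 : g⁻¹ * t * g * (g⁻¹ * q * g) = g⁻¹ * (t * q) * g := by group
  have e2 : g⁻¹ * q * g * (g⁻¹ * t * g) = g⁻¹ * (q * t) * g := by group
  rw [e1, e2] at h
  simpa using h

end main

end Cfsg.Agent.H75.CH
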