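import Mathlib
import Cfsg.Agent.H99.I2Defs
import Cfsg.Agent.H86.Ev2R2Common
/-!
EM-TWOPOS (helper99's S5990 / I2 sub-project): characteristic `2`: if `d = k + 1` is even or
`m ≡ 2 (mod 4)`, every element of `Ω⁻` with `x ^ 2 = 1` fixes a minus-type `m`-space.
-/
set_option autoImplicit false

namespace Cfsg.Agent.H75.Em

open Matrix Module Cfsg.Agent.H45 Cfsg.Agent.H48.Ep Cfsg.Agent.H77.Tq Cfsg.Agent.H77.Tm
  Cfsg.Agent.H99.Em Cfsg.Agent.H99.I2

universe u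

/-- EM-TWOPOS. -/
theorem twoPos (hPos : Cfsg.Agent.H99.Em.StI2Pos.{u, u})
    (hPerp : Cfsg.Agent.H99.I2.StI2Perp.{u, u}) (hSum : Cfsg.Agent.H48.Ep.StQSum.{u, u})
    (hRank : Cfsg.Agent.H99.Em.StRankPar.{u}) (hBr : Cfsg.Agent.H99.Em.StBridge.{u}) :
    Cfsg.Agent.H99.Em.StTwoPos.{u} := by
  intro F _ _ k m a b h2 hab hk hme hm2 hmk hcase x hxΩ hx2
  obtain ⟨hQNd, hNP, hfin, hEW, hiso⟩ := hBr F k m a b hab
  have hx : x ∈ Cfsg.isometryGroup F (Cfsg.quadFormMinus k F a b) :=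
    Cfsg.Agent.H86.Ev2.omega_isom _ hxΩ
  have hTiso : ∀ v, Cfsg.Agent.H49.QMin k F a b
      (Matrix.toLin' (x : Matrix (MI k) (MI k) F) v) = Cfsg.Agent.H49.QMin k F a b v :=
    (hiso x).mp hx
  have hxx : (x : Matrix (MI k) (MI k) F) * (x : Matrix (MI k) (MI k) F) = 1 := by
    have := congrArg (fun g : Matrix.GeneralLinearGroup (MI k) F =>
      (g : Matrix (MI k) (MI k) F)) hx2
    simpa [pow_two] using this
  have hTT : Matrix.toLin' (x : Matrix (MI k) (MI k) F) *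
      Matrix.toLin' (x : Matrix (MI k) (MI k) F) = 1 := by
    rw [Module.End.mul_eq_comp, ← Matrix.toLin'_mul, hxx, Matrix.toLin'_one]; rfl
  have hrank := hRank F k a b h2 hab hk x hxΩ
  have hev' : Even (2 * k + 2 - m) := by
    obtain ⟨j, hj⟩ := hme
    exact ⟨k + 1 - j, by omega⟩
  obtain ⟨W', hW'inv, hW'nd, hW'm, hW'pl⟩ := hPos F (MI k → F) (Cfsg.Agent.H49.QMin k F a b)
    (Matrix.toLin' (x : Matrix (MI k) (MI k) F)) False (2 * k + 2 - m) h2 hQNd hTiso hTT hrank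
    (iff_false_intro hNP) hev' (by omega) (by rw [hfin]; omega)
    (by
      by_cases hk1 : Even (k + 1)
      · right; right
        refine ⟨not_false, ?_⟩
        rw [hfin]
        obtain ⟨j, hj⟩ := hk1
        omega
      · left
        have hm4 : m % 4 = 2 := by
          rcases hcase with h | h
          · exact absurd h hk1
          · exact h
        obtain ⟨j, hj⟩ := Nat.not_even_iff_odd.mp hk1
        omega)
  have hctx : I2Ctx (Cfsg.Agent.H49.QMin k F a b)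
      (Matrix.toLin' (x : Matrix (MI k) (MI k) F)) := ⟨h2, hQNd, hTiso, hTT⟩
  have hTopInv : Inv (Cfsg.Agent.H49.QMin k F a b)
      (Matrix.toLin' (x : Matrix (MI k) (MI k) F)) ⊤ :=
    ⟨(Module.End.mem_invtSubmodule _).mpr (fun v _ => Submodule.mem_top), hQNd⟩
  obtain ⟨⟨hWinv, hWnd⟩, hWdim, hsup, horth, -⟩ := hPerp F (MI k → F)
    (Cfsg.Agent.H49.QMin k F a b) (Matrix.toLin' (x : Matrix (MI k) (MI k) F)) hctx ⊤ W'
    hTopInv ⟨hW'inv, hW'nd⟩ le_top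
  have hWm : finrank F ↥((⊤ : Submodule F (MI k → F)) ⊓
      perp (QuadraticMap.polarBilin (Cfsg.Agent.H49.QMin k F a b)) W') = m := by
    rw [finrank_top, hfin, hW'm] at hWdim
    omega
  obtain ⟨-, -, hplus⟩ := hSum F (MI k → F) (Cfsg.Agent.H49.QMin k F a b) W'
    (⊤ ⊓ perp (QuadraticMap.polarBilin (Cfsg.Agent.H49.QMin k F a b)) W') hW'nd hWnd horth
    (by rw [hW'm]; exact hev') (by rw [hWm]; exact hme)
  rw [hsup] at hplus
  refine ⟨⊤ ⊓ perp (QuadraticMap.polarBilin (Cfsg.Agent.H49.QMin k F a b)) W',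
    (hEW _).mpr ⟨hWm, hWnd, ?_⟩, (Cfsg.Agent.H86.Ev2.map_le_iff_invt _ _).mpr hWinv⟩
  intro hpl
  exact hNP (hplus.mpr ⟨fun _ => hpl, fun _ => hW'pl⟩)

example (hPos : Cfsg.Agent.H99.Em.StI2Pos.{u, u})
    (hPerp : Cfsg.Agent.H99.I2.StI2Perp.{u, u}) (hSum : Cfsg.Agent.H48.Ep.StQSum.{u, u})
    (hRank : Cfsg.Agent.H99.Em.StRankPar.{u}) (hBr : Cfsg.Agent.H99.Em.StBridge.{u}) :
    Cfsg.Agent.H99.Em.StTwoPos.{u} := twoPos hPos hPerp hSum hRank hBr

end Cfsg.Agent.H75.Em
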