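import Mathlib
import Cfsg.Agent.H99.I2Defs
import Cfsg.Agent.H86.Ev2R2Common
import Cfsg.Agent.H72.EeWit2
import Cfsg.Agent.H98.EpBridge
/-!
EP-TWOEVEN (helper99's I2 sub-project, for helper48's S5974): the `r = 2` line of the criterion
for plus-type `m`-spaces of the plus space in characteristic `2`.
-/
set_option autoImplicit false

namespace Cfsg.Agent.H75.Ep

open Matrix Module Cfsg.Agent.H45 Cfsg.Agent.H48.Ep Cfsg.Agent.H99.I2

universe u

/-- EP-TWOEVEN. -/
theorem twoEvenP (hPos : Cfsg.Agent.H99.Em.StI2Pos.{u, u})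
    (hRank : Cfsg.Agent.H99.I2.StRankParP.{u}) : Cfsg.Agent.H48.Ep.StTwoEven.{u} := by
  intro F _ _ d m h2 hd hm2 hme hmd
  obtain ⟨hQNd, hQPl, hfin, hPW, hiso⟩ := Cfsg.Agent.H98.Ep.bridge F d m
  have hd0 : 0 < d := by omega
  have hcardE : Fintype.card F % 2 = 0 := by
    have hr : ringChar F = 2 :=
      CharP.ringChar_of_prime_eq_zero Nat.prime_two (by exact_mod_cast h2)
    exact FiniteField.even_card_iff_char_two.mp hr
  constructor
  · intro hall
    by_contra hcon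
    rw [not_or, not_or] at hcon
    obtain ⟨h1, h2', h3⟩ := hcon
    have hde : Even d := by rw [Nat.even_iff]; omega
    have hm4 : m % 4 = 2 := by
      obtain ⟨j, hj⟩ := hme
      omega
    have : CharP F 2 := CharTwo.of_one_ne_zero_of_two_eq_zero one_ne_zero h2
    obtain ⟨x, hxΩ, hx2, hxs, hxF⟩ :=
      Cfsg.Agent.H72.Ee.two_wit_plus (F := F) d m (by omega) hde hm4
    apply hxF
    apply hall x hxΩ ⟨1, ?_⟩ hxs
    rw [hx2, one_smul]; rfl
  · intro hR x hxΩ hz hns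
    have hx := Cfsg.Agent.H86.Ev2.omega_isom _ hxΩ
    obtain ⟨v₀, hv₀⟩ : ∃ v, Cfsg.Agent.H49.QP d F v ≠ 0 := by
      refine ⟨Pi.single (Sum.inl ⟨0, hd0⟩) 1 + Pi.single (Sum.inr ⟨0, hd0⟩) 1, ?_⟩
      rw [Cfsg.Agent.H49.QP_apply, Finset.sum_eq_single ⟨0, hd0⟩]
      · simp
      · intro j _ hj
        simp [hj]
      · intro h
        exact absurd (Finset.mem_univ _) h
    have hTT : Matrix.toLin' (x : Matrix (Fin d ⊕ Fin d) (Fin d ⊕ Fin d) F) *
        Matrix.toLin' (x : Matrix (Fin d ⊕ Fin d) (Fin d ⊕ Fin d) F) = 1 := by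
      rcases Cfsg.Agent.H86.Ev2.sq_cases (Cfsg.Agent.H49.QP d F) v₀ hv₀ x hx hz with
        ⟨-, h⟩ | ⟨-, h⟩
      · exact h
      · rw [h]
        apply LinearMap.ext
        intro v
        have h0 : v + v = 0 := by rw [← two_smul F v, h2, zero_smul]
        simp only [LinearMap.neg_apply, Module.End.one_apply]
        exact neg_eq_of_add_eq_zero_left h0
    have hTiso : ∀ v, Cfsg.Agent.H49.QP d F
        (Matrix.toLin' (x : Matrix (Fin d ⊕ Fin d) (Fin d ⊕ Fin d) F) v) =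
          Cfsg.Agent.H49.QP d F v := (hiso x).mp hx
    have hrank := hRank F d h2 (by omega) x hxΩ
    obtain ⟨W, hWinv, hWnd, hWm, hWpl⟩ := hPos F (Fin d ⊕ Fin d → F) (Cfsg.Agent.H49.QP d F)
      (Matrix.toLin' (x : Matrix (Fin d ⊕ Fin d) (Fin d ⊕ Fin d) F)) True m h2 hQNd hTiso hTT
      hrank (iff_true_intro hQPl) hme hm2 (by rw [hfin]; omega)
      (by
        rcases hR with h | h | h
        · right; left
          exact ⟨trivial, by rw [hfin]; exact h⟩
        · left; exact h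
        · exfalso; omega)
    exact ⟨W, (hPW W).mpr ⟨hWm, hWnd, hWpl⟩,
      (Cfsg.Agent.H86.Ev2.map_le_iff_invt _ _).mpr hWinv⟩

example (hPos : Cfsg.Agent.H99.Em.StI2Pos.{u, u})
    (hRank : Cfsg.Agent.H99.I2.StRankParP.{u}) : Cfsg.Agent.H48.Ep.StTwoEven.{u} :=
  twoEvenP hPos hRank

end Cfsg.Agent.H75.Ep
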