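import Cfsg.Agent.H75.Fx2Transfer

/-!
# FX-FROB (helper59, S3390): the two-point stabilizer is a Frobenius complement in `N`
-/

set_option autoImplicit false

open scoped Pointwise

namespace Cfsg.Agent.H75.Fx2

open Cfsg.Agent.H59.Fx2

universe u v

/-- in a subgroup of index 2, an odd power lies in the subgroup only if the element does. -/
theorem mem_of_odd_pow_mem {G : Type u} [Group G] {N : Subgroup G} (hN2 : N.index = 2)
    {u : G} {m : ℕ} (hm : Odd m) (h : u ^ m ∈ N) : u ∈ N := by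
  obtain ⟨j, rfl⟩ := hm
  rw [pow_succ, pow_mul] at h
  exact (N.mul_mem_cancel_left (pow_mem (Subgroup.sq_mem_of_index_two hN2 u) j)).mp h

theorem pow_smul_fixed {G : Type u} [Group G] {Ω : Type v} [MulAction G Ω] {u : G} {ω : Ω}
    (h : u • ω = ω) (m : ℕ) : (u ^ m) • ω = ω := by
  induction m with
  | zero => simp
  | succ n ih => rw [pow_succ, mul_smul, h, ih]

theorem frob : StFrob.{u, v} := by
  intro G _ _ Ω _ _ _ hT P α β hC hI hF N hN hN2 hNP
  classical
  have hprime : Fact (Nat.Prime 2) := ⟨Nat.prime_two⟩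
  have hTN : ∀ t ∈ (P : Subgroup G), t • α = α → t ∈ N := by
    intro t ht hα
    have : t ∈ N ⊓ (P : Subgroup G) := by rw [hNP]; exact ⟨ht, hα⟩
    exact this.1
  have hPN : ∀ t ∈ (P : Subgroup G), t ∈ N → t • α = α := by
    intro t ht hn
    have : t ∈ (P : Subgroup G) ⊓ MulAction.stabilizer G α := by rw [← hNP]; exact ⟨hn, ht⟩
    exact this.2
  -- key claim: 2-elements with a fixed point lie in `N`
  have key : ∀ (v : G) (a : ℕ), v ^ 2 ^ a = 1 → ∀ ω : Ω, v • ω = ω → v ∈ N := by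
    intro v a hv ω hω
    have hpg : IsPGroup 2 (Subgroup.zpowers v) := by
      rintro ⟨w, hw⟩
      obtain ⟨j, rfl⟩ := Subgroup.mem_zpowers_iff.mp hw
      refine ⟨a, Subtype.ext ?_⟩
      simp only [Subgroup.coe_pow, Subgroup.coe_one]
      rw [← zpow_natCast, ← zpow_mul, mul_comm, zpow_mul, zpow_natCast, hv, one_zpow]
    obtain ⟨Q, hQ⟩ := hpg.exists_le_sylow
    obtain ⟨x, hx⟩ := MulAction.exists_smul_eq G Q P
    have hvQ : v ∈ (Q : Subgroup G) := hQ (Subgroup.mem_zpowers v)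
    have hxv : x * v * x⁻¹ ∈ (P : Subgroup G) := by
      rw [← hx, Sylow.coe_subgroup_smul]
      exact ⟨v, hvQ, rfl⟩
    have hfix : (x * v * x⁻¹) • (x • ω) = x • ω := by
      rw [mul_smul, mul_smul, inv_smul_smul, hω]
    have hα := fixα_of_fix hC hF hxv hfix
    have hmem := hTN _ hxv hα
    have := hN.conj_mem _ hmem x⁻¹
    simpa [mul_assoc] using this
  obtain ⟨t₀, ht₀, ht₀α⟩ := hC.swap
  have ht₀N : t₀ ∉ N := fun h => hC.ne ((ht₀α).symm.trans (hPN t₀ ht₀ h))
  -- no element of `N` maps `α` to `β`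
  have hns : ∀ g ∈ N, g • α = β → False := by
    intro g hg hgα
    have huα : (t₀⁻¹ * g) • α = α := by
      rw [mul_smul, hgα, inv_smul_eq_iff, ht₀α]
    have huN : t₀⁻¹ * g ∉ N := by
      intro h
      have h2 : t₀⁻¹ ∈ N := (N.mul_mem_cancel_right hg).mp h
      exact ht₀N (by simpa using N.inv_mem h2)
    obtain ⟨a, m, hm, hord⟩ := Nat.exists_eq_two_pow_mul_odd (orderOf_pos (t₀⁻¹ * g)).ne'
    have hv : ((t₀⁻¹ * g) ^ m) ^ 2 ^ a = 1 := by
      rw [← pow_mul, mul_comm, ← hord, pow_orderOf_eq_one]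
    have hvN := key _ a hv α (pow_smul_fixed huα m)
    exact huN (mem_of_odd_pow_mem hN2 hm hvN)
  obtain ⟨c, hcP, hc1, hcα, hcβ⟩ := hC.exT
  have hcN : c ∈ N := hTN c hcP hcα
  refine ⟨(MulAction.stabilizer G α ⊓ MulAction.stabilizer G β).subgroupOf N, ?_, ?_, ?_⟩
  · intro hbot
    have hmem : (⟨c, hcN⟩ : ↥N) ∈
        (MulAction.stabilizer G α ⊓ MulAction.stabilizer G β).subgroupOf N := by
      rw [Subgroup.mem_subgroupOf]
      exact ⟨hcα, hcβ⟩
    rw [hbot, Subgroup.mem_bot] at hmem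
    exact hc1 (congrArg Subtype.val hmem)
  · intro htop
    have hfixα : ∀ n ∈ N, n • α = α := by
      intro n hn
      have hmem : (⟨n, hn⟩ : ↥N) ∈
          (MulAction.stabilizer G α ⊓ MulAction.stabilizer G β).subgroupOf N := by
        rw [htop]; exact Subgroup.mem_top _
      rw [Subgroup.mem_subgroupOf] at hmem
      exact hmem.1
    apply hc1
    apply FaithfulSMul.eq_of_smul_eq_smul (α := Ω)
    intro ω
    obtain ⟨g, rfl⟩ := MulAction.exists_smul_eq G α ω
    have h1 := hfixα _ (hN.conj_mem c hcN g⁻¹)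
    rw [one_smul]
    have h2 : g • ((g⁻¹ * c * g⁻¹⁻¹) • α) = g • α := by rw [h1]
    rw [mul_smul, mul_smul, smul_inv_smul, inv_inv] at h2
    exact h2
  · intro g hg
    rw [eq_bot_iff]
    intro h hh
    rw [Subgroup.mem_bot]
    by_contra hne
    have hh' := Subgroup.mem_inf.mp hh
    have hh1 := hh'.1
    have hh2 := hh'.2
    rw [Subgroup.mem_subgroupOf] at hh1
    rw [Subgroup.mem_pointwise_smul_iff_inv_smul_mem, Subgroup.mem_subgroupOf] at hh2
    have hconj : (((MulAut.conj g)⁻¹ • h : ↥N) : G) = (g : G)⁻¹ * (h : G) * (g : G) := by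
      simp [MulAut.smul_def]
    rw [hconj] at hh2
    have hhα : (h : G) • α = α := hh1.1
    have hhβ : (h : G) • β = β := hh1.2
    have hgα : (h : G) • ((g : G) • α) = (g : G) • α := by
      have h3 : ((g : G)⁻¹ * (h : G) * (g : G)) • α = α := hh2.1
      have h4 : (g : G) • (((g : G)⁻¹ * (h : G) * (g : G)) • α) = (g : G) • α := by rw [h3]
      rw [mul_smul, mul_smul, smul_inv_smul] at h4
      exact h4
    have hgβ : (h : G) • ((g : G) • β) = (g : G) • β := by
      have h3 : ((g : G)⁻¹ * (h : G) * (g : G)) • β = β := hh2.2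
      have h4 : (g : G) • (((g : G)⁻¹ * (h : G) * (g : G)) • β) = (g : G) • β := by rw [h3]
      rw [mul_smul, mul_smul, smul_inv_smul] at h4
      exact h4
    have hne' : (h : G) ≠ 1 := fun h1 => hne (Subtype.ext h1)
    have hfix := hC.fix2 (h : G) hne'
    have hαβ : α ≠ β := fun h => hC.ne h.symm
    rcases fix_three hfix hαβ hhα hhβ hgα with h1 | h1
    · rcases fix_three hfix hαβ hhα hhβ hgβ with h2 | h2
      · exact hαβ (smul_left_cancel (g : G) (h1.trans h2.symm))
      · apply hg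
        rw [Subgroup.mem_subgroupOf]
        exact ⟨h1, h2⟩
    · exact hns (g : G) g.2 h1

end Cfsg.Agent.H75.Fx2
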