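import Cfsg.Agent.H59.Fx2Defs

/-!
# FX-TRANSFER (helper59, S3390): the transfer into `ℤˣ` gives a normal subgroup of index 2
-/

set_option autoImplicit false

open scoped Pointwise

namespace Cfsg.Agent.H75.Fx2

open Cfsg.Agent.H59.Fx2

universe u v

/-- Transfer evaluation when `ϕ` is constant along fusion of the powers of `g ∈ H`. -/
theorem transfer_eq_pow_index {G : Type u} [Group G] {A : Type v} [CommGroup A]
    {H : Subgroup G} [H.FiniteIndex] (ϕ : ↥H →* A) (g : G) (hg : g ∈ H)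
    (key : ∀ (k : ℕ) (g₀ : G) (hk : g₀⁻¹ * g ^ k * g₀ ∈ H),
      ϕ ⟨g₀⁻¹ * g ^ k * g₀, hk⟩ = ϕ ⟨g, hg⟩ ^ k) :
    MonoidHom.transfer ϕ g = ϕ ⟨g, hg⟩ ^ H.index := by
  classical
  let := H.fintypeQuotientOfFiniteIndex
  rw [MonoidHom.transfer_eq_prod_quotient_orbitRel_zpowers_quot,
    Subgroup.index_eq_sum_minimalPeriod H g, ← Finset.prod_pow_eq_pow_sum]
  refine Finset.prod_congr rfl (fun q _ => ?_)
  exact key _ _ _

/-- an element of `P` fixes `α` iff it has a fixed point. -/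
theorem fixα_of_fix {G : Type u} [Group G] {Ω : Type v} [MulAction G Ω]
    {S : Subgroup G} {α β : Ω} (hC : Cfg S α β) (hF : Free S α β) {y : G} (hy : y ∈ S)
    {ω : Ω} (hω : y • ω = ω) : y • α = α := by
  by_cases h1 : ω = α
  · rw [← h1]; exact hω
  by_cases h2 : ω = β
  · exact hC.fixα hy (by rw [← h2]; exact hω)
  · rw [hF ω h1 h2 y hy hω, one_smul]

theorem units_int_pow_odd (u : ℤˣ) {n : ℕ} (hn : Odd n) : u ^ n = u := by
  obtain ⟨m, rfl⟩ := hn
  rw [pow_succ, pow_mul, Int.units_sq, one_pow, one_mul]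

theorem transfer : StTransfer.{u, v} := by
  intro G _ _ Ω _ _ P α β hC hI hF
  classical
  -- the sign character on `P`
  have hmul : ∀ a b : ↥(P : Subgroup G),
      (if ((a * b : ↥(P : Subgroup G)) : G) • α = α then (1 : ℤˣ) else -1) =
      (if (a : G) • α = α then (1 : ℤˣ) else -1) * (if (b : G) • α = α then (1 : ℤˣ) else -1) := by
    intro a b
    have hab : ((a * b : ↥(P : Subgroup G)) : G) • α = (a : G) • ((b : G) • α) := by
      rw [Subgroup.coe_mul, mul_smul]
    rw [hab]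
    rcases hI b.1 b.2 with hb | hb
    · rw [hb]
      simp
    · rw [hb]
      rcases hI a.1 a.2 with ha | ha
      · rw [hC.fixβ a.2 ha, ha]
        simp [hC.ne]
      · rw [hC.swapβ a.2 ha, ha]
        simp [hC.ne]
  let ϕ : ↥(P : Subgroup G) →* ℤˣ :=
    MonoidHom.mk' (fun y => if (y : G) • α = α then (1 : ℤˣ) else -1) hmul
  have hϕ : ∀ y : ↥(P : Subgroup G), ϕ y = if (y : G) • α = α then (1 : ℤˣ) else -1 :=
    fun y => rfl
  have hodd : Odd (P : Subgroup G).index := by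
    rw [← Nat.not_even_iff_odd, even_iff_two_dvd]
    have : Fact (Nat.Prime 2) := ⟨Nat.prime_two⟩
    exact P.not_dvd_index
  -- transfer restricted to `P` is `ϕ`
  have hV : ∀ (s : G) (hs : s ∈ (P : Subgroup G)),
      MonoidHom.transfer ϕ s = ϕ ⟨s, hs⟩ := by
    intro s hs
    rw [transfer_eq_pow_index ϕ s hs, units_int_pow_odd _ hodd]
    intro k g₀ hk
    rw [← map_pow, hϕ, hϕ]
    have hsk : s ^ k ∈ (P : Subgroup G) := pow_mem hs k
    have hiff : (g₀⁻¹ * s ^ k * g₀) • α = α ↔ (s ^ k) • α = α := by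
      constructor
      · intro h
        refine fixα_of_fix hC hF hsk (ω := g₀ • α) ?_
        have : g₀ • ((g₀⁻¹ * s ^ k * g₀) • α) = g₀ • α := by rw [h]
        rw [mul_smul, mul_smul, smul_inv_smul] at this
        exact this
      · intro h
        refine fixα_of_fix hC hF hk (ω := g₀⁻¹ • α) ?_
        rw [mul_smul, mul_smul, smul_inv_smul, h]
    by_cases h : (s ^ k) • α = α
    · rw [if_pos (hiff.mpr h), if_pos (by simpa using h)]
    · rw [if_neg (fun h' => h (hiff.mp h')), if_neg (by simpa using h)]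
  obtain ⟨s₀, hs₀, hs₀α⟩ := hC.swap
  have hVs₀ : MonoidHom.transfer ϕ s₀ = -1 := by
    rw [hV s₀ hs₀, hϕ, if_neg (by rw [hs₀α]; exact hC.ne)]
  refine ⟨(MonoidHom.transfer ϕ).ker, MonoidHom.normal_ker _, ?_, ?_⟩
  · rw [Subgroup.index_eq_two_iff]
    refine ⟨s₀, fun b => ?_⟩
    rw [MonoidHom.mem_ker, MonoidHom.mem_ker, map_mul, hVs₀]
    rcases Int.units_eq_one_or (MonoidHom.transfer ϕ b) with h | h
    · rw [h]
      exact Or.inr ⟨rfl, by decide⟩
    · rw [h]
      exact Or.inl ⟨by decide, by decide⟩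
  · ext g
    rw [Subgroup.mem_inf, Subgroup.mem_inf, MonoidHom.mem_ker, MulAction.mem_stabilizer_iff]
    constructor
    · rintro ⟨h1, h2⟩
      refine ⟨h2, ?_⟩
      rw [hV g h2, hϕ] at h1
      by_contra h
      rw [if_neg h] at h1
      exact absurd h1 (by decide)
    · rintro ⟨h1, h2⟩
      refine ⟨?_, h1⟩
      rw [hV g h1, hϕ, if_pos h2]

end Cfsg.Agent.H75.Fx2
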