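import Mathlib
import Cfsg.Agent.H66.GrossDefs

/-!
# Piece S3795-INVSUB: `invSet` is the carrier of a `σ`-invariant subgroup between `Z` and `C`.
-/

set_option autoImplicit false
set_option linter.style.haveILetI false

namespace Cfsg.Agent.H75.Gross

open Cfsg Cfsg.Agent.H66.Gross
open scoped commutatorElement

universe u

theorem invsub_holds : InvSubStatement.{u} := by
  intro H _ _ σ n hn hσ q C Z hcrit
  obtain ⟨hCq, hZC, hσC, hσZ, hcent, hcomm, hpow, hτZ⟩ := hcrit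
  have hτC : ∀ x ∈ C, (σ ^ (2 ^ (n - 1))) x ∈ C := by
    have h0 : ∀ j : ℕ, ∀ x ∈ C, (σ ^ j) x ∈ C := by
      intro j
      induction j with
      | zero => intro x hx; simpa using hx
      | succ j ih =>
        intro x hx
        rw [pow_succ, MulAut.mul_apply]
        exact ih _ (hσC x hx)
    exact h0 _
  have hστ : ∀ x, (σ ^ (2 ^ (n - 1))) (σ x) = σ ((σ ^ (2 ^ (n - 1))) x) := by
    intro x
    have h1 : σ ^ (2 ^ (n - 1)) * σ = σ * σ ^ (2 ^ (n - 1)) := by rw [← pow_succ, ← pow_succ']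
    have h2 := congrArg (fun f : MulAut H => f x) h1
    simpa [MulAut.mul_apply] using h2
  refine ⟨{ carrier := invSet σ n C Z, mul_mem' := ?_, one_mem' := ?_, inv_mem' := ?_ },
    rfl, ?_, ?_, ?_⟩
  · rintro x y ⟨hx, hxz⟩ ⟨hy, hyz⟩
    refine ⟨mul_mem hx hy, ?_⟩
    have hc : ⁅y, (σ ^ (2 ^ (n - 1))) x⁆ ∈ Z := hcomm y hy _ (hτC x hx)
    have hxc : x * ⁅y, (σ ^ (2 ^ (n - 1))) x⁆ = ⁅y, (σ ^ (2 ^ (n - 1))) x⁆ * x :=
      hcent x hx _ hc
    have h3 : x * y * (σ ^ (2 ^ (n - 1))) (x * y) =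
        ⁅y, (σ ^ (2 ^ (n - 1))) x⁆ * (x * (σ ^ (2 ^ (n - 1))) x) *
          (y * (σ ^ (2 ^ (n - 1))) y) := by
      rw [map_mul]
      calc x * y * ((σ ^ (2 ^ (n - 1))) x * (σ ^ (2 ^ (n - 1))) y)
          = (x * ⁅y, (σ ^ (2 ^ (n - 1))) x⁆) * (σ ^ (2 ^ (n - 1))) x * y *
              (σ ^ (2 ^ (n - 1))) y := by
            rw [commutatorElement_def]; group
        _ = ⁅y, (σ ^ (2 ^ (n - 1))) x⁆ * (x * (σ ^ (2 ^ (n - 1))) x) *
              (y * (σ ^ (2 ^ (n - 1))) y) := by rw [hxc]; group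
    rw [h3]
    exact mul_mem (mul_mem hc hxz) hyz
  · refine ⟨one_mem C, ?_⟩
    rw [map_one, mul_one]
    exact one_mem Z
  · rintro x ⟨hx, hxz⟩
    refine ⟨inv_mem hx, ?_⟩
    have hc : ⁅(σ ^ (2 ^ (n - 1))) x, x⁆ ∈ Z := hcomm _ (hτC x hx) x hx
    have h3 : x⁻¹ * (σ ^ (2 ^ (n - 1))) x⁻¹ =
        (⁅(σ ^ (2 ^ (n - 1))) x, x⁆ * (x * (σ ^ (2 ^ (n - 1))) x))⁻¹ := by
      rw [map_inv, commutatorElement_def]; group
    rw [h3]
    exact inv_mem (mul_mem hc hxz)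
  · intro z hz
    refine ⟨hZC hz, ?_⟩
    rw [hτZ z hz]
    exact mul_mem hz hz
  · intro x hx
    exact hx.1
  · rintro x ⟨hx, hxz⟩
    refine ⟨hσC x hx, ?_⟩
    rw [hστ, ← map_mul]
    exact hσZ _ hxz

end Cfsg.Agent.H75.Gross
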