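import Mathlib
import Cfsg.Agent.H66.GrossDefs

/-!
# Piece S3795-STAB: an element of order prime to `q` stabilising `1 ≤ Z ≤ C` centralises `C`.
-/

set_option autoImplicit false
set_option linter.style.haveILetI false

namespace Cfsg.Agent.H75.Gross

open Cfsg Cfsg.Agent.H66.Gross
open scoped commutatorElement

universe u

theorem stab_holds : StabStatement.{u} := by
  intro H _ _ q _ C Z hC hZC z hz hzZ hcomm x hx
  have hkZ : ⁅z, x⁆ ∈ Z := hcomm x hx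
  have hzk : z * ⁅z, x⁆ = ⁅z, x⁆ * z := hzZ _ hkZ
  have hconj : z * x * z⁻¹ = ⁅z, x⁆ * x := by rw [commutatorElement_def]; group
  have hpow : ∀ j : ℕ, z ^ j * x * (z ^ j)⁻¹ = ⁅z, x⁆ ^ j * x := by
    intro j
    induction j with
    | zero => simp
    | succ j ih =>
      have hzkj : z * ⁅z, x⁆ ^ j = ⁅z, x⁆ ^ j * z :=
        (Commute.pow_right (show Commute z ⁅z, x⁆ from hzk) j).eq
      calc z ^ (j + 1) * x * (z ^ (j + 1))⁻¹ = z * (z ^ j * x * (z ^ j)⁻¹) * z⁻¹ := by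
            rw [pow_succ']; group
        _ = z * (⁅z, x⁆ ^ j * x) * z⁻¹ := by rw [ih]
        _ = (z * ⁅z, x⁆ ^ j) * x * z⁻¹ := by group
        _ = ⁅z, x⁆ ^ j * (z * x * z⁻¹) := by rw [hzkj]; group
        _ = ⁅z, x⁆ ^ (j + 1) * x := by rw [hconj, pow_succ]; group
  have h1 := hpow (orderOf z)
  rw [pow_orderOf_eq_one, one_mul, inv_one, mul_one] at h1
  have hkm : ⁅z, x⁆ ^ orderOf z = 1 := by
    have h2 : ⁅z, x⁆ ^ orderOf z * x = 1 * x := by rw [one_mul]; exact h1.symm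
    exact mul_right_cancel h2
  obtain ⟨a, ha⟩ := hC ⟨⁅z, x⁆, hZC hkZ⟩
  have hka : ⁅z, x⁆ ^ q ^ a = 1 := by simpa using congrArg Subtype.val ha
  have hd1 : orderOf ⁅z, x⁆ ∣ orderOf z := orderOf_dvd_of_pow_eq_one hkm
  have hd2 : orderOf ⁅z, x⁆ ∣ q ^ a := orderOf_dvd_of_pow_eq_one hka
  have hcop : (orderOf z).Coprime (q ^ a) := Nat.Coprime.pow_right a hz
  have hk1 : ⁅z, x⁆ = 1 :=
    orderOf_eq_one_iff.mp (Nat.Coprime.eq_one_of_dvd (Nat.Coprime.coprime_dvd_left hd1 hcop) hd2)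
  exact commutatorElement_eq_one_iff_mul_comm.mp hk1

end Cfsg.Agent.H75.Gross
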