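import Mathlib
import Cfsg.Agent.H95.HupDefs
import Cfsg.Agent.H60.Cores

/-!
# Piece S3360-64D: the space with 64 elements, the final group theoretic step.
-/

set_option autoImplicit false
set_option linter.style.haveILetI false
set_option linter.unusedSectionVars false

namespace Cfsg.Agent.H75.Hup

open Cfsg.Agent.H95.Hup

universe u w

theorem mem_cent_zpowers {G : Type*} [Group G] (y c : G) :
    c ∈ Subgroup.centralizer (Subgroup.zpowers y : Set G) ↔ c * y = y * c := by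
  rw [Subgroup.mem_centralizer_iff]
  constructor
  · intro h
    exact (h y (Subgroup.mem_zpowers y)).symm
  · intro h b hb
    obtain ⟨i, rfl⟩ := Subgroup.mem_zpowers_iff.mp hb
    exact ((Commute.zpow_right (show Commute c y from h) i).eq).symm

theorem conj_pow_of_comm {G : Type*} [Group G] {z x k : G} (hconj : z * x * z⁻¹ = k * x)
    (hzk : z * k = k * z) (j : ℕ) : z ^ j * x * (z ^ j)⁻¹ = k ^ j * x := by
  induction j with
  | zero => simp
  | succ j ih =>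
    have hzkj : z * k ^ j = k ^ j * z := (Commute.pow_right (show Commute z k from hzk) j).eq
    calc z ^ (j + 1) * x * (z ^ (j + 1))⁻¹ = z * (z ^ j * x * (z ^ j)⁻¹) * z⁻¹ := by
          rw [pow_succ']; group
      _ = z * (k ^ j * x) * z⁻¹ := by rw [ih]
      _ = (z * k ^ j) * x * z⁻¹ := by group
      _ = k ^ j * (z * x * z⁻¹) := by rw [hzkj]; group
      _ = k ^ (j + 1) * x := by rw [hconj, pow_succ]; group

theorem card_le_conj {G : Type*} [Group G] [Finite G] (y : G) (hn : (Subgroup.zpowers y).Normal) :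
    Nat.card G ≤ Nat.card (Subgroup.zpowers y) *
      Nat.card (Subgroup.centralizer (Subgroup.zpowers y : Set G)) := by
  classical
  have hrep : ∀ b : G, ∃ r : G, (∃ g : G, g * y * g⁻¹ = b) → r * y * r⁻¹ = b := by
    intro b
    by_cases h : ∃ g : G, g * y * g⁻¹ = b
    · obtain ⟨g, hg⟩ := h
      exact ⟨g, fun _ => hg⟩
    · exact ⟨1, fun h' => absurd h' h⟩
  choose r hr using hrep
  have hmemC : ∀ g : G, (r (g * y * g⁻¹))⁻¹ * g ∈
      Subgroup.centralizer (Subgroup.zpowers y : Set G) := by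
    intro g
    have h1 := hr (g * y * g⁻¹) ⟨g, rfl⟩
    rw [mem_cent_zpowers]
    generalize r (g * y * g⁻¹) = s at h1 ⊢
    have h2 : y = s⁻¹ * (g * y * g⁻¹) * s := by
      calc y = s⁻¹ * (s * y * s⁻¹) * s := by group
        _ = s⁻¹ * (g * y * g⁻¹) * s := by rw [h1]
    calc s⁻¹ * g * y = s⁻¹ * (g * y * g⁻¹) * s * (s⁻¹ * g) := by group
      _ = y * (s⁻¹ * g) := by rw [← h2]
  let φ : G → ↥(Subgroup.zpowers y) × ↥(Subgroup.centralizer (Subgroup.zpowers y : Set G)) :=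
    fun g => (⟨g * y * g⁻¹, hn.conj_mem y (Subgroup.mem_zpowers y) g⟩,
      ⟨(r (g * y * g⁻¹))⁻¹ * g, hmemC g⟩)
  have hφ : Function.Injective φ := by
    intro g g' h
    have h1 : g * y * g⁻¹ = g' * y * g'⁻¹ := congrArg (fun p => (p.1 : G)) h
    have h2 : (r (g * y * g⁻¹))⁻¹ * g = (r (g' * y * g'⁻¹))⁻¹ * g' :=
      congrArg (fun p => (p.2 : G)) h
    rw [h1] at h2
    exact mul_left_cancel h2
  have h3 := Nat.card_le_card_of_injective φ hφ
  rwa [Nat.card_prod] at h3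

theorem s64d (hDvd : DvdStmt.{u, w}) : S64DStmt.{u, w} := by
  intro V _ _ _ _ G _ _ ρ hsolv hinj htrans hcard y hy hB h64C
  classical
  by_contra hnot
  haveI hBn : (Subgroup.zpowers y).Normal := by
    rw [← hB]
    exact Subgroup.sSup_normal _ (fun _ hH => hH.1)
  have hpow7 : ∀ b ∈ Subgroup.zpowers y, b ^ 7 = 1 := by
    intro b hb
    obtain ⟨i, rfl⟩ := Subgroup.mem_zpowers_iff.mp hb
    rw [← zpow_natCast, ← zpow_mul, mul_comm, zpow_mul, zpow_natCast, ← hy, pow_orderOf_eq_one,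
      one_zpow]
  have hBC : Subgroup.zpowers y ≤ Subgroup.centralizer (Subgroup.zpowers y : Set G) := by
    intro b hb
    rw [mem_cent_zpowers]
    obtain ⟨i, rfl⟩ := Subgroup.mem_zpowers_iff.mp hb
    exact ((Commute.refl y).zpow_left i).eq
  haveI hCn : (Subgroup.centralizer (Subgroup.zpowers y : Set G)).Normal := inferInstance
  have hcardB : Nat.card (Subgroup.zpowers y) = 7 := by rw [Nat.card_zpowers, hy]
  have h63 : 63 ∣ Nat.card G := by
    have h1 := hDvd 2 ρ htrans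
    rwa [hcard] at h1
  have hbound := card_le_conj y hBn
  have hCB : ¬ Subgroup.centralizer (Subgroup.zpowers y : Set G) ≤ Subgroup.zpowers y := by
    intro hle
    have h1 : Nat.card (Subgroup.centralizer (Subgroup.zpowers y : Set G)) ≤ 7 := by
      rw [← hcardB]
      exact Subgroup.card_le_of_le hle
    rw [hcardB] at hbound
    have h3 : 63 ≤ Nat.card G := Nat.le_of_dvd Nat.card_pos h63
    omega
  -- the derived series of `C`
  obtain ⟨k₀, hk₀⟩ := (Group.isSolvable_def G).mp hsolv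
  have hex : ∃ k, Cfsg.Agent.H60.dser (Subgroup.centralizer (Subgroup.zpowers y : Set G)) k ≤
      Subgroup.zpowers y := ⟨k₀, by
    have h1 := Cfsg.Agent.H60.dser_le_derivedSeries
      (Subgroup.centralizer (Subgroup.zpowers y : Set G)) k₀
    rw [hk₀] at h1
    exact h1.trans bot_le⟩
  have hk_spec := Nat.find_spec hex
  have hk0 : Nat.find hex ≠ 0 := by
    intro h0
    rw [h0, Cfsg.Agent.H60.dser_zero] at hk_spec
    exact hCB hk_spec
  obtain ⟨i, hi⟩ := Nat.exists_eq_succ_of_ne_zero hk0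
  have hHnot : ¬ Cfsg.Agent.H60.dser (Subgroup.centralizer (Subgroup.zpowers y : Set G)) i ≤
      Subgroup.zpowers y := Nat.find_min hex (by rw [hi]; exact Nat.lt_succ_self i)
  have hH' : ⁅Cfsg.Agent.H60.dser (Subgroup.centralizer (Subgroup.zpowers y : Set G)) i,
      Cfsg.Agent.H60.dser (Subgroup.centralizer (Subgroup.zpowers y : Set G)) i⁆ ≤
      Subgroup.zpowers y := by
    rw [hi] at hk_spec
    exact hk_spec
  haveI hHn : (Cfsg.Agent.H60.dser (Subgroup.centralizer (Subgroup.zpowers y : Set G)) i).Normal :=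
    Cfsg.Agent.H60.dser_normal _ i
  have hHC : Cfsg.Agent.H60.dser (Subgroup.centralizer (Subgroup.zpowers y : Set G)) i ≤
      Subgroup.centralizer (Subgroup.zpowers y : Set G) := Cfsg.Agent.H60.dser_le _ i
  generalize Cfsg.Agent.H60.dser (Subgroup.centralizer (Subgroup.zpowers y : Set G)) i = H
    at hHnot hH' hHn hHC
  have hDC : Subgroup.zpowers y ⊔ H ≤ Subgroup.centralizer (Subgroup.zpowers y : Set G) :=
    sup_le hBC hHC
  haveI hDn : (Subgroup.zpowers y ⊔ H).Normal := inferInstance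
  have hBc : ∀ b ∈ Subgroup.zpowers y,
      ∀ c ∈ Subgroup.centralizer (Subgroup.zpowers y : Set G), b * c = c * b :=
    fun b hb c hc => Subgroup.mem_centralizer_iff.mp hc b hb
  have cz : ∀ z ∈ Subgroup.zpowers y,
      ∀ c ∈ Subgroup.centralizer (Subgroup.zpowers y : Set G), z * c * z⁻¹ = c := by
    intro z hz c hc
    rw [hBc z hz c hc, mul_inv_cancel_right]
  have hdec : ∀ d ∈ Subgroup.zpowers y ⊔ H, ∃ z ∈ Subgroup.zpowers y, ∃ h ∈ H, d = z * h := by
    intro d hd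
    have hd' : d ∈ ((Subgroup.zpowers y ⊔ H : Subgroup G) : Set G) := hd
    rw [Subgroup.normal_mul] at hd'
    obtain ⟨z, hz, h, hh, rfl⟩ := Set.mem_mul.mp hd'
    exact ⟨z, hz, h, hh, rfl⟩
  have hcomm : ∀ a ∈ Subgroup.zpowers y ⊔ H, ∀ b ∈ Subgroup.zpowers y ⊔ H,
      a * b * a⁻¹ * b⁻¹ ∈ Subgroup.zpowers y := by
    intro a ha b hb
    obtain ⟨z₁, hz₁, h₁, hh₁, rfl⟩ := hdec a ha
    obtain ⟨z₂, hz₂, h₂, hh₂, rfl⟩ := hdec b hb
    have hh₁C := hHC hh₁
    have hh₂C := hHC hh₂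
    have hz₂C := hBC hz₂
    have e : z₁ * h₁ * (z₂ * h₂) * (z₁ * h₁)⁻¹ * (z₂ * h₂)⁻¹ = h₁ * h₂ * h₁⁻¹ * h₂⁻¹ := by
      calc z₁ * h₁ * (z₂ * h₂) * (z₁ * h₁)⁻¹ * (z₂ * h₂)⁻¹
          = (z₁ * (h₁ * (z₂ * h₂) * h₁⁻¹) * z₁⁻¹) * (z₂ * h₂)⁻¹ := by group
        _ = h₁ * (z₂ * h₂) * h₁⁻¹ * (z₂ * h₂)⁻¹ := by
            rw [cz z₁ hz₁ _ (mul_mem (mul_mem hh₁C (mul_mem hz₂C hh₂C)) (inv_mem hh₁C))]
        _ = (h₁ * z₂) * h₂ * h₁⁻¹ * h₂⁻¹ * z₂⁻¹ := by group
        _ = (z₂ * h₁) * h₂ * h₁⁻¹ * h₂⁻¹ * z₂⁻¹ := by rw [← hBc z₂ hz₂ h₁ hh₁C]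
        _ = z₂ * (h₁ * h₂ * h₁⁻¹ * h₂⁻¹) * z₂⁻¹ := by group
        _ = h₁ * h₂ * h₁⁻¹ * h₂⁻¹ :=
            cz z₂ hz₂ _ (mul_mem (mul_mem (mul_mem hh₁C hh₂C) (inv_mem hh₁C)) (inv_mem hh₂C))
    rw [e]
    exact hH' (Subgroup.commutator_mem_commutator hh₁ hh₂)
  -- the centre of `D`
  haveI hNn : ((Subgroup.zpowers y ⊔ H) ⊓
      Subgroup.centralizer ((Subgroup.zpowers y ⊔ H : Subgroup G) : Set G)).Normal := inferInstance
  have hNab : ∀ a ∈ (Subgroup.zpowers y ⊔ H) ⊓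
      Subgroup.centralizer ((Subgroup.zpowers y ⊔ H : Subgroup G) : Set G),
      ∀ b ∈ (Subgroup.zpowers y ⊔ H) ⊓
        Subgroup.centralizer ((Subgroup.zpowers y ⊔ H : Subgroup G) : Set G),
      a * b = b * a := by
    intro a ha b hb
    exact Subgroup.mem_centralizer_iff.mp hb.2 a ha.1
  have hNy : ∀ a ∈ (Subgroup.zpowers y ⊔ H) ⊓
      Subgroup.centralizer ((Subgroup.zpowers y ⊔ H : Subgroup G) : Set G), a * y = y * a := by
    intro a ha
    exact (Subgroup.mem_centralizer_iff.mp ha.2 y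
      (Subgroup.mem_sup_left (Subgroup.mem_zpowers y))).symm
  rcases h64C _ hNn hNab hNy with h | hNB
  · exact hnot h
  have hD7 : IsPGroup 7 ↥(Subgroup.zpowers y ⊔ H) := by
    rintro ⟨a, ha⟩
    refine ⟨2, ?_⟩
    apply Subtype.ext
    have haC := hDC ha
    have ha7 : a ^ 7 ∈ (Subgroup.zpowers y ⊔ H) ⊓
        Subgroup.centralizer ((Subgroup.zpowers y ⊔ H : Subgroup G) : Set G) := by
      refine Subgroup.mem_inf.mpr ⟨pow_mem ha 7, ?_⟩
      rw [Subgroup.mem_centralizer_iff]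
      intro b hb
      have hk := hcomm a ha b hb
      have hconj : a * b * a⁻¹ = (a * b * a⁻¹ * b⁻¹) * b := by group
      have hak : a * (a * b * a⁻¹ * b⁻¹) = (a * b * a⁻¹ * b⁻¹) * a := (hBc _ hk a haC).symm
      have h1 := conj_pow_of_comm hconj hak 7
      rw [hpow7 _ hk, one_mul] at h1
      calc b * a ^ 7 = (a ^ 7 * b * (a ^ 7)⁻¹) * a ^ 7 := by rw [h1]
        _ = a ^ 7 * b := by group
    have h2 : (a ^ 7) ^ 7 = 1 := hpow7 _ (hNB ha7)
    show a ^ (7 ^ 2) = 1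
    have h49 : (7 : ℕ) ^ 2 = 7 * 7 := by norm_num
    rw [h49, pow_mul]
    exact h2
  have hDle : Subgroup.zpowers y ⊔ H ≤ Cfsg.pCore 7 G := le_sSup ⟨hDn, hD7⟩
  rw [hB] at hDle
  exact hHnot (le_sup_right.trans hDle)

end Cfsg.Agent.H75.Hup
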