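import Mathlib
import Cfsg.Agent.H95.HupDefs

/-!
# Piece S3360-R2D: a nonabelian normal subgroup of class two containing the scalars.
-/

set_option autoImplicit false
set_option linter.style.haveILetI false
set_option linter.unusedSectionVars false

namespace Cfsg.Agent.H75.Hup

open Cfsg.Agent.H95.Hup

universe u w

section Scal

variable {q : ℕ} [Fact q.Prime] {V : Type u} [AddCommGroup V] [Module (ZMod q) V] [Nontrivial V]
  {G : Type w} [Group G] (ρ : G →* (V ≃ₗ[ZMod q] V))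

/-- The subgroup of the elements acting as scalars. -/
def scal : Subgroup G where
  carrier := {g | IsScal q ρ g}
  mul_mem' := by
    rintro g h ⟨c, hc⟩ ⟨d, hd⟩
    refine ⟨d * c, fun v => ?_⟩
    rw [map_mul, LinearEquiv.mul_apply, hd, map_smul, hc, smul_smul]
  one_mem' := ⟨1, fun v => by rw [map_one, one_smul]; rfl⟩
  inv_mem' := by
    rintro g ⟨c, hc⟩
    have hc0 : c ≠ 0 := by
      rintro rfl
      obtain ⟨v, hv⟩ := exists_ne (0 : V)
      have h1 := hc v
      rw [zero_smul] at h1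
      exact hv ((ρ g).map_eq_zero_iff.mp h1)
    refine ⟨c⁻¹, fun v => ?_⟩
    have h1 : ρ g (c⁻¹ • v) = v := by rw [hc, smul_smul, mul_inv_cancel₀ hc0, one_smul]
    have h2 : ρ g⁻¹ (ρ g (c⁻¹ • v)) = c⁻¹ • v := by
      rw [← LinearEquiv.mul_apply, ← map_mul, inv_mul_cancel, map_one]
      rfl
    rw [h1] at h2
    exact h2

theorem mem_scal (g : G) : g ∈ scal ρ ↔ IsScal q ρ g := Iff.rfl

theorem scal_comm (hinj : Function.Injective ρ) {g : G} (hg : IsScal q ρ g) (h : G) :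
    g * h = h * g := by
  obtain ⟨c, hc⟩ := hg
  apply hinj
  ext v
  rw [map_mul, map_mul, LinearEquiv.mul_apply, LinearEquiv.mul_apply, hc, hc, map_smul]

end Scal

theorem r2d (hOT : OTStmt.{u, w}) : R2DStmt.{u, w} := by
  intro q _ V _ _ _ _ G _ _ ρ hsolv hinj htrans hcard hab
  classical
  have hqp : q.Prime := Fact.out
  haveI : NeZero q := ⟨hqp.ne_zero⟩
  -- not every element is scalar
  have hnot : ¬ ∀ g : G, IsScal q ρ g := by
    intro hall
    obtain ⟨v, hv⟩ := exists_ne (0 : V)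
    have hex : ∃ w : V, w ≠ 0 ∧ ∀ c : ZMod q, w ≠ c • v := by
      by_contra hcon
      push Not at hcon
      have hsurj : Function.Surjective (fun c : ZMod q => c • v) := by
        intro w
        by_cases hw : w = 0
        · exact ⟨0, by rw [hw]; exact zero_smul _ v⟩
        · obtain ⟨c, hc⟩ := hcon w hw
          exact ⟨c, hc.symm⟩
      have h1 := Nat.card_le_card_of_surjective _ hsurj
      rw [hcard, Nat.card_zmod] at h1
      have hq2 := hqp.two_le
      nlinarith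
    obtain ⟨w, hw0, hw⟩ := hex
    obtain ⟨g, hg⟩ := htrans v w hv hw0
    obtain ⟨c, hc⟩ := hall g
    exact hw c (by rw [← hg, hc])
  have hZ₀c : ∀ g ∈ scal ρ, ∀ h : G, g * h = h * g := fun g hg h => scal_comm ρ hinj hg h
  have cz : ∀ z ∈ scal ρ, ∀ y : G, z * y * z⁻¹ = y := by
    intro z hz y
    rw [hZ₀c z hz y, mul_inv_cancel_right]
  haveI hZ₀n : (scal ρ).Normal := ⟨fun g hg h => by
    rw [← hZ₀c g hg h, mul_inv_cancel_right]
    exact hg⟩
  -- the derived series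
  obtain ⟨k₀, hk₀⟩ := (Group.isSolvable_def G).mp hsolv
  have hex : ∃ k, derivedSeries G k ≤ scal ρ := ⟨k₀, by rw [hk₀]; exact bot_le⟩
  have hk_spec : derivedSeries G (Nat.find hex) ≤ scal ρ := Nat.find_spec hex
  have hk0 : Nat.find hex ≠ 0 := by
    intro h0
    rw [h0, derivedSeries_zero] at hk_spec
    exact hnot (fun g => hk_spec (Subgroup.mem_top g))
  obtain ⟨i, hi⟩ := Nat.exists_eq_succ_of_ne_zero hk0
  have hHnot : ¬ derivedSeries G i ≤ scal ρ :=
    Nat.find_min hex (by rw [hi]; exact Nat.lt_succ_self i)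
  have hH' : ⁅derivedSeries G i, derivedSeries G i⁆ ≤ scal ρ := by
    rw [hi] at hk_spec
    exact hk_spec
  haveI hHn : (derivedSeries G i).Normal := derivedSeries_normal G i
  haveI hDn : (scal ρ ⊔ derivedSeries G i).Normal := inferInstance
  have hdec : ∀ d ∈ scal ρ ⊔ derivedSeries G i,
      ∃ z ∈ scal ρ, ∃ h ∈ derivedSeries G i, d = z * h := by
    intro d hd
    have hd' : d ∈ ((scal ρ ⊔ derivedSeries G i : Subgroup G) : Set G) := hd
    rw [Subgroup.normal_mul] at hd'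
    obtain ⟨z, hz, h, hh, rfl⟩ := Set.mem_mul.mp hd'
    exact ⟨z, hz, h, hh, rfl⟩
  have hcomm : ∀ a ∈ scal ρ ⊔ derivedSeries G i, ∀ b ∈ scal ρ ⊔ derivedSeries G i,
      a * b * a⁻¹ * b⁻¹ ∈ scal ρ := by
    intro a ha b hb
    obtain ⟨z₁, hz₁, h₁, hh₁, rfl⟩ := hdec a ha
    obtain ⟨z₂, hz₂, h₂, hh₂, rfl⟩ := hdec b hb
    have e : z₁ * h₁ * (z₂ * h₂) * (z₁ * h₁)⁻¹ * (z₂ * h₂)⁻¹ = h₁ * h₂ * h₁⁻¹ * h₂⁻¹ := by
      calc z₁ * h₁ * (z₂ * h₂) * (z₁ * h₁)⁻¹ * (z₂ * h₂)⁻¹
          = (z₁ * (h₁ * (z₂ * h₂) * h₁⁻¹) * z₁⁻¹) * (z₂ * h₂)⁻¹ := by group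
        _ = h₁ * (z₂ * h₂) * h₁⁻¹ * (z₂ * h₂)⁻¹ := by rw [cz z₁ hz₁]
        _ = (h₁ * z₂) * h₂ * h₁⁻¹ * h₂⁻¹ * z₂⁻¹ := by group
        _ = (z₂ * h₁) * h₂ * h₁⁻¹ * h₂⁻¹ * z₂⁻¹ := by rw [← hZ₀c z₂ hz₂ h₁]
        _ = z₂ * (h₁ * h₂ * h₁⁻¹ * h₂⁻¹) * z₂⁻¹ := by group
        _ = h₁ * h₂ * h₁⁻¹ * h₂⁻¹ := cz z₂ hz₂ _
    rw [e]
    exact hH' (Subgroup.commutator_mem_commutator hh₁ hh₂)
  have hclass2 : Class2 (scal ρ ⊔ derivedSeries G i) := by
    intro a ha b hb c _
    exact hZ₀c _ (hcomm a ha b hb) c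
  -- the centre of `D`
  haveI hNn : ((scal ρ ⊔ derivedSeries G i) ⊓
      Subgroup.centralizer ((scal ρ ⊔ derivedSeries G i : Subgroup G) : Set G)).Normal :=
    inferInstance
  have hNab : ∀ a ∈ (scal ρ ⊔ derivedSeries G i) ⊓
      Subgroup.centralizer ((scal ρ ⊔ derivedSeries G i : Subgroup G) : Set G),
      ∀ b ∈ (scal ρ ⊔ derivedSeries G i) ⊓
        Subgroup.centralizer ((scal ρ ⊔ derivedSeries G i : Subgroup G) : Set G),
      a * b = b * a := by
    intro a ha b hb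
    exact Subgroup.mem_centralizer_iff.mp hb.2 a ha.1
  have hNscal := hab _ hNn hNab
  have hcent : ∀ z ∈ scal ρ ⊔ derivedSeries G i, Cent (scal ρ ⊔ derivedSeries G i) z →
      IsScal q ρ z := by
    intro z hz hzc
    apply hNscal z
    refine Subgroup.mem_inf.mpr ⟨hz, ?_⟩
    rw [Subgroup.mem_centralizer_iff]
    intro c hc
    exact (hzc c hc).symm
  have hnonab : ∃ a ∈ scal ρ ⊔ derivedSeries G i, ∃ b ∈ scal ρ ⊔ derivedSeries G i,
      a * b ≠ b * a := by
    by_contra hcon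
    push Not at hcon
    have h1 := hab _ hDn hcon
    exact hHnot (fun h hh => h1 h (Subgroup.mem_sup_right hh))
  have hcop : (Nat.card ↥(scal ρ ⊔ derivedSeries G i)).Coprime q := by
    haveI hnil : Group.IsNilpotent ↥(scal ρ ⊔ derivedSeries G i) := by
      refine ⟨2, ?_⟩
      rw [eq_top_iff]
      intro x _
      rw [Subgroup.mem_upperCentralSeries_succ_iff]
      intro y
      rw [Subgroup.upperCentralSeries_one, Subgroup.mem_center_iff]
      intro c
      apply Subtype.ext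
      have h1 := hZ₀c _ (hcomm x x.2 y y.2) c
      rw [commutatorElement_def]
      simpa using h1.symm
    by_contra hdvd
    have hqd : q ∣ Nat.card ↥(scal ρ ⊔ derivedSeries G i) := by
      by_contra h
      exact hdvd ((Nat.Prime.coprime_iff_not_dvd hqp).mpr h).symm
    obtain ⟨Q⟩ := (inferInstance : Nonempty (Sylow q ↥(scal ρ ⊔ derivedSeries G i)))
    have htfae : Group.IsNilpotent ↥(scal ρ ⊔ derivedSeries G i) ↔
        ∀ (p : ℕ) (_hp : Fact p.Prime) (P : Sylow p ↥(scal ρ ⊔ derivedSeries G i)),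
          (P : Subgroup ↥(scal ρ ⊔ derivedSeries G i)).Normal :=
      (Group.isNilpotent_of_finite_tfae (G := ↥(scal ρ ⊔ derivedSeries G i))).out 0 3
    have hQn : (Q : Subgroup ↥(scal ρ ⊔ derivedSeries G i)).Normal :=
      htfae.mp hnil q inferInstance Q
    haveI hQc : (Q : Subgroup ↥(scal ρ ⊔ derivedSeries G i)).Characteristic :=
      Sylow.characteristic_of_normal Q hQn
    have hQGn : ((Q : Subgroup ↥(scal ρ ⊔ derivedSeries G i)).map
        (scal ρ ⊔ derivedSeries G i).subtype).Normal := inferInstance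
    have hQp : IsPGroup q ((Q : Subgroup ↥(scal ρ ⊔ derivedSeries G i)).map
        (scal ρ ⊔ derivedSeries G i).subtype) := IsPGroup.map Q.isPGroup' _
    have hnd : ¬ q ∣ Nat.card V - 1 := by
      rw [hcard]
      intro h
      have h1 : q ∣ q ^ 2 := dvd_pow_self q (by norm_num)
      have h2 : 1 ≤ q ^ 2 := Nat.one_le_pow _ _ hqp.pos
      have h3 : q ∣ 1 := by
        have h4 : q ^ 2 - (q ^ 2 - 1) = 1 := by omega
        rw [← h4]
        exact Nat.dvd_sub h1 h
      exact hqp.one_lt.ne' (Nat.dvd_one.mp h3)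
    have hbot := hOT q ρ hinj htrans q hqp hnd _ hQGn hQp
    have hQbot : (Q : Subgroup ↥(scal ρ ⊔ derivedSeries G i)) = ⊥ :=
      (Subgroup.map_eq_bot_iff_of_injective _ (Subgroup.subtype_injective _)).mp hbot
    exact Sylow.ne_bot_of_dvd_card Q hqd hQbot
  exact ⟨scal ρ ⊔ derivedSeries G i, hDn, hcop, hclass2,
    fun g hg => Subgroup.mem_sup_left hg, hcent, hnonab⟩

end Cfsg.Agent.H75.Hup
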