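import Cfsg.Agent.H64.JzDefs
import Cfsg.Agent.S2950
import Cfsg.Agent.Helper55.UqBase
import Cfsg.Agent.H39.JzLex
import Cfsg.Agent.H63.SnIfV
import Cfsg.Agent.H3.JzOut1
import Cfsg.Agent.H32.SrVNG
import Cfsg.Agent.H4.JzZ2of
import Cfsg.Agent.H74.JzLtCore
import Cfsg.Agent.H60.JzFus

/-!
# JZ-LT (piece of S2951/S2952, team project JZ): the case `T < S`

Assembly of the interface of helper74's abstract core `Cfsg.Agent.H74.Jz.ltCore` from
S2950 (uniqueness of `L`, `T` Sylow in `L`), S2946 (`Z₀ = Z₁ × (Z₀ ∩ W_K)`, taken as the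
hypothesis `St46`: the closure of `Cfsg.Agent.S2946` cannot be loaded together with that of
S2950), helper4's `z2_core` (`|Ω₁Z(S)| = 2`) and helper60's `no_fusion`.
-/

set_option autoImplicit false
open Cfsg

namespace Cfsg.Agent.H75.Jz

universe u

/-- A 2-subgroup between a Sylow 2-subgroup `T` of `L` and `L` is `T`. -/
theorem sylIn_max {G : Type u} [Group G] [Finite G] {T L R : Subgroup G}
    (h : IsSylowTwoIn T L) (hTR : T ≤ R) (hRL : R ≤ L) (hR : IsPGroup 2 ↥R) : R ≤ T := by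
  have : Fact (Nat.Prime 2) := ⟨Nat.prime_two⟩
  have h1 := Subgroup.relIndex_mul_relIndex T R L hTR hRL
  have hodd : Odd (T.relIndex R) := by
    have h2 : Odd (T.relIndex R * R.relIndex L) := by rw [h1]; exact h.2.2
    exact (Nat.odd_mul.mp h2).1
  obtain ⟨n, hn⟩ := hR.index (T.subgroupOf R)
  have hn' : T.relIndex R = 2 ^ n := hn
  rw [hn'] at hodd
  have hn0 : n = 0 := by
    by_contra h0
    have h3 : Even (2 ^ n) := (Nat.even_pow.mpr ⟨even_two, h0⟩)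
    exact (Nat.not_odd_iff_even.mpr h3) hodd
  rw [hn0, pow_zero] at hn'
  exact Subgroup.relIndex_eq_one.mp hn'

theorem cent_le_norm_zpowers {G : Type u} [Group G] (y : G) :
    Subgroup.centralizer ({y} : Set G) ≤
      Subgroup.normalizer ((Subgroup.zpowers y : Subgroup G) : Set G) := by
  intro g hg
  apply Subgroup.centralizer_le_normalizer
  rw [Subgroup.mem_centralizer_iff]
  intro h hh
  obtain ⟨n, rfl⟩ := Subgroup.mem_zpowers_iff.mp hh
  have hgy : Commute y g := Subgroup.mem_centralizer_iff.mp hg y rfl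
  exact (hgy.zpow_left n).eq

/-- (U): the centralizer of an involution centralized by `⟨K, J⟩` lies in `L`. -/
theorem cent_le_L {G : Type u} [Group G] [Finite G] (KJ L : Subgroup G)
    (huniq : ∀ L' : Subgroup G, IsMaximalTwoLocal L' → KJ ≤ L' → L' = L)
    (y : G) (hy1 : y ≠ 1) (hy2 : y ^ 2 = 1)
    (hc : KJ ≤ Subgroup.centralizer ({y} : Set G)) :
    Subgroup.centralizer ({y} : Set G) ≤ L := by
  have h2loc : IsTwoLocal (Subgroup.normalizer ((Subgroup.zpowers y : Subgroup G) : Set G)) := by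
    refine ⟨Subgroup.zpowers y, ?_, ?_, rfl⟩
    · rintro ⟨g, hg⟩
      obtain ⟨n, rfl⟩ := Subgroup.mem_zpowers_iff.mp hg
      refine ⟨1, ?_⟩
      apply Subtype.ext
      simp only [pow_one, Subgroup.coe_pow, Subgroup.coe_one]
      rw [← zpow_natCast, ← zpow_mul, mul_comm, zpow_mul, zpow_natCast, hy2, one_zpow]
    · rwa [Ne, Subgroup.zpowers_eq_bot]
  obtain ⟨L', hL'max, hle⟩ := Cfsg.Agent.Helper55.Uq.exists_maximalTwoLocal h2loc
  have hcn := cent_le_norm_zpowers y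
  have hLL : L' = L := huniq L' hL'max (hc.trans (hcn.trans hle))
  rw [← hLL]; exact hcn.trans hle

theorem le_cent_singleton {G : Type u} [Group G] (H : Subgroup G) (y : G)
    (hc : y ∈ Subgroup.centralizer (H : Set G)) :
    H ≤ Subgroup.centralizer ({y} : Set G) := by
  intro k hk
  rw [Subgroup.mem_centralizer_iff]
  intro h hh
  rw [Set.mem_singleton_iff] at hh
  rw [hh]
  exact (Subgroup.mem_centralizer_iff.mp hc k hk).symm

/-- (Y): an element conjugating an involution centralized by `⟨K, J⟩` to another such lies in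
`L`. -/
theorem mem_L_of_conj {G : Type u} [Group G] [Finite G] (KJ L : Subgroup G)
    (hLmax : IsMaximalTwoLocal L)
    (huniq : ∀ L' : Subgroup G, IsMaximalTwoLocal L' → KJ ≤ L' → L' = L)
    (g y : G) (hy1 : y ≠ 1) (hy2 : y ^ 2 = 1)
    (hc : y ∈ Subgroup.centralizer (KJ : Set G))
    (hc' : g * y * g⁻¹ ∈ Subgroup.centralizer (KJ : Set G)) : g ∈ L := by
  have hU := cent_le_L KJ L huniq y hy1 hy2 (le_cent_singleton KJ y hc)
  have hmap : KJ ≤ L.map (MulAut.conj g).toMonoidHom := by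
    intro k hk
    rw [Cfsg.Agent.H3.Uq.uqConjMem]
    apply hU
    rw [Subgroup.mem_centralizer_iff]
    intro h hh
    rw [Set.mem_singleton_iff] at hh
    rw [hh]
    have h1 : k * (g * y * g⁻¹) = g * y * g⁻¹ * k := Subgroup.mem_centralizer_iff.mp hc' k hk
    calc y * (g⁻¹ * k * g) = g⁻¹ * (g * y * g⁻¹ * k) * g := by group
      _ = g⁻¹ * (k * (g * y * g⁻¹)) * g := by rw [h1]
      _ = g⁻¹ * k * g * y := by group
  have hmax' := Cfsg.Agent.H3.Jz.jzMaxTwoLocalConj L g hLmax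
  have heq := huniq _ hmax' hmap
  exact Cfsg.Agent.H3.Jz.jzMaxSelfNorm L hLmax
    (Cfsg.Agent.H3.Jz.jzMemNormalizerOfMapConj L g heq)

/-- The statement S2946, verbatim, as a closed `Prop`. -/
def St46 : Prop := ∀ {G : Type u} [Group G] [Finite G] (_hL : Cfsg.IsCharacteristicTwoType G)
    (_hN : ∀ N : Subgroup G, Cfsg.IsTwoLocal N → Group.IsSolvable ↥N)
    (_hZ : ∀ S : Sylow 2 G, Subgroup.centralizer (Cfsg.omegaCenterOf (S : Subgroup G) : Set G) ≤
      Subgroup.normalizer ((S : Subgroup G) : Set G)) (T : Subgroup G) (_hT : IsPGroup 2 ↥T)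
    (_hT1 : T ≠ ⊥) (K : Subgroup G) (_hK : Cfsg.IsJComponent T K)
    (Z₀ : Subgroup G) (_hZ₀ : Z₀ = Cfsg.omegaCenterOf (Cfsg.thompsonSubgroupOf 2 T)),
    Nat.card ↥(Z₀ ⊓ Cfsg.wOf K) = 2 ∧
      (Z₀ ⊓ ((K ⊔ Cfsg.thompsonSubgroupOf 2 T) ⊓
        Subgroup.centralizer ((K ⊔ Cfsg.thompsonSubgroupOf 2 T) : Set G))) ⊔
        (Z₀ ⊓ Cfsg.wOf K) = Z₀

/-- JZ-LT, with S2946 as a hypothesis. -/
theorem lt_of46 (h46 : St46.{u}) : Cfsg.Agent.H64.Jz.StLt.{u} := by
  intro G _ _ S M T K L hB hTS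
  obtain ⟨⟨hL, hN, hZ⟩, hO, hM, hMJ, hT, hTS', hK, hLmax, hKJ⟩ := hB
  obtain ⟨L₀, hL₀max, hKJ₀, huniq₀, hsub, hsyl₀⟩ :=
    Cfsg.Agent.S2950.result hL hN hZ hO S M hM hMJ T hT K hK
  have hLL : L = L₀ := huniq₀ L hLmax hKJ
  have huniq : ∀ L' : Subgroup G, IsMaximalTwoLocal L' →
      K ⊔ thompsonSubgroupOf 2 T ≤ L' → L' = L := by
    rw [hLL]; exact huniq₀
  have hsyl : IsSylowTwoIn T L := by rw [hLL]; exact hsyl₀
  have hT2 : IsPGroup 2 ↥T := hT.1.1
  have hT1 : T ≠ ⊥ := hT.1.2.1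
  have hKc : IsJComponent T K := hK.1.1
  obtain ⟨h46a, h46b⟩ := h46 hL hN hZ T hT2 hT1 K hKc
    (omegaCenterOf (thompsonSubgroupOf 2 T)) rfl
  rw [Cfsg.Agent.H4.Jz.z2_cent_union] at h46b
  have hS2 : IsPGroup 2 ↥(S : Subgroup G) := S.isPGroup'
  have hJT : thompsonSubgroupOf 2 T ≤ T := Cfsg.Agent.Helper55.ThJ.J_le T
  have hZ2 : Nat.card ↥(omegaCenterOf (S : Subgroup G)) = 2 :=
    Cfsg.Agent.H4.Jz.z2_core hL S T K L hT1 hTS' hTS hLmax huniq hsyl
      (fun X hX => Cfsg.Agent.Helper55.Uq.exists_maximalTwoLocal hX) h46a h46b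
  -- the element `x ∈ N_S(T) ∖ T`
  obtain ⟨x, hxS, hxN, hxT⟩ := Cfsg.Agent.H39.Jz.exists_normalizer_not_mem hS2 hTS' hTS
  have hxL : x ∉ L := by
    intro hxL
    have hR : (S : Subgroup G) ⊓ L ≤ T :=
      sylIn_max hsyl (le_inf hTS' hsyl.1) inf_le_right (hS2.to_le inf_le_left)
    exact hxT (hR ⟨hxS, hxL⟩)
  -- `N_G(T)` normalizes `Z₀`
  have hNJ : ∀ n ∈ Subgroup.normalizer (T : Set G),
      ∀ v ∈ omegaCenterOf (thompsonSubgroupOf 2 T),
      n * v * n⁻¹ ∈ omegaCenterOf (thompsonSubgroupOf 2 T) := by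
    intro n hn v hv
    have hn' := Cfsg.Agent.Helper55.ThJ.normalizer_le T hn
    refine Cfsg.Agent.H32.Sr.omegaCenterOf_conj_mem _ ?_ ?_ hv
    · intro j hj
      exact (Subgroup.mem_normalizer_iff.mp hn' j).mp hj
    · intro j hj
      have h1 := (Subgroup.mem_normalizer_iff.mp (Subgroup.inv_mem _ hn') j).mp hj
      simpa using h1
  -- `Z ≤ T`, `Z ≤ Z₀`
  have hZle := Cfsg.Agent.H4.Jz.z2_omega_le (S : Subgroup G)
  have hOT : pCoreOf 2 L ≤ T := Cfsg.Agent.Helper55.J48.pCoreOf_le_of_sylowIn hsyl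
  have hZT : omegaCenterOf (S : Subgroup G) ≤ T := by
    intro y hy
    have hy' := hZle hy
    have h1 : y ∈ Subgroup.centralizer (pCoreOf 2 L : Set G) :=
      Subgroup.centralizer_le (SetLike.coe_subset_coe.mpr (hOT.trans hTS'))
        (Subgroup.mem_inf.mp hy').2
    exact hOT (Cfsg.Agent.Helper55.J48.centralizer_pCoreOf_le hL hLmax.1 h1)
  have hZZ0 : omegaCenterOf (S : Subgroup G) ≤ omegaCenterOf (thompsonSubgroupOf 2 T) := by
    intro y hy
    obtain ⟨h1, h2, h3⟩ := Cfsg.Agent.H63.Sn.mem_omegaCenterOf _ hy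
    refine Cfsg.Agent.H63.Sn.omegaCenterOf_mem _ ?_ ?_ h3
    · exact Cfsg.Agent.H4.Jz.z2_mem_J T y (hZT hy) h3
        (fun t ht => Subgroup.mem_centralizer_iff.mp h2 t (hTS' ht))
    · exact Subgroup.centralizer_le (SetLike.coe_subset_coe.mpr (hJT.trans hTS')) h2
  have hcentS : ∀ s ∈ (S : Subgroup G), ∀ z ∈ omegaCenterOf (S : Subgroup G),
      s * z * s⁻¹ = z := by
    intro s hs z hz
    have h2 := (Subgroup.mem_inf.mp (hZle hz)).2
    have h3 : s * z = z * s := Subgroup.mem_centralizer_iff.mp h2 s hs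
    rw [h3, mul_inv_cancel_right]
  have hS1 : (S : Subgroup G) ≠ ⊥ := by
    intro h0
    apply hT1
    rw [eq_bot_iff, ← h0]; exact hTS'
  have hZne := Cfsg.Agent.H4.Jz.z2_omega_ne_bot hS2 hS1
  have hZ1 : ∀ z ∈ omegaCenterOf (S : Subgroup G),
      z ∈ omegaCenterOf (thompsonSubgroupOf 2 T) ⊓ ((K ⊔ thompsonSubgroupOf 2 T) ⊓
        Subgroup.centralizer ((K ⊔ thompsonSubgroupOf 2 T : Subgroup G) : Set G)) → z = 1 := by
    intro z hz hz1
    by_contra hne1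
    obtain ⟨h1, h2, h3⟩ := Cfsg.Agent.H63.Sn.mem_omegaCenterOf _ hz
    have hzC := (Subgroup.mem_inf.mp (Subgroup.mem_inf.mp hz1).2).2
    have hU := cent_le_L _ L huniq z hne1 h3 (le_cent_singleton _ z hzC)
    have hSL : (S : Subgroup G) ≤ L := (le_cent_singleton _ z h2).trans hU
    exact hTS (le_antisymm hTS' (sylIn_max hsyl hTS' hSL hS2))
  have hcard := Cfsg.Agent.H74.Jz.card_le_two_mul
    (omegaCenterOf (thompsonSubgroupOf 2 T))
    (omegaCenterOf (thompsonSubgroupOf 2 T) ⊓ ((K ⊔ thompsonSubgroupOf 2 T) ⊓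
        Subgroup.centralizer ((K ⊔ thompsonSubgroupOf 2 T : Subgroup G) : Set G)))
    (omegaCenterOf (thompsonSubgroupOf 2 T) ⊓ wOf K)
    (by
      intro a ha b hb
      have ha' := (Cfsg.Agent.H63.Sn.mem_omegaCenterOf _ (Subgroup.mem_inf.mp ha).1).2.1
      have hb' := (Cfsg.Agent.H63.Sn.mem_omegaCenterOf _ (Subgroup.mem_inf.mp hb).1).1
      exact (Subgroup.mem_centralizer_iff.mp ha' b hb').symm)
    h46b h46a
  have hcore := Cfsg.Agent.H74.Jz.ltCore L T (omegaCenterOf (S : Subgroup G))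
    (omegaCenterOf (thompsonSubgroupOf 2 T))
    (omegaCenterOf (thompsonSubgroupOf 2 T) ⊓ ((K ⊔ thompsonSubgroupOf 2 T) ⊓
        Subgroup.centralizer ((K ⊔ thompsonSubgroupOf 2 T : Subgroup G) : Set G))) x
    inf_le_left hcard
    (by
      intro g y hy hy1 hgy
      have hy2 := (Cfsg.Agent.H63.Sn.mem_omegaCenterOf _ (Subgroup.mem_inf.mp hy).1).2.2
      exact mem_L_of_conj _ L hLmax huniq g y hy1 hy2
        (Subgroup.mem_inf.mp (Subgroup.mem_inf.mp hy).2).2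
        (Subgroup.mem_inf.mp (Subgroup.mem_inf.mp hgy).2).2)
    hxL (hNJ x hxN) (fun z hz => hcentS x hxS z hz) hsyl.1
    (fun t ht => hNJ t (Subgroup.le_normalizer ht))
    (fun t ht z hz => hcentS t (hTS' ht) z hz)
    hZZ0 hZ1 hZne
    (by
      intro y z1 hz1 hz11
      exact Cfsg.Agent.H60.Jz.no_fusion hZ S T K hT2 hKc hZ2 y z1 hz11
        (Subgroup.mem_inf.mp (Subgroup.mem_inf.mp hz1).2).2)
  rcases hcore with ⟨h1, h2⟩ | ⟨h1, h2, h3⟩
  · exact Or.inl ⟨h1, h2⟩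
  · refine Or.inr (Or.inr ⟨?_, h1, h3⟩)
    apply le_antisymm
    · intro y hy
      obtain ⟨hy1, hy2, hy3⟩ := Cfsg.Agent.H63.Sn.mem_omegaCenterOf _ hy
      refine Cfsg.Agent.H63.Sn.omegaCenterOf_mem _ ?_ ?_ hy3
      · exact Cfsg.Agent.H4.Jz.z2_mem_J T y hy1 hy3
          (fun t ht => Subgroup.mem_centralizer_iff.mp hy2 t ht)
      · exact Subgroup.centralizer_le (SetLike.coe_subset_coe.mpr hJT) hy2
    · intro v hv
      obtain ⟨hv1, hv2, hv3⟩ := Cfsg.Agent.H63.Sn.mem_omegaCenterOf _ hv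
      refine Cfsg.Agent.H63.Sn.omegaCenterOf_mem _ (hJT hv1) ?_ hv3
      rw [Subgroup.mem_centralizer_iff]
      intro t ht
      have h4 := h2 t ht v hv
      exact mul_inv_eq_iff_eq_mul.mp h4

example (h46 : St46.{u}) : Cfsg.Agent.H64.Jz.StLt.{u} := lt_of46 h46

end Cfsg.Agent.H75.Jz
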