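import Mathlib
import Cfsg.Agent.H75.NdRpP
/-!
ND-RPME (helper86's S5991 team project): `r = p`, `k` odd (`d = k + 1` even): some element of
order `p` of `Ω⁻_{2d}(q)` fixes no member of the set (nondegenerate `m`-spaces isometric to
`W₀`, `m` odd).
-/
set_option autoImplicit false

namespace Cfsg.Agent.H75.Nd

open Matrix Cfsg.Agent.H45 Cfsg.Agent.H42.Spd Cfsg.Agent.H42.Ti Cfsg.Agent.H14.Ot
  Cfsg.Agent.H95.Oh Cfsg.Agent.H86.Ev2 Cfsg.Agent.H86.Nd Module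

universe u v

/-- Cancelling a nonzero square factor. -/
theorem nd_sq_cancel {F : Type u} [Field F] {X y : F} (hy : y ≠ 0)
    (h : IsSquare (X * (y * y))) : IsSquare X := by
  obtain ⟨t, ht⟩ := h
  refine ⟨t / y, ?_⟩
  field_simp
  linear_combination ht

/-- `ν E` and `E ≠ 0` squares give `ν` a square. -/
theorem nd_sq_div {F : Type u} [Field F] {ν E : F} (hE0 : E ≠ 0) (hE : IsSquare E)
    (h : IsSquare (ν * E)) : IsSquare ν := by
  obtain ⟨e, he⟩ := hE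
  obtain ⟨s, hs⟩ := h
  have he0 : e ≠ 0 := by
    rintro rfl
    rw [mul_zero] at he
    exact hE0 he
  refine ⟨s / e, ?_⟩
  field_simp
  linear_combination hs - ν * he

/-- The orthogonal complement of a nondegenerate subspace of a nondegenerate space is
nondegenerate. -/
theorem nd_perp_nd {F : Type u} [Field F] {V : Type v} [AddCommGroup V] [Module F V]
    [FiniteDimensional F V] (B : V →ₗ[F] V →ₗ[F] F) (hsym : ∀ x y, B x y = B y x)
    (hnd : ∀ x, (∀ y, B x y = 0) → x = 0) (W : Submodule F V) (hW : W ⊓ perp B W = ⊥) :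
    perp B W ⊓ perp B (perp B W) = ⊥ := by
  rw [eq_bot_iff]
  intro y hy
  obtain ⟨hy1, hy2⟩ := Submodule.mem_inf.mp hy
  rw [Submodule.mem_bot]
  apply hnd
  intro x
  have hc := Cfsg.Agent.H91.Ev2.isCompl_perp' B W hW
  have hx : x ∈ W ⊔ perp B W := by
    rw [hc.sup_eq_top]; exact Submodule.mem_top
  obtain ⟨a, ha, b, hb, rfl⟩ := Submodule.mem_sup.mp hx
  rw [hsym, map_add, LinearMap.add_apply, (mem_perp B W y).mp hy1 a ha,
    (mem_perp B (perp B W) y).mp hy2 b hb, add_zero]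

/-- A `Q`-isometry between subspaces preserves the bilinear form of a bridge. -/
theorem nd_iso_B {F : Type u} [Field F] {ι : Type} [Fintype ι] [DecidableEq ι]
    {Q : QuadraticForm F (ι → F)} {B : (ι → F) →ₗ[F] (ι → F) →ₗ[F] F} (hB : Bridge Q B)
    (W W' : Submodule F (ι → F)) (e : ↥W ≃ₗ[F] ↥W')
    (he : ∀ w : ↥W, Q ((e w : ↥W') : ι → F) = Q (w : ι → F)) (x y : ↥W) :
    B ((e x : ↥W') : ι → F) ((e y : ↥W') : ι → F) = B (x : ι → F) (y : ι → F) := by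
  rw [hB.pol, hB.pol]
  simp only [QuadraticMap.polar]
  have h := he (x + y)
  rw [map_add] at h
  simp only [Submodule.coe_add] at h
  rw [h, he x, he y]

/-- ND-RPME. -/
theorem rpMEven (hO : StUniOmega.{u}) (h4 : StUex4M.{u}) (hA : StUnip4A.{u, u})
    (hB4 : StUnip4B.{u, u}) (hD : StDiscPerp.{u, u}) : StRpMEven.{u} := by
  intro F _ _ p _ _ k m a b hp hab hko hk hmo hmk W₀ hW₀
  have h2F : (2 : F) ≠ 0 := nd_two_ne_zero F p hp
  obtain ⟨B, hB, -⟩ := brM_bridge fin_brM F k a b h2F hab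
  have hfin := finrank_minus F k
  obtain ⟨v₀, hv₀, hv₀W⟩ := hB.exists_ortho fin_ortho h2F m W₀ hW₀
  have hTopNd : (⊤ : Submodule F (MI k → F)) ⊓ perp B ⊤ = ⊥ := by
    rw [eq_bot_iff]
    intro y hy
    rw [Submodule.mem_bot]
    apply hB.nd
    intro x
    rw [hB.symm]
    exact (mem_perp B ⊤ y).mp (Submodule.mem_inf.mp hy).2 x Submodule.mem_top
  obtain ⟨u, -, huo, hun, huT⟩ := fin_ortho F (MI k → F) B h2F hB.symm ⊤ hTopNd
  obtain ⟨δ₀, hδ₀⟩ : ∃ δ₀ : F, δ₀ = ∏ a, B (v₀ a) (v₀ a) := ⟨_, rfl⟩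
  obtain ⟨D, hDd⟩ : ∃ D : F, D = ∏ a, B (u a) (u a) := ⟨_, rfl⟩
  have hδ₀0 : δ₀ ≠ 0 := by
    rw [hδ₀]; exact Finset.prod_ne_zero_iff.mpr fun a _ => hv₀.2 a
  have hD0 : D ≠ 0 := by
    rw [hDd]; exact Finset.prod_ne_zero_iff.mpr fun a _ => hun a
  obtain ⟨ν, hν⟩ := FiniteField.exists_nonsquare (F := F) (by rw [ringChar.eq F p]; exact hp)
  have hν0 : ν ≠ 0 := by
    rintro rfl
    exact hν ⟨0, by simp⟩
  have hm4 : m % 4 = 1 ∨ m % 4 = 3 := by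
    obtain ⟨j, hj⟩ := hmo
    omega
  obtain ⟨α, hα0, hα⟩ : ∃ α : F, α ≠ 0 ∧
      ((α = 2 * ν * δ₀ ∧ m % 4 = 1) ∨ (α = 2 * ν * δ₀ * D ∧ m % 4 = 3)) := by
    rcases hm4 with h | h
    · exact ⟨2 * ν * δ₀, mul_ne_zero (mul_ne_zero h2F hν0) hδ₀0, Or.inl ⟨rfl, h⟩⟩
    · exact ⟨2 * ν * δ₀ * D, mul_ne_zero (mul_ne_zero (mul_ne_zero h2F hν0) hδ₀0) hD0,
        Or.inr ⟨rfl, h⟩⟩
  obtain ⟨x, hx, hN3, hrk2, hrk, p₀, hp₀fix, hp₀Q, hp₀sq⟩ := h4 F k a b α h2F hab hko hα0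
  have hx1 : x ≠ 1 := by
    rintro rfl
    rw [nd_rank_one_sq] at hrk2
    omega
  obtain ⟨hxΩ, hxp, hxs⟩ := hO F p _ (Cfsg.Agent.H49.QMin k F a b) hp hB.polar_nd x hx hN3 hx1
  refine ⟨x, hxΩ, hxp, hxs, ?_⟩
  rintro W ⟨hWm, hWnd', hWiso⟩ hWinv
  have hWnd := (hB.ndW W).mp hWnd'
  have hinv := (map_le_iff_invt _ _).mp hWinv
  have hTiso := (hB.iso x).mp hx
  obtain ⟨w, hw, hwW⟩ := hB.exists_ortho fin_ortho h2F m W ⟨hWm, hWnd'⟩
  obtain ⟨dw, hdw⟩ : ∃ dw : F, dw = ∏ a, B (w a) (w a) := ⟨_, rfl⟩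
  have hdw0 : dw ≠ 0 := by
    rw [hdw]; exact Finset.prod_ne_zero_iff.mpr fun a _ => hw.2 a
  have hcmp : IsSquare (dw * δ₀) := by
    obtain ⟨e, he⟩ := hWiso
    rw [hdw, hδ₀]
    refine fin_discInv F _ B hB.symm m w v₀ hw hv₀
      ⟨(LinearEquiv.ofEq _ _ hwW).trans (e.trans (LinearEquiv.ofEq _ _ hv₀W.symm)), ?_⟩
    intro x y
    exact nd_iso_B hB W W₀ e he (LinearEquiv.ofEq _ _ hwW x) (LinearEquiv.ofEq _ _ hwW y)
  obtain ⟨q₀, hq₀⟩ : ∃ q₀ : F, q₀ = Cfsg.quadFormMinus k F a b p₀ := ⟨_, rfl⟩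
  rw [← hq₀] at hp₀Q hp₀sq
  have hp₀B : B p₀ p₀ = 2 * q₀ := by
    rw [hq₀]; exact hB.diag p₀
  have hp₀B0 : B p₀ p₀ ≠ 0 := by
    rw [hp₀B]; exact mul_ne_zero h2F hp₀Q
  have hVmod : finrank F (MI k → F) % 4 = 0 := by
    rw [hfin]
    obtain ⟨j, hj⟩ := hko
    omega
  have hrk' : 2 * finrank F ↥(LinearMap.range
      (Matrix.toLin' (x : Matrix (MI k) (MI k) F) - 1)) = finrank F (MI k → F) := by
    rw [hfin, hrk]; ring
  rcases hα with ⟨rfl, hm1⟩ | ⟨rfl, hm3⟩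
  · -- `m ≡ 1 (mod 4)`
    obtain ⟨v, c, U, hvW, hc0, hvv, hUW, hUTI, hUv, hUdim, hUev⟩ := hA F _ B _ h2F hB.symm
      hB.nd hTiso hN3 hrk2 hrk' hVmod p₀ hp₀fix hp₀B0 W hinv hWnd (by rw [hWm]; exact hm1)
    have hvv0 : B v v ≠ 0 := by
      rw [hvv]; exact mul_ne_zero (mul_ne_zero hc0 hc0) hp₀B0
    have h1 := hB4 F _ B h2F hB.symm W v U hWnd hvW hvv0 hUW hUTI hUv hUdim hUev m w hw hwW
    rw [← hdw, hvv, hp₀B] at h1
    apply hν
    have hE : IsSquare (2 * q₀ * δ₀) := by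
      apply nd_sq_cancel (y := c * dw) (mul_ne_zero hc0 hdw0)
      have := h1.mul hcmp
      have e : 2 * q₀ * δ₀ * (c * dw * (c * dw)) = c * c * (2 * q₀) * dw * (dw * δ₀) := by ring
      rw [e]
      exact this
    refine nd_sq_div (mul_ne_zero (mul_ne_zero h2F hp₀Q) hδ₀0) hE ?_
    have e : ν * (2 * q₀ * δ₀) = 2 * ν * δ₀ * q₀ := by ring
    rw [e]
    exact hp₀sq
  · -- `m ≡ 3 (mod 4)`
    have hW'nd : perp B W ⊓ perp B (perp B W) = ⊥ := nd_perp_nd B hB.symm hB.nd W hWnd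
    have hN3z : ∀ z, (Matrix.toLin' (x : Matrix (MI k) (MI k) F) - 1)
        ((Matrix.toLin' (x : Matrix (MI k) (MI k) F) - 1)
          ((Matrix.toLin' (x : Matrix (MI k) (MI k) F) - 1) z)) = 0 := by
      intro z
      have h := LinearMap.congr_fun hN3 z
      rw [pow_succ, pow_two] at h
      simp only [Module.End.mul_apply, LinearMap.zero_apply] at h
      exact h
    have hWT : ∀ y ∈ W, Matrix.toLin' (x : Matrix (MI k) (MI k) F) y ∈ W :=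
      fun y hy => (Module.End.mem_invtSubmodule _).mp hinv hy
    have hWN : ∀ y ∈ W, (Matrix.toLin' (x : Matrix (MI k) (MI k) F) - 1) y ∈ W := by
      intro y hy
      rw [LinearMap.sub_apply, Module.End.one_apply]
      exact W.sub_mem (hWT y hy) hy
    have hW'N := Cfsg.Agent.H91.Ev2.perp_inv B _ hB.symm hTiso hN3z W hWN
    have hW'inv : perp B W ∈
        Module.End.invtSubmodule (Matrix.toLin' (x : Matrix (MI k) (MI k) F)) := by
      rw [Module.End.mem_invtSubmodule]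
      intro y hy
      have h := (perp B W).add_mem (hW'N y hy) hy
      rw [LinearMap.sub_apply, Module.End.one_apply, sub_add_cancel] at h
      exact h
    have hc := Cfsg.Agent.H91.Ev2.isCompl_perp' B W hWnd
    have hdimW' : finrank F ↥(perp B W) % 4 = 1 := by
      have : finrank F ↥W + finrank F ↥(perp B W) = finrank F (MI k → F) :=
        Submodule.finrank_add_eq_of_isCompl hc
      rw [hWm, hfin] at this
      obtain ⟨j, hj⟩ := hko
      omega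
    obtain ⟨w', -, hw'o, hw'n, hw'W⟩ := fin_ortho F _ B h2F hB.symm (perp B W) hW'nd
    obtain ⟨dw', hdw'⟩ : ∃ dw' : F, dw' = ∏ a, B (w' a) (w' a) := ⟨_, rfl⟩
    have hdw'0 : dw' ≠ 0 := by
      rw [hdw']; exact Finset.prod_ne_zero_iff.mpr fun a _ => hw'n a
    obtain ⟨v, c, U, hvW, hc0, hvv, hUW, hUTI, hUv, hUdim, hUev⟩ := hA F _ B _ h2F hB.symm
      hB.nd hTiso hN3 hrk2 hrk' hVmod p₀ hp₀fix hp₀B0 (perp B W) hW'inv hW'nd hdimW'
    have hvv0 : B v v ≠ 0 := by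
      rw [hvv]; exact mul_ne_zero (mul_ne_zero hc0 hc0) hp₀B0
    have h1 := hB4 F _ B h2F hB.symm (perp B W) v U hW'nd hvW hvv0 hUW hUTI hUv hUdim hUev _ w'
      ⟨hw'o, hw'n⟩ hw'W
    have h2 := hD F _ B hB.symm hB.nd W hWnd m w hw hwW _ w' ⟨hw'o, hw'n⟩ hw'W _ u
      ⟨huo, hun⟩ huT
    rw [← hdw', hvv, hp₀B] at h1
    rw [← hdw, ← hdw', ← hDd] at h2
    apply hν
    have hE : IsSquare (2 * q₀ * δ₀ * D) := by
      apply nd_sq_cancel (y := c * dw * dw') (mul_ne_zero (mul_ne_zero hc0 hdw0) hdw'0)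
      have := (h1.mul hcmp).mul h2
      have e : 2 * q₀ * δ₀ * D * (c * dw * dw' * (c * dw * dw')) =
          c * c * (2 * q₀) * dw' * (dw * δ₀) * (dw * dw' * D) := by ring
      rw [e]
      exact this
    refine nd_sq_div (mul_ne_zero (mul_ne_zero (mul_ne_zero h2F hp₀Q) hδ₀0) hD0) hE ?_
    have e : ν * (2 * q₀ * δ₀ * D) = 2 * ν * δ₀ * D * q₀ := by ring
    rw [e]
    exact hp₀sq

example (hO : StUniOmega.{u}) (h4 : StUex4M.{u}) (hA : StUnip4A.{u, u})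
    (hB4 : StUnip4B.{u, u}) (hD : StDiscPerp.{u, u}) : StRpMEven.{u} :=
  rpMEven hO h4 hA hB4 hD

end Cfsg.Agent.H75.Nd
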