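import Mathlib
import Cfsg.Agent.H91.SMDefs
import Cfsg.Agent.H6.SLGen

set_option autoImplicit false

/-! S2086 piece STEM (helper75 for helper91): `SL_n(F) → PSL_n(F)` is a stem extension with kernel
cyclic of order `gcd(n, q - 1)`. -/

namespace Cfsg.Agent.H75.SM

open Matrix Subgroup Cfsg.Agent.H91.SM

universe u

theorem exists_sq_ne_one {F : Type u} [Field F] [Fintype F] (hF : 4 ≤ Fintype.card F) :
    ∃ a : F, a ≠ 0 ∧ a ^ 2 ≠ 1 := by
  classical
  by_contra hcon
  push Not at hcon
  have hsub : (Finset.univ : Finset F) ⊆ {0, 1, -1} := by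
    intro x _
    by_cases hx : x = 0
    · simp [hx]
    · have h1 := hcon x hx
      have h2 : (x - 1) * (x + 1) = 0 := by linear_combination h1
      rcases mul_eq_zero.mp h2 with h3 | h3
      · have : x = 1 := by linear_combination h3
        simp [this]
      · have : x = -1 := by linear_combination h3
        simp [this]
  have h2 := Finset.card_le_card hsub
  rw [Finset.card_univ] at h2
  have h3 : ({0, 1, -1} : Finset F).card ≤ 3 := Finset.card_le_three
  omega

theorem sl_perfect {F : Type u} [Field F] [Fintype F] (n : ℕ) (hn : 2 ≤ n)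
    (h2 : n = 2 → 4 ≤ Fintype.card F) : commutator (SLn n F) = ⊤ := by
  by_cases h3 : 3 ≤ n
  · exact Cfsg.Agent.H6.commutator_sl_eq_top n h3
  · obtain rfl : n = 2 := by omega
    obtain ⟨a, ha, hasq⟩ := exists_sq_ne_one (h2 rfl)
    exact Matrix.SL2.commutator_eq_top ha hasq

theorem cyclic_equiv_zmod {G : Type u} [Group G] [IsCyclic G] (m : ℕ) (hm : Nat.card G = m) :
    Nonempty (G ≃* Multiplicative (ZMod m)) := by
  subst hm
  exact ⟨(zmodCyclicMulEquiv (inferInstance : IsCyclic G)).symm⟩

theorem card_rootsOfUnity_ff {F : Type u} [Field F] [Fintype F] (k : ℕ) :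
    Nat.card (rootsOfUnity k F) = Nat.gcd k (Fintype.card F - 1) := by
  have h1 : Nat.card (powMonoidHom k : Fˣ →* Fˣ).ker = (Nat.card Fˣ).gcd k :=
    IsCyclic.card_powMonoidHom_ker Fˣ k
  have h2 : Nat.card Fˣ = Fintype.card F - 1 := by
    rw [Nat.card_units, Nat.card_eq_fintype_card]
  have h3 : Nat.card (rootsOfUnity k F) = Nat.card (powMonoidHom k : Fˣ →* Fˣ).ker := by
    apply Nat.card_congr
    apply Equiv.subtypeEquivRight
    intro ω
    rw [MonoidHom.mem_ker, powMonoidHom_apply, mem_rootsOfUnity]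
  rw [h3, h1, h2, Nat.gcd_comm]

theorem roots_equiv {F : Type u} [Field F] [Fintype F] (n k : ℕ) (hk : k = n) :
    Nonempty (rootsOfUnity k F ≃* Multiplicative (ZMod (Nat.gcd n (Fintype.card F - 1)))) := by
  subst hk
  have : IsCyclic (rootsOfUnity k F) := Subgroup.isCyclic _
  exact cyclic_equiv_zmod _ (card_rootsOfUnity_ff k)

/-- **S2086-STEM.** -/
theorem stem : StemStmt.{u} := by
  intro F _ _ n hn h2
  refine ⟨⟨QuotientGroup.mk'_surjective _, ?_, ?_⟩, ?_⟩
  · rw [QuotientGroup.ker_mk']
  · rw [sl_perfect n hn h2]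
    exact le_top
  · obtain ⟨e⟩ := roots_equiv (F := F) n (max (Fintype.card (Fin n)) 1)
      (by rw [Fintype.card_fin]; omega)
    exact ⟨((MulEquiv.subgroupCongr (QuotientGroup.ker_mk' (center (SLn n F)))).trans
      Matrix.SpecialLinearGroup.center_equiv_rootsOfUnity).trans e⟩

end Cfsg.Agent.H75.SM
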