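import Mathlib
import Cfsg.Agent.H48.SPCDefs

/-!
# helper75: piece SPC-KEY of S2676 (helper48's project)

The number of `Sp`-classes of Jordan type `d`, from the class–orbit correspondence (`ClsStmt`)
and the complete surjective invariant (`CountStmt`).
-/

set_option autoImplicit false

namespace Cfsg.Agent.H75.SPC

open Finset Cfsg.Agent.H61 Cfsg.Agent.H48.SPC

universe u

theorem two_ne_zero_of_char {F : Type u} [Field F] (p : ℕ) [Fact p.Prime] [CharP F p]
    (hp : p ≠ 2) : (2 : F) ≠ 0 := by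
  intro h
  have h2 : ((2 : ℕ) : F) = 0 := by exact_mod_cast h
  rw [CharP.cast_eq_zero_iff F p 2] at h2
  rcases (Nat.prime_two.eq_one_or_self_of_dvd p h2) with h3 | h3
  · exact (Fact.out : p.Prime).one_lt.ne' h3
  · exact hp h3

/-- Two maps with the same fibres relation, the second one onto: the range of the first has the
cardinality of the codomain of the second. -/
theorem card_range_of_same_rel {α β γ : Type*} (Ψ : α → β) (Φ : α → γ) (R : α → α → Prop)
    (hΨ : ∀ a a', Ψ a = Ψ a' ↔ R a a') (hΦ : ∀ a a', Φ a = Φ a' ↔ R a a')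
    (hsurj : Function.Surjective Φ) : Nat.card (Set.range Ψ) = Nat.card γ := by
  classical
  let f : Set.range Ψ → γ := fun C => Φ (Classical.choose C.2)
  have hf : ∀ C : Set.range Ψ, Ψ (Classical.choose C.2) = C.1 := fun C => Classical.choose_spec C.2
  apply Nat.card_eq_of_bijective f
  constructor
  · intro C C' h
    apply Subtype.ext
    rw [← hf C, ← hf C']
    exact (hΨ _ _).mpr ((hΦ _ _).mp h)
  · intro b
    obtain ⟨a, rfl⟩ := hsurj b
    refine ⟨⟨Ψ a, a, rfl⟩, ?_⟩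
    exact (hΦ _ _).mpr ((hΨ _ _).mp (hf ⟨Ψ a, a, rfl⟩))

theorem key (hCls : ClsStmt.{u}) (hCount : CountStmt.{u}) : KeyStmt.{u} := by
  intro F _ _ p _ _ hp m t d hd e hpar
  have h2 : (2 : F) ≠ 0 := two_ne_zero_of_char (F := F) p hp
  obtain ⟨Ψ, hΨ1, hΨ2⟩ := hCls h2 d e
  obtain ⟨Φ, hΦ1, hΦ2⟩ := hCount (F := F) p hp d hd hpar
  have e1 : Nat.card {C : ConjClasses ↥(Matrix.symplecticGroup (Fin m) F) //
      ∃ g : ↥(Matrix.symplecticGroup (Fin m) F), ConjClasses.mk g = C ∧ ∀ k : ℕ,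
        (((g : Matrix (Fin m ⊕ Fin m) (Fin m ⊕ Fin m) F) - 1) ^ k).rank = ∑ i, (d i - k)}
      = Nat.card (Set.range Ψ) :=
    Nat.card_congr (Equiv.subtypeEquivRight (fun C => (hΨ2 C).symm))
  rw [e1, card_range_of_same_rel Ψ Φ (fun A A' => OrbRel d A.1 A'.1) hΨ1 hΦ1 hΦ2,
    Nat.card_fun, Nat.card_eq_fintype_card (α := Bool), Fintype.card_bool,
    Nat.card_eq_fintype_card, Fintype.card_coe]

example (hCls : ClsStmt.{u}) (hCount : CountStmt.{u}) : Cfsg.Agent.H48.SPC.KeyStmt.{u} :=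
  key hCls hCount

end Cfsg.Agent.H75.SPC
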