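import Mathlib
import Cfsg.Prelude.Def_AxialAlgebras

set_option autoImplicit false

namespace Cfsg.Agent.H75.Sak

open Cfsg.Axial

variable {V : Type*} [AddCommGroup V] [Module ℝ V]

/-- Splitting of the whole space: every vector is a sum of a vector of the `{1,0,1/4}`-part and a
`1/32`-eigenvector. -/
theorem exists_split (mul : V →ₗ[ℝ] V →ₗ[ℝ] V) (B : LinearMap.BilinForm ℝ V) (μ : V ≃ₗ[ℝ] V) (a : V)
    (h : IsMajoranaPair mul B μ a) (x : V) :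
    ∃ p w : V, p ∈ eigenSum mul a {1, 0, 1 / 4} ∧ w ∈ eigen mul a (1 / 32) ∧ x = p + w := by
  obtain ⟨-, -, ⟨⟨-, -, htop, -⟩, -⟩, -, -⟩ := h
  have hmem : x ∈ eigenSum mul a majoranaSpectrum := by rw [htop]; trivial
  unfold eigenSum majoranaSpectrum at hmem
  rw [iSup_insert, iSup_insert, iSup_insert, iSup_singleton] at hmem
  rw [Submodule.mem_sup] at hmem
  obtain ⟨w1, hw1, w', hw', hsum1⟩ := hmem
  rw [Submodule.mem_sup] at hw'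
  obtain ⟨u, hu, w'', hw'', hsum2⟩ := hw'
  rw [Submodule.mem_sup] at hw''
  obtain ⟨v, hv, wt, hwt, hsum3⟩ := hw''
  have hS1 : eigen mul a 1 ≤ eigenSum mul a {1, 0, 1 / 4} :=
    le_biSup (fun c => eigen mul a c) (by simp)
  have hS0 : eigen mul a 0 ≤ eigenSum mul a {1, 0, 1 / 4} :=
    le_biSup (fun c => eigen mul a c) (by simp)
  have hSq : eigen mul a (1 / 4) ≤ eigenSum mul a {1, 0, 1 / 4} :=
    le_biSup (fun c => eigen mul a c) (by simp)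
  refine ⟨w1 + u + v, wt, ?_, hwt, ?_⟩
  · exact Submodule.add_mem _ (Submodule.add_mem _ (hS1 hw1) (hS0 hu)) (hSq hv)
  · rw [← hsum1, ← hsum2, ← hsum3]; abel

/-- A Majorana involution is determined by its axial vector. -/
theorem mu_unique (mul : V →ₗ[ℝ] V →ₗ[ℝ] V) (B : LinearMap.BilinForm ℝ V) (μ μ' : V ≃ₗ[ℝ] V) (a : V)
    (h : IsMajoranaPair mul B μ a) (h' : IsMajoranaPair mul B μ' a) : μ = μ' := by
  ext x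
  obtain ⟨p, w, hp, hw, rfl⟩ := exists_split mul B μ a h x
  have e1 : μ p = p := h.2.2.2.1 p hp
  have e2 : μ w = -w := h.2.2.2.2 w hw
  have e1' : μ' p = p := h'.2.2.2.1 p hp
  have e2' : μ' w = -w := h'.2.2.2.2 w hw
  rw [map_add, map_add, e1, e2, e1', e2']

/-- A Majorana involution is an involution. -/
theorem mu_sq (mul : V →ₗ[ℝ] V →ₗ[ℝ] V) (B : LinearMap.BilinForm ℝ V) (μ : V ≃ₗ[ℝ] V) (a : V)
    (h : IsMajoranaPair mul B μ a) : μ * μ = 1 := by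
  ext x
  obtain ⟨p, w, hp, hw, rfl⟩ := exists_split mul B μ a h x
  have e1 : μ p = p := h.2.2.2.1 p hp
  have e2 : μ w = -w := h.2.2.2.2 w hw
  show μ (μ (p + w)) = p + w
  rw [map_add, e1, e2, map_add, e1, map_neg, e2, neg_neg]

theorem mu_inv (mul : V →ₗ[ℝ] V →ₗ[ℝ] V) (B : LinearMap.BilinForm ℝ V) (μ : V ≃ₗ[ℝ] V) (a : V)
    (h : IsMajoranaPair mul B μ a) : μ⁻¹ = μ :=
  inv_eq_of_mul_eq_one_right (mu_sq mul B μ a h)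

/-- The axial vector is fixed by its involution. -/
theorem mu_axis (mul : V →ₗ[ℝ] V →ₗ[ℝ] V) (B : LinearMap.BilinForm ℝ V) (μ : V ≃ₗ[ℝ] V) (a : V)
    (h : IsMajoranaPair mul B μ a) : μ a = a := by
  have hS1 : eigen mul a 1 ≤ eigenSum mul a {1, 0, 1 / 4} :=
    le_biSup (fun c => eigen mul a c) (by simp)
  have ha1 : a ∈ eigen mul a 1 := by
    show a ∈ Module.End.eigenspace (mul a) 1
    rw [Module.End.mem_eigenspace_iff, h.2.2.1.1.2.1, one_smul]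
  exact h.2.2.2.1 a (hS1 ha1)

theorem mem_eigen_map' (mul : V →ₗ[ℝ] V →ₗ[ℝ] V) (σ : V ≃ₗ[ℝ] V)
    (hσ : ∀ u v : V, σ (mul u v) = mul (σ u) (σ v))
    (a : V) (c : ℝ) (w : V) : w ∈ eigen mul (σ a) c ↔ σ.symm w ∈ eigen mul a c := by
  show w ∈ Module.End.eigenspace (mul (σ a)) c ↔ σ.symm w ∈ Module.End.eigenspace (mul a) c
  rw [Module.End.mem_eigenspace_iff, Module.End.mem_eigenspace_iff]
  constructor
  · intro h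
    apply σ.injective
    rw [hσ, LinearEquiv.apply_symm_apply, map_smul, LinearEquiv.apply_symm_apply, h]
  · intro h
    have h2 := congrArg σ h
    rw [hσ, LinearEquiv.apply_symm_apply, map_smul, LinearEquiv.apply_symm_apply] at h2
    exact h2

theorem eigen_map' (mul : V →ₗ[ℝ] V →ₗ[ℝ] V) (σ : V ≃ₗ[ℝ] V)
    (hσ : ∀ u v : V, σ (mul u v) = mul (σ u) (σ v))
    (a : V) (c : ℝ) : eigen mul (σ a) c = (eigen mul a c).map (σ : V →ₗ[ℝ] V) := by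
  ext w
  rw [Submodule.mem_map_equiv]
  exact mem_eigen_map' mul σ hσ a c w

theorem eigenSum_map' (mul : V →ₗ[ℝ] V →ₗ[ℝ] V) (σ : V ≃ₗ[ℝ] V)
    (hσ : ∀ u v : V, σ (mul u v) = mul (σ u) (σ v))
    (a : V) (S : Set ℝ) : eigenSum mul (σ a) S = (eigenSum mul a S).map (σ : V →ₗ[ℝ] V) := by
  unfold eigenSum
  rw [Submodule.map_iSup]
  congr 1
  funext c
  rw [Submodule.map_iSup]
  congr 1
  funext _
  exact eigen_map' mul σ hσ a c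

/-- Transport of a Majorana pair along an automorphism of the algebra preserving the form:
`(σ μ σ⁻¹, σ a)` is again a Majorana pair. -/
theorem pair_conj (mul : V →ₗ[ℝ] V →ₗ[ℝ] V) (B : LinearMap.BilinForm ℝ V) (μ σ : V ≃ₗ[ℝ] V) (a : V)
    (h : IsMajoranaPair mul B μ a) (hσ : ∀ u v : V, σ (mul u v) = mul (σ u) (σ v))
    (hσB : ∀ u v : V, B (σ u) (σ v) = B u v) : IsMajoranaPair mul B (σ * μ * σ⁻¹) (σ a) := by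
  obtain ⟨hμm, hμB, ⟨⟨hne, hidem, htop, hfus⟩, hprim⟩, hfix, hneg⟩ := h
  have hσs : ∀ u v : V, σ.symm (mul u v) = mul (σ.symm u) (σ.symm v) := by
    intro u v
    apply σ.injective
    rw [hσ, LinearEquiv.apply_symm_apply, LinearEquiv.apply_symm_apply, LinearEquiv.apply_symm_apply]
  have hσsB : ∀ u v : V, B (σ.symm u) (σ.symm v) = B u v := by
    intro u v
    have := hσB (σ.symm u) (σ.symm v)
    rw [LinearEquiv.apply_symm_apply, LinearEquiv.apply_symm_apply] at this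
    exact this.symm
  have happ : ∀ w : V, (σ * μ * σ⁻¹) w = σ (μ (σ.symm w)) := fun w => rfl
  refine ⟨?_, ?_, ⟨⟨?_, ?_, ?_, ?_⟩, ?_⟩, ?_, ?_⟩
  · intro u v
    rw [happ, happ, happ, hσs, hμm, hσ]
  · intro u v
    rw [happ, happ, hσB, hμB, hσsB]
  · exact (LinearEquiv.map_ne_zero_iff σ).mpr hne
  · rw [← hσ, hidem]
  · rw [eigenSum_map' mul σ hσ, htop, Submodule.map_top]
    exact LinearEquiv.range σ
  · intro c hcS d hdS u hu v hv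
    rw [eigenSum_map' mul σ hσ, Submodule.mem_map_equiv, hσs]
    exact hfus c hcS d hdS _ ((mem_eigen_map' mul σ hσ a c u).mp hu) _
      ((mem_eigen_map' mul σ hσ a d v).mp hv)
  · rw [eigen_map' mul σ hσ, hprim, Submodule.map_span, Set.image_singleton]
    rfl
  · intro v hv
    rw [eigenSum_map' mul σ hσ, Submodule.mem_map_equiv] at hv
    have h1 : μ (σ.symm v) = σ.symm v := hfix _ hv
    show σ (μ (σ.symm v)) = v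
    rw [h1, LinearEquiv.apply_symm_apply]
  · intro v hv
    rw [mem_eigen_map' mul σ hσ] at hv
    have h1 : μ (σ.symm v) = -σ.symm v := hneg _ hv
    show σ (μ (σ.symm v)) = -v
    rw [h1, map_neg, LinearEquiv.apply_symm_apply]

/-- If an automorphism `σ` maps the axis `a` to the axis `b`, it conjugates the involution of `a`
to that of `b`. -/
theorem conj_eq (mul : V →ₗ[ℝ] V →ₗ[ℝ] V) (B : LinearMap.BilinForm ℝ V) (μ ν σ : V ≃ₗ[ℝ] V) (a b : V)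
    (h : IsMajoranaPair mul B μ a) (hb : IsMajoranaPair mul B ν b)
    (hσ : ∀ u v : V, σ (mul u v) = mul (σ u) (σ v))
    (hσB : ∀ u v : V, B (σ u) (σ v) = B u v) (hab : σ a = b) : σ * μ * σ⁻¹ = ν := by
  have h1 := pair_conj mul B μ σ a h hσ hσB
  rw [hab] at h1
  exact mu_unique mul B _ _ b h1 hb

/-- Two vectors of squared length one with inner product one coincide. -/
theorem eq_of_form_one (B : LinearMap.BilinForm ℝ V) (hsymm : ∀ u v : V, B u v = B v u)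
    (hpos : ∀ u : V, u ≠ 0 → 0 < B u u) (a b : V) (ha : B a a = 1) (hb : B b b = 1)
    (hab : B a b = 1) : a = b := by
  by_contra hne
  have h0 : a - b ≠ 0 := sub_ne_zero.mpr hne
  have h1 := hpos _ h0
  have h2 : B (a - b) (a - b) = B a a - B a b - B b a + B b b := by
    simp only [map_sub, LinearMap.sub_apply]; ring
  rw [h2, hsymm b a, ha, hb, hab] at h1
  norm_num at h1

section words

variable (mul : V →ₗ[ℝ] V →ₗ[ℝ] V) (B : LinearMap.BilinForm ℝ V) (μ₀ μ₁ : V ≃ₗ[ℝ] V) (a₀ a₁ : V)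

theorem order_one (h₀ : IsMajoranaPair mul B μ₀ a₀) (h₁ : IsMajoranaPair mul B μ₁ a₁)
    (h : a₁ = a₀) : (μ₀ * μ₁) ^ 1 = 1 := by
  subst h
  rw [pow_one, mu_unique mul B μ₀ μ₁ a₁ h₀ h₁]
  exact mu_sq mul B μ₁ a₁ h₁

theorem order_two (h₀ : IsMajoranaPair mul B μ₀ a₀) (h₁ : IsMajoranaPair mul B μ₁ a₁)
    (h : μ₁ a₀ = a₀) : (μ₀ * μ₁) ^ 2 = 1 := by
  have i0 := mu_inv mul B μ₀ a₀ h₀
  have i1 := mu_inv mul B μ₁ a₁ h₁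
  have s0 := mu_sq mul B μ₀ a₀ h₀
  have key := conj_eq mul B μ₀ μ₀ μ₁ a₀ a₀ h₀ h₀ h₁.1 h₁.2.1 h
  have e : (μ₀ * μ₁) ^ 2 = μ₀ * (μ₁ * μ₀ * μ₁⁻¹) := by
    rw [i1]; simp only [pow_succ, pow_zero, one_mul, mul_assoc]
  rw [e, key, s0]

theorem order_three (h₀ : IsMajoranaPair mul B μ₀ a₀) (h₁ : IsMajoranaPair mul B μ₁ a₁)
    (h : μ₁ (μ₀ a₁) = a₀) : (μ₀ * μ₁) ^ 3 = 1 := by
  have i0 := mu_inv mul B μ₀ a₀ h₀
  have i1 := mu_inv mul B μ₁ a₁ h₁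
  have s0 := mu_sq mul B μ₀ a₀ h₀
  have hm : ∀ u v : V, (μ₁ * μ₀) (mul u v) = mul ((μ₁ * μ₀) u) ((μ₁ * μ₀) v) := by
    intro u v
    show μ₁ (μ₀ (mul u v)) = mul (μ₁ (μ₀ u)) (μ₁ (μ₀ v))
    rw [h₀.1, h₁.1]
  have hB : ∀ u v : V, B ((μ₁ * μ₀) u) ((μ₁ * μ₀) v) = B u v := by
    intro u v
    show B (μ₁ (μ₀ u)) (μ₁ (μ₀ v)) = B u v
    rw [h₁.2.1, h₀.2.1]
  have key := conj_eq mul B μ₁ μ₀ (μ₁ * μ₀) a₁ a₀ h₁ h₀ hm hB h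
  have e : (μ₀ * μ₁) ^ 3 = μ₀ * ((μ₁ * μ₀) * μ₁ * (μ₁ * μ₀)⁻¹) := by
    rw [mul_inv_rev, i1, i0]; simp only [pow_succ, pow_zero, one_mul, mul_assoc]
  rw [e, key, s0]

theorem order_four (h₀ : IsMajoranaPair mul B μ₀ a₀) (h₁ : IsMajoranaPair mul B μ₁ a₁)
    (h : μ₁ (μ₀ (μ₁ a₀)) = a₀) : (μ₀ * μ₁) ^ 4 = 1 := by
  have i0 := mu_inv mul B μ₀ a₀ h₀
  have i1 := mu_inv mul B μ₁ a₁ h₁
  have s0 := mu_sq mul B μ₀ a₀ h₀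
  have hm : ∀ u v : V, (μ₁ * μ₀ * μ₁) (mul u v) = mul ((μ₁ * μ₀ * μ₁) u) ((μ₁ * μ₀ * μ₁) v) := by
    intro u v
    show μ₁ (μ₀ (μ₁ (mul u v))) = mul (μ₁ (μ₀ (μ₁ u))) (μ₁ (μ₀ (μ₁ v)))
    rw [h₁.1, h₀.1, h₁.1]
  have hB : ∀ u v : V, B ((μ₁ * μ₀ * μ₁) u) ((μ₁ * μ₀ * μ₁) v) = B u v := by
    intro u v
    show B (μ₁ (μ₀ (μ₁ u))) (μ₁ (μ₀ (μ₁ v))) = B u v
    rw [h₁.2.1, h₀.2.1, h₁.2.1]
  have key := conj_eq mul B μ₀ μ₀ (μ₁ * μ₀ * μ₁) a₀ a₀ h₀ h₀ hm hB h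
  have e : (μ₀ * μ₁) ^ 4 = μ₀ * ((μ₁ * μ₀ * μ₁) * μ₀ * (μ₁ * μ₀ * μ₁)⁻¹) := by
    rw [mul_inv_rev, mul_inv_rev, i1, i0]; simp only [pow_succ, pow_zero, one_mul, mul_assoc]
  rw [e, key, s0]

theorem order_five (h₀ : IsMajoranaPair mul B μ₀ a₀) (h₁ : IsMajoranaPair mul B μ₁ a₁)
    (h : μ₁ (μ₀ (μ₁ (μ₀ a₁))) = a₀) : (μ₀ * μ₁) ^ 5 = 1 := by
  have i0 := mu_inv mul B μ₀ a₀ h₀
  have i1 := mu_inv mul B μ₁ a₁ h₁
  have s0 := mu_sq mul B μ₀ a₀ h₀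
  have hm : ∀ u v : V, (μ₁ * μ₀ * μ₁ * μ₀) (mul u v)
      = mul ((μ₁ * μ₀ * μ₁ * μ₀) u) ((μ₁ * μ₀ * μ₁ * μ₀) v) := by
    intro u v
    show μ₁ (μ₀ (μ₁ (μ₀ (mul u v)))) = mul (μ₁ (μ₀ (μ₁ (μ₀ u)))) (μ₁ (μ₀ (μ₁ (μ₀ v))))
    rw [h₀.1, h₁.1, h₀.1, h₁.1]
  have hB : ∀ u v : V, B ((μ₁ * μ₀ * μ₁ * μ₀) u) ((μ₁ * μ₀ * μ₁ * μ₀) v) = B u v := by
    intro u v
    show B (μ₁ (μ₀ (μ₁ (μ₀ u)))) (μ₁ (μ₀ (μ₁ (μ₀ v)))) = B u v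
    rw [h₁.2.1, h₀.2.1, h₁.2.1, h₀.2.1]
  have key := conj_eq mul B μ₁ μ₀ (μ₁ * μ₀ * μ₁ * μ₀) a₁ a₀ h₁ h₀ hm hB h
  have e : (μ₀ * μ₁) ^ 5 = μ₀ * ((μ₁ * μ₀ * μ₁ * μ₀) * μ₁ * (μ₁ * μ₀ * μ₁ * μ₀)⁻¹) := by
    rw [mul_inv_rev, mul_inv_rev, mul_inv_rev, i1, i0]
    simp only [pow_succ, pow_zero, one_mul, mul_assoc]
  rw [e, key, s0]

theorem order_six (h₀ : IsMajoranaPair mul B μ₀ a₀) (h₁ : IsMajoranaPair mul B μ₁ a₁)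
    (h : μ₁ (μ₀ (μ₁ (μ₀ (μ₁ a₀)))) = a₀) : (μ₀ * μ₁) ^ 6 = 1 := by
  have i0 := mu_inv mul B μ₀ a₀ h₀
  have i1 := mu_inv mul B μ₁ a₁ h₁
  have s0 := mu_sq mul B μ₀ a₀ h₀
  have hm : ∀ u v : V, (μ₁ * μ₀ * μ₁ * μ₀ * μ₁) (mul u v)
      = mul ((μ₁ * μ₀ * μ₁ * μ₀ * μ₁) u) ((μ₁ * μ₀ * μ₁ * μ₀ * μ₁) v) := by
    intro u v
    show μ₁ (μ₀ (μ₁ (μ₀ (μ₁ (mul u v))))) = mul (μ₁ (μ₀ (μ₁ (μ₀ (μ₁ u))))) (μ₁ (μ₀ (μ₁ (μ₀ (μ₁ v)))))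
    rw [h₁.1, h₀.1, h₁.1, h₀.1, h₁.1]
  have hB : ∀ u v : V, B ((μ₁ * μ₀ * μ₁ * μ₀ * μ₁) u) ((μ₁ * μ₀ * μ₁ * μ₀ * μ₁) v) = B u v := by
    intro u v
    show B (μ₁ (μ₀ (μ₁ (μ₀ (μ₁ u))))) (μ₁ (μ₀ (μ₁ (μ₀ (μ₁ v))))) = B u v
    rw [h₁.2.1, h₀.2.1, h₁.2.1, h₀.2.1, h₁.2.1]
  have key := conj_eq mul B μ₀ μ₀ (μ₁ * μ₀ * μ₁ * μ₀ * μ₁) a₀ a₀ h₀ h₀ hm hB h
  have e : (μ₀ * μ₁) ^ 6 = μ₀ * ((μ₁ * μ₀ * μ₁ * μ₀ * μ₁) * μ₀ * (μ₁ * μ₀ * μ₁ * μ₀ * μ₁)⁻¹) := by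
    rw [mul_inv_rev, mul_inv_rev, mul_inv_rev, mul_inv_rev, i1, i0]
    simp only [pow_succ, pow_zero, one_mul, mul_assoc]
  rw [e, key, s0]

/-- Group-theoretic endgame of Sakuma's theorem: if one of the first six members of the dihedral
orbit of axes returns to `a₀`, the product `μ₀ μ₁` has order at most six. -/
theorem gt_endgame (h₀ : IsMajoranaPair mul B μ₀ a₀) (h₁ : IsMajoranaPair mul B μ₁ a₁)
    (h : a₁ = a₀ ∨ μ₁ a₀ = a₀ ∨ μ₁ (μ₀ a₁) = a₀ ∨ μ₁ (μ₀ (μ₁ a₀)) = a₀ ∨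
      μ₁ (μ₀ (μ₁ (μ₀ a₁))) = a₀ ∨ μ₁ (μ₀ (μ₁ (μ₀ (μ₁ a₀)))) = a₀) :
    ∃ n : ℕ, 1 ≤ n ∧ n ≤ 6 ∧ (μ₀ * μ₁) ^ n = 1 := by
  rcases h with h | h | h | h | h | h
  · exact ⟨1, le_refl _, by norm_num, order_one mul B μ₀ μ₁ a₀ a₁ h₀ h₁ h⟩
  · exact ⟨2, by norm_num, by norm_num, order_two mul B μ₀ μ₁ a₀ a₁ h₀ h₁ h⟩
  · exact ⟨3, by norm_num, by norm_num, order_three mul B μ₀ μ₁ a₀ a₁ h₀ h₁ h⟩
  · exact ⟨4, by norm_num, by norm_num, order_four mul B μ₀ μ₁ a₀ a₁ h₀ h₁ h⟩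
  · exact ⟨5, by norm_num, by norm_num, order_five mul B μ₀ μ₁ a₀ a₁ h₀ h₁ h⟩
  · exact ⟨6, by norm_num, by norm_num, order_six mul B μ₀ μ₁ a₀ a₁ h₀ h₁ h⟩

/-- The same endgame in terms of inner products: if one of the first six members of the orbit has
inner product one with `a₀`, the product `μ₀ μ₁` has order at most six. -/
theorem gt_endgame_form (hV : IsMajoranaAmbient mul B)
    (h₀ : IsMajoranaPair mul B μ₀ a₀) (h₁ : IsMajoranaPair mul B μ₁ a₁)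
    (hn₀ : B a₀ a₀ = 1) (hn₁ : B a₁ a₁ = 1)
    (h : B a₀ a₁ = 1 ∨ B a₀ (μ₁ a₀) = 1 ∨ B a₀ (μ₁ (μ₀ a₁)) = 1 ∨ B a₀ (μ₁ (μ₀ (μ₁ a₀))) = 1 ∨
      B a₀ (μ₁ (μ₀ (μ₁ (μ₀ a₁)))) = 1 ∨ B a₀ (μ₁ (μ₀ (μ₁ (μ₀ (μ₁ a₀))))) = 1) :
    ∃ n : ℕ, 1 ≤ n ∧ n ≤ 6 ∧ (μ₀ * μ₁) ^ n = 1 := by
  obtain ⟨-, hsymm, hpos, -, -⟩ := hV
  have p0 : ∀ u v : V, B (μ₀ u) (μ₀ v) = B u v := h₀.2.1
  have p1 : ∀ u v : V, B (μ₁ u) (μ₁ v) = B u v := h₁.2.1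
  have n0 : ∀ u : V, B u u = 1 → B (μ₀ u) (μ₀ u) = 1 := fun u hu => by rw [p0]; exact hu
  have n1 : ∀ u : V, B u u = 1 → B (μ₁ u) (μ₁ u) = 1 := fun u hu => by rw [p1]; exact hu
  apply gt_endgame mul B μ₀ μ₁ a₀ a₁ h₀ h₁
  rcases h with h | h | h | h | h | h
  · exact Or.inl (eq_of_form_one B hsymm hpos _ _ hn₀ hn₁ h).symm
  · exact Or.inr (Or.inl (eq_of_form_one B hsymm hpos _ _ hn₀ (n1 _ hn₀) h).symm)
  · exact Or.inr (Or.inr (Or.inl (eq_of_form_one B hsymm hpos _ _ hn₀ (n1 _ (n0 _ hn₁)) h).symm))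
  · exact Or.inr (Or.inr (Or.inr (Or.inl
      (eq_of_form_one B hsymm hpos _ _ hn₀ (n1 _ (n0 _ (n1 _ hn₀))) h).symm)))
  · exact Or.inr (Or.inr (Or.inr (Or.inr (Or.inl
      (eq_of_form_one B hsymm hpos _ _ hn₀ (n1 _ (n0 _ (n1 _ (n0 _ hn₁)))) h).symm))))
  · exact Or.inr (Or.inr (Or.inr (Or.inr (Or.inr
      (eq_of_form_one B hsymm hpos _ _ hn₀ (n1 _ (n0 _ (n1 _ (n0 _ (n1 _ hn₀))))) h).symm))))

end words

end Cfsg.Agent.H75.Sak
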