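import Mathlib
import Cfsg.Agent.H90.SgDefs
import Cfsg.Agent.H63.SnIfSyl
import Cfsg.Agent.H53.Basic

/-!
# SG-IFGA and SG-IFM (pieces of EXIST-GEN, for S2949)

* IFGA: inside `↥L` (`T` Sylow in `L`), `J(T)` is generated by the largest elementary abelian
  2-subgroups of `↥L` that it contains.
* IFM: the normalizer of `J(T)` inside `↥L` lies in `M` if `N_G(J(T)) ⊓ L ≤ M`; `O₂(L) ≤ T`.
-/

set_option autoImplicit false
open Cfsg

namespace Cfsg.Agent.H75.SgI

open Cfsg.Agent.H90.Sg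

universe u

/-- SG-IFGA. -/
theorem ifGA : StIfGA.{u} := by
  intro G _ _ T L hTL N hN
  obtain ⟨hle, hT2, hodd⟩ := hTL
  have hodd' : Odd (T.subgroupOf L).index := hodd
  have key : thompsonSubgroup 2 ↥T ≤ N.comap (Subgroup.inclusion hle) := by
    unfold thompsonSubgroup
    apply sSup_le
    intro A hA
    have h1 := Cfsg.Agent.H63.Sn.maxEA_inclusion T L hle hT2 hodd' A hA
    have h2 : A.map (Subgroup.inclusion hle) ≤ (thompsonSubgroupOf 2 T).subgroupOf L := by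
      rintro _ ⟨a, ha, rfl⟩
      rw [Subgroup.mem_subgroupOf]
      unfold thompsonSubgroupOf thompsonSubgroup
      exact ⟨a, (le_sSup hA) ha, rfl⟩
    have h3 := hN _ h1 h2
    intro a ha
    exact h3 ⟨a, ha, rfl⟩
  intro x hx
  rw [Subgroup.mem_subgroupOf] at hx
  unfold thompsonSubgroupOf at hx
  obtain ⟨y, hy, hxy⟩ := hx
  have h4 := key hy
  have h5 : x = Subgroup.inclusion hle y := Subtype.ext hxy.symm
  rw [h5]; exact h4

/-- SG-IFM. -/
theorem ifM : StIfM.{u} := by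
  intro G _ _ T L M hTL hM
  have hsyl := Cfsg.Agent.H63.Sn.ifSyl T L hTL
  obtain ⟨hle, hT2, hodd⟩ := hTL
  refine ⟨?_, ?_, Cfsg.Agent.H53.pCore_normal 2 ↥L, Cfsg.Agent.H53.pCore_isPGroup 2 ↥L⟩
  · intro g hg
    rw [Subgroup.mem_subgroupOf]
    apply hM
    refine Subgroup.mem_inf.mpr ⟨?_, g.2⟩
    rw [Subgroup.mem_normalizer_iff] at hg ⊢
    intro n
    have hJL : thompsonSubgroupOf 2 T ≤ L := (Cfsg.Agent.H63.Sn.thompsonSubgroupOf_le T).trans hle
    constructor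
    · intro hn
      have h1 := (hg ⟨n, hJL hn⟩).mp (Subgroup.mem_subgroupOf.mpr hn)
      exact Subgroup.mem_subgroupOf.mp h1
    · intro hn
      have hnL : n ∈ L := by
        have h0 : n = (g : G)⁻¹ * ((g : G) * n * (g : G)⁻¹) * (g : G) := by group
        rw [h0]; exact mul_mem (mul_mem (inv_mem g.2) (hJL hn)) g.2
      have h1 := (hg ⟨n, hnL⟩).mpr (Subgroup.mem_subgroupOf.mpr hn)
      exact Subgroup.mem_subgroupOf.mp h1
  · have : Fact (Nat.Prime 2) := ⟨Nat.prime_two⟩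
    have hnd : ¬ 2 ∣ (T.subgroupOf L).index := by
      intro h
      exact (Nat.not_even_iff_odd.mpr hsyl.2.1) (even_iff_two_dvd.mpr h)
    have h1 := Cfsg.Agent.H53.pCore_le_sylow (hsyl.1.toSylow hnd)
    intro x hx
    exact (IsPGroup.mem_toSylow hsyl.1 hnd).mp (h1 hx)

end Cfsg.Agent.H75.SgI

universe u in
example : Cfsg.Agent.H90.Sg.StIfGA.{u} := Cfsg.Agent.H75.SgI.ifGA.{u}
universe u in
example : Cfsg.Agent.H90.Sg.StIfM.{u} := Cfsg.Agent.H75.SgI.ifM.{u}
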