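import Mathlib
import Cfsg.Agent.H90.SgDefs
import Cfsg.Agent.H35.SpPart2
import Cfsg.Agent.H63.SnIfSyl

/-!
# SG-IFWC (piece of EXIST-GEN, for S2949): `J(T)` is weakly closed in `T`, inside `↥L`
-/

set_option autoImplicit false
open Cfsg

namespace Cfsg.Agent.H75.SgW

open Cfsg.Agent.H90.Sg

universe u

/-- SG-IFWC. -/
theorem ifWC : StIfWC.{u} := by
  intro G _ _ T L hTL g hg
  have hJT : thompsonSubgroupOf 2 T ≤ T := Cfsg.Agent.H63.Sn.thompsonSubgroupOf_le T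
  have hJL : thompsonSubgroupOf 2 T ≤ L := hJT.trans hTL
  have hle : (thompsonSubgroupOf 2 T).map (MulAut.conj (g : G)).toMonoidHom ≤ T := by
    rintro _ ⟨j, hj, rfl⟩
    have h1 : (MulAut.conj g).toMonoidHom (⟨j, hJL hj⟩ : ↥L) ∈ T.subgroupOf L :=
      hg ⟨⟨j, hJL hj⟩, Subgroup.mem_subgroupOf.mpr hj, rfl⟩
    exact Subgroup.mem_subgroupOf.mp h1
  have heq := Cfsg.Agent.H35.Sp.thompson_conj_le T (g : G) hle
  ext x
  constructor
  · rintro ⟨y, hy, rfl⟩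
    have hy' : (y : G) ∈ thompsonSubgroupOf 2 T := Subgroup.mem_subgroupOf.mp hy
    rw [Subgroup.mem_subgroupOf, ← heq]
    exact ⟨(y : G), hy', rfl⟩
  · intro hx
    rw [Subgroup.mem_subgroupOf, ← heq] at hx
    obtain ⟨j, hj, hjx⟩ := hx
    refine ⟨⟨j, hJL hj⟩, Subgroup.mem_subgroupOf.mpr hj, ?_⟩
    exact Subtype.ext hjx

end Cfsg.Agent.H75.SgW

universe u in
example : Cfsg.Agent.H90.Sg.StIfWC.{u} := Cfsg.Agent.H75.SgW.ifWC.{u}
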