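import Mathlib
import Cfsg.Agent.H52.SoDefs

/-!
# SO-NC (piece of S2943): a `J(T)`-component does not centralize `V`

If `K ≤ C` then `K` normalizes `T` (as `C ≤ N(T)`), so `K = [K, J] ≤ [K, T] ≤ T` is a 2-group,
against `|K : O| = 3`.
-/

set_option autoImplicit false
open Cfsg

namespace Cfsg.Agent.H75.SoN

open Cfsg.Agent.H52.Sn
open scoped commutatorElement

universe u

/-- SO-NC: `K ≰ C`. -/
theorem nc : StNC.{u} := by
  intro X _ _ T C Q M J K O hF hKC
  have h1 : ⁅K, J⁆ ≤ T := by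
    rw [Subgroup.commutator_le]
    intro k hk j hj
    have hkN := hF.hCT (hKC hk)
    rw [Subgroup.mem_normalizer_iff] at hkN
    have e : ⁅k, j⁆ = (k * j * k⁻¹) * j⁻¹ := by simp only [commutatorElement_def]
    rw [e]
    exact mul_mem ((hkN j).mp (hF.hJT hj)) (inv_mem (hF.hJT hj))
  have hKT : K ≤ T := by
    have h2 := hF.hKJ
    rw [← h2]; exact h1
  have hK2 : IsPGroup 2 ↥K := hF.hT.to_le hKT
  have h3 : 3 ∣ Nat.card ↥K := by
    have h4 := Subgroup.relIndex_dvd_card O K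
    rwa [hF.hO3] at h4
  obtain ⟨n, hn⟩ := IsPGroup.iff_card.mp hK2
  rw [hn] at h3
  have h5 := Nat.Prime.dvd_of_dvd_pow Nat.prime_three h3
  omega

end Cfsg.Agent.H75.SoN

universe u in
example : Cfsg.Agent.H52.Sn.StNC.{u} := Cfsg.Agent.H75.SoN.nc.{u}
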