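import Mathlib
import Cfsg.Agent.H52.SpDefs
import Cfsg.Agent.H5.SoAbs

/-!
# SP-NORMA (piece of S2944): a conjugate `K^n` with `[V, K]^n ≤ [V, K]` has the same image
modulo `C = C_X(V)`

SO-UNIQ applied to `K^n`, `K`, `O^n`, `O`.
-/

set_option autoImplicit false
open Cfsg

namespace Cfsg.Agent.H75.SpA

open Cfsg.Agent.H52.Sn

universe u

/-- Conjugation fixes a normal subgroup. -/
theorem map_conj_normal {X : Type u} [Group X] (V : Subgroup X) [hV : V.Normal] (n : X) :
    V.map (MulAut.conj n).toMonoidHom = V := by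
  ext x
  simp only [Subgroup.mem_map, MulEquiv.coe_toMonoidHom, MulAut.conj_apply]
  constructor
  · rintro ⟨y, hy, rfl⟩
    exact hV.conj_mem y hy n
  · intro hx
    refine ⟨n⁻¹ * x * n, ?_, by group⟩
    have := hV.conj_mem x hx n⁻¹
    simpa using this

/-- The odd-order generators transported by conjugation. -/
theorem closure_odd_conj {X : Type u} [Group X] (K : Subgroup X) (n : X)
    (h1 : Subgroup.closure {g : X | g ∈ K ∧ Odd (orderOf g)} = K) :
    Subgroup.closure {g : X | g ∈ K.map (MulAut.conj n).toMonoidHom ∧ Odd (orderOf g)} =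
      K.map (MulAut.conj n).toMonoidHom := by
  have hinj : Function.Injective (MulAut.conj n).toMonoidHom := (MulAut.conj n).injective
  conv_rhs => rw [← h1, MonoidHom.map_closure]
  congr 1
  ext y
  simp only [Set.mem_image, Set.mem_ofPred_eq, Subgroup.mem_map]
  constructor
  · rintro ⟨⟨x, hx, rfl⟩, ho⟩
    exact ⟨x, ⟨hx, by rwa [orderOf_injective _ hinj] at ho⟩, rfl⟩
  · rintro ⟨x, ⟨hx, ho⟩, rfl⟩
    exact ⟨⟨x, hx, rfl⟩, by rwa [orderOf_injective _ hinj]⟩

/-- SP-NORMA. -/
theorem normA (hU : StUniq.{u}) : StNormA.{u} := by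
  intro X _ _ V T Q M J K O _ hV hF hOQ h4 n hn
  have hinj : Function.Injective (MulAut.conj n).toMonoidHom := (MulAut.conj n).injective
  have := hF.hQ
  have := hF.hM
  have := hF.hC
  have hOC : O ≤ Subgroup.centralizer (V : Set X) := hOQ.trans hF.hQC
  have hOC' : O.map (MulAut.conj n).toMonoidHom ≤ Subgroup.centralizer (V : Set X) := by
    refine le_trans (Subgroup.map_mono hOQ) ?_
    rw [map_conj_normal Q n]; exact hF.hQC
  have hKM : K ≤ M := by
    have h0 := hF.hKJ
    rw [← h0]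
    exact (Subgroup.commutator_mono le_top hF.hJM).trans (Subgroup.commutator_le_right ⊤ M)
  have hKM' : K.map (MulAut.conj n).toMonoidHom ≤ M := by
    have := Subgroup.map_mono (f := (MulAut.conj n).toMonoidHom) hKM
    rwa [map_conj_normal M n] at this
  have hcomm : ⁅K.map (MulAut.conj n).toMonoidHom, K⁆ ≤ Subgroup.centralizer (V : Set X) := by
    have key := Cfsg.Agent.H5.Sn.commutator_closure_le (Subgroup.centralizer (V : Set X))
      {g : X | g ∈ K.map (MulAut.conj n).toMonoidHom ∧ Odd (orderOf g)}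
      {g : X | g ∈ K ∧ Odd (orderOf g)} (by
        rintro x ⟨hx, hox⟩ y ⟨hy, hoy⟩
        exact hF.hcomm x (hKM' hx) y (hKM hy) hox hoy)
    rwa [closure_odd_conj K n hF.hKgen, hF.hKgen] at key
  have hVK' : ⁅V, K.map (MulAut.conj n).toMonoidHom⁆ = (⁅V, K⁆).map (MulAut.conj n).toMonoidHom := by
    rw [Subgroup.map_commutator, map_conj_normal V n]
  have h4' : Nat.card ↥⁅V, K.map (MulAut.conj n).toMonoidHom⁆ = 4 := by
    rw [hVK', Subgroup.card_map_of_injective hinj, h4]
  have hne : ⁅V, K.map (MulAut.conj n).toMonoidHom⁆ ⊓ ⁅V, K⁆ ≠ ⊥ := by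
    rw [hVK', inf_of_le_left hn]
    intro h0
    have h1 : Nat.card ↥((⁅V, K⁆).map (MulAut.conj n).toMonoidHom) = 1 := by
      rw [h0]; exact Subgroup.card_bot
    rw [Subgroup.card_map_of_injective hinj, h4] at h1
    omega
  exact hU V (K.map (MulAut.conj n).toMonoidHom) K (O.map (MulAut.conj n).toMonoidHom) O hV
    (Subgroup.map_mono hF.hOK) hOC'
    (by rw [Subgroup.relIndex_map_map_of_injective _ _ hinj]; exact hF.hO3)
    hF.hOK hOC hF.hO3 hcomm h4' h4 hne

end Cfsg.Agent.H75.SpA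

universe u in
example (hU : Cfsg.Agent.H52.Sn.StUniq.{u}) : Cfsg.Agent.H52.Sn.StNormA.{u} :=
  Cfsg.Agent.H75.SpA.normA.{u} hU
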