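import Mathlib
import Cfsg.Agent.H52.SpDefs
import Cfsg.Agent.H5.SoAbs
import Cfsg.Agent.H40.SoInj
import Cfsg.Agent.H75.SpNormA

/-!
# SP-NORMB (piece of S2944): if `K^n ≤ K C` then `K^n ≤ K`

`A₀ := ⟨odd elements of M⟩` is abelian modulo `Q`, normal, and `M / A₀` is a 2-group.  For
`k' = k c ∈ K^n` (`k ∈ K`, `c ∈ C`) the element `c` lies in `A₀ ∩ [M, M]` and is central in `M`
modulo `Q`.  The transfer of `M / Q` into the image of `A₀` kills commutators and is the
`2^j`-th power on central elements, so the image of `c` is trivial: `c ∈ Q`.  Hence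
`K^n ≤ K Q`, and the elements of odd order of `K Q` lie in `K`.
-/

set_option autoImplicit false
open Cfsg

namespace Cfsg.Agent.H75.SpB

open Cfsg.Agent.H52.Sn
open scoped commutatorElement Pointwise

universe u

open scoped IsMulCommutative in
/-- A central element of the commutator subgroup has trivial `|G : H|`-th power, for every
abelian subgroup `H` (transfer). -/
theorem central_comm_pow {G : Type u} [Group G] [Finite G] (H : Subgroup G)
    [IsMulCommutative ↥H] (a : G)
    (hac : ∀ g : G, g * a = a * g) (hcomm : a ∈ commutator G) : a ^ H.index = 1 := by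
  have key : ∀ (k : ℕ) (g₀ : G), g₀⁻¹ * a ^ k * g₀ ∈ H → g₀⁻¹ * a ^ k * g₀ = a ^ k := by
    intro k g₀ _
    have h1 : g₀ * a ^ k = a ^ k * g₀ := ((show Commute g₀ a from hac g₀).pow_right k).eq
    rw [mul_assoc, ← h1, inv_mul_cancel_left]
  have h1 := MonoidHom.transfer_eq_pow (MonoidHom.id ↥H) a key
  have h2 : MonoidHom.transfer (MonoidHom.id ↥H) a = 1 := by
    have h3 : commutator G ≤ (MonoidHom.transfer (MonoidHom.id ↥H)).ker :=
      Abelianization.commutator_subset_ker _
    exact h3 hcomm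
  rw [h2] at h1
  have h4 := congrArg Subtype.val h1
  simpa using h4.symm

/-- The abstract core: `A` normal, abelian and of odd exponent modulo `N`, `G / A` a 2-group;
an element of `A ∩ [G, G]` that is central modulo `N` lies in `N`. -/
theorem central_mem {G : Type u} [Group G] [Finite G] (N A : Subgroup G) [N.Normal] [A.Normal]
    (hA : ∀ x ∈ A, ∀ y ∈ A, x * y * x⁻¹ * y⁻¹ ∈ N)
    (r : ℕ) (hr : Odd r) (hAr : ∀ x ∈ A, x ^ r ∈ N)
    (h2 : ∀ g : G, ∃ j : ℕ, g ^ (2 ^ j) ∈ A)
    (c : G) (hcA : c ∈ A) (hcc : ∀ g : G, g * c * g⁻¹ * c⁻¹ ∈ N)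
    (hcd : c ∈ commutator G) : c ∈ N := by
  have hsurj : Function.Surjective (QuotientGroup.mk' N) := QuotientGroup.mk'_surjective N
  have hHn : (A.map (QuotientGroup.mk' N)).Normal := Subgroup.Normal.map inferInstance _ hsurj
  have hHc : IsMulCommutative ↥(A.map (QuotientGroup.mk' N)) := by
    refine ⟨⟨?_⟩⟩
    rintro ⟨_, x, hx, rfl⟩ ⟨_, y, hy, rfl⟩
    apply Subtype.ext
    show QuotientGroup.mk' N x * QuotientGroup.mk' N y = QuotientGroup.mk' N y * QuotientGroup.mk' N x
    have h1 : QuotientGroup.mk' N (x * y * x⁻¹ * y⁻¹) = 1 :=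
      (QuotientGroup.eq_one_iff _).mpr (hA x hx y hy)
    rw [map_mul, map_mul, map_mul, map_inv, map_inv] at h1
    calc QuotientGroup.mk' N x * QuotientGroup.mk' N y
        = (QuotientGroup.mk' N x * QuotientGroup.mk' N y * (QuotientGroup.mk' N x)⁻¹ *
            (QuotientGroup.mk' N y)⁻¹) * (QuotientGroup.mk' N y * QuotientGroup.mk' N x) := by group
      _ = QuotientGroup.mk' N y * QuotientGroup.mk' N x := by rw [h1, one_mul]
  have hac : ∀ g : G ⧸ N, g * QuotientGroup.mk' N c = QuotientGroup.mk' N c * g := by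
    intro g
    obtain ⟨g, rfl⟩ := hsurj g
    have h1 : QuotientGroup.mk' N (g * c * g⁻¹ * c⁻¹) = 1 :=
      (QuotientGroup.eq_one_iff _).mpr (hcc g)
    rw [map_mul, map_mul, map_mul, map_inv, map_inv] at h1
    calc QuotientGroup.mk' N g * QuotientGroup.mk' N c
        = (QuotientGroup.mk' N g * QuotientGroup.mk' N c * (QuotientGroup.mk' N g)⁻¹ *
            (QuotientGroup.mk' N c)⁻¹) * (QuotientGroup.mk' N c * QuotientGroup.mk' N g) := by group
      _ = QuotientGroup.mk' N c * QuotientGroup.mk' N g := by rw [h1, one_mul]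
  have hcd' : QuotientGroup.mk' N c ∈ commutator (G ⧸ N) := by
    rw [commutator_def] at hcd ⊢
    have h1 : QuotientGroup.mk' N c ∈
        Subgroup.map (QuotientGroup.mk' N) ⁅(⊤ : Subgroup G), (⊤ : Subgroup G)⁆ :=
      ⟨c, hcd, rfl⟩
    rw [Subgroup.map_commutator] at h1
    exact Subgroup.commutator_mono le_top le_top h1
  have hpow := central_comm_pow (A.map (QuotientGroup.mk' N)) (QuotientGroup.mk' N c) hac hcd'
  -- the index is a power of 2
  have hP : IsPGroup 2 ((G ⧸ N) ⧸ A.map (QuotientGroup.mk' N)) := by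
    intro g
    obtain ⟨g, rfl⟩ := QuotientGroup.mk'_surjective _ g
    obtain ⟨g, rfl⟩ := hsurj g
    obtain ⟨j, hj⟩ := h2 g
    refine ⟨j, ?_⟩
    rw [← map_pow, ← map_pow]
    exact (QuotientGroup.eq_one_iff _).mpr ⟨g ^ 2 ^ j, hj, rfl⟩
  obtain ⟨j, hj⟩ := IsPGroup.iff_card.mp hP
  rw [Subgroup.index_eq_card, hj] at hpow
  have hr1 : QuotientGroup.mk' N c ^ r = 1 := by
    rw [← map_pow]; exact (QuotientGroup.eq_one_iff _).mpr (hAr c hcA)
  have hg := pow_gcd_eq_one.mpr ⟨hpow, hr1⟩
  have hco : Nat.gcd (2 ^ j) r = 1 := Nat.Coprime.pow_left j (Nat.coprime_two_left.mpr hr)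
  rw [hco, pow_one] at hg
  exact (QuotientGroup.eq_one_iff _).mp hg

/-- The subgroup generated by the elements of odd order of a normal subgroup is normal. -/
theorem odd_closure_normal {X : Type u} [Group X] (M : Subgroup X) [hM : M.Normal] :
    (Subgroup.closure {g : X | g ∈ M ∧ Odd (orderOf g)}).Normal := by
  refine ⟨fun a ha g => ?_⟩
  induction ha using Subgroup.closure_induction with
  | mem y hy =>
    refine Subgroup.subset_closure ⟨hM.conj_mem y hy.1 g, ?_⟩
    have h1 := orderOf_injective (MulAut.conj g).toMonoidHom (MulAut.conj g).injective y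
    simp only [MulEquiv.coe_toMonoidHom, MulAut.conj_apply] at h1
    rw [h1]; exact hy.2
  | one => simp
  | mul a b _ _ iha ihb =>
    have h1 : g * (a * b) * g⁻¹ = (g * a * g⁻¹) * (g * b * g⁻¹) := by group
    rw [h1]; exact mul_mem iha ihb
  | inv a _ iha =>
    have h1 : g * a⁻¹ * g⁻¹ = (g * a * g⁻¹)⁻¹ := by group
    rw [h1]; exact inv_mem iha

/-- Modulo `Q`, a subgroup generated by elements killed by `r` and commuting modulo `Q` is
killed by `r`. -/
theorem closure_pow_mem {X : Type u} [Group X] (Q : Subgroup X) [Q.Normal] (S : Set X) (r : ℕ)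
    (hS : ∀ z ∈ S, z ^ r = 1)
    (hAA : ∀ x ∈ Subgroup.closure S, ∀ y ∈ Subgroup.closure S, x * y * x⁻¹ * y⁻¹ ∈ Q) :
    ∀ x ∈ Subgroup.closure S, x ^ r ∈ Q := by
  have h0 : ∀ y ∈ Subgroup.closure S, (QuotientGroup.mk' Q y) ^ r = 1 := by
    intro y hy
    induction hy using Subgroup.closure_induction with
    | mem z hz => rw [← map_pow, hS z hz, map_one]
    | one => simp
    | mul a b ha hb iha ihb =>
      have hc : Commute (QuotientGroup.mk' Q a) (QuotientGroup.mk' Q b) := by
        have h1 : QuotientGroup.mk' Q (a * b * a⁻¹ * b⁻¹) = 1 :=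
          (QuotientGroup.eq_one_iff _).mpr (hAA a ha b hb)
        rw [map_mul, map_mul, map_mul, map_inv, map_inv] at h1
        show QuotientGroup.mk' Q a * QuotientGroup.mk' Q b =
          QuotientGroup.mk' Q b * QuotientGroup.mk' Q a
        calc QuotientGroup.mk' Q a * QuotientGroup.mk' Q b
            = (QuotientGroup.mk' Q a * QuotientGroup.mk' Q b * (QuotientGroup.mk' Q a)⁻¹ *
                (QuotientGroup.mk' Q b)⁻¹) * (QuotientGroup.mk' Q b * QuotientGroup.mk' Q a) := by
              group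
          _ = QuotientGroup.mk' Q b * QuotientGroup.mk' Q a := by rw [h1, one_mul]
      rw [map_mul, hc.mul_pow, iha, ihb, one_mul]
    | inv a _ iha => rw [map_inv, inv_pow, iha, inv_one]
  intro x hx
  have h1 := h0 x hx
  rw [← map_pow] at h1
  exact (QuotientGroup.eq_one_iff _).mp h1

/-- SP-NORMB. -/
theorem normB : StNormB.{u} := by
  intro X _ _ C Q M J K n hC hQ hM hQ2 hCM hcomm hJM hKJ hKgen hQK hKn
  have hKM : K ≤ M := by
    have h0 := hKJ
    rw [← h0]
    exact (Subgroup.commutator_mono le_top hJM).trans (Subgroup.commutator_le_right ⊤ M)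
  have hKM' : K.map (MulAut.conj n).toMonoidHom ≤ M := by
    have h0 := Subgroup.map_mono (f := (MulAut.conj n).toMonoidHom) hKM
    rwa [Cfsg.Agent.H75.SpA.map_conj_normal M n] at h0
  have hgen' := Cfsg.Agent.H75.SpA.closure_odd_conj K n hKgen
  have hA₀M : Subgroup.closure {g : X | g ∈ M ∧ Odd (orderOf g)} ≤ M := by
    rw [Subgroup.closure_le]; exact fun g hg => hg.1
  have hKA : K ≤ Subgroup.closure {g : X | g ∈ M ∧ Odd (orderOf g)} := by
    conv_lhs => rw [← hKgen]
    exact Subgroup.closure_mono (fun g hg => ⟨hKM hg.1, hg.2⟩)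
  have hKA' : K.map (MulAut.conj n).toMonoidHom ≤
      Subgroup.closure {g : X | g ∈ M ∧ Odd (orderOf g)} := by
    conv_lhs => rw [← hgen']
    exact Subgroup.closure_mono (fun g hg => ⟨hKM' hg.1, hg.2⟩)
  have hKD : K ≤ ⁅M, M⁆ := by
    conv_lhs => rw [← hKJ]
    exact Subgroup.commutator_mono hKM hJM
  have hKD' : K.map (MulAut.conj n).toMonoidHom ≤ ⁅M, M⁆ := by
    have h0 := Subgroup.map_mono (f := (MulAut.conj n).toMonoidHom) hKD
    rwa [Subgroup.map_commutator, Cfsg.Agent.H75.SpA.map_conj_normal M n] at h0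
  have hA₀n : (Subgroup.closure {g : X | g ∈ M ∧ Odd (orderOf g)}).Normal := odd_closure_normal M
  have hAA : ∀ x ∈ Subgroup.closure {g : X | g ∈ M ∧ Odd (orderOf g)},
      ∀ y ∈ Subgroup.closure {g : X | g ∈ M ∧ Odd (orderOf g)}, x * y * x⁻¹ * y⁻¹ ∈ Q := by
    have key := Cfsg.Agent.H5.Sn.commutator_closure_le Q
      {g : X | g ∈ M ∧ Odd (orderOf g)} {g : X | g ∈ M ∧ Odd (orderOf g)}
      (fun x hx y hy => hcomm x hx.1 y hy.1 hx.2 hy.2)
    intro x hx y hy
    have h0 := key (Subgroup.commutator_mem_commutator hx hy)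
    rwa [commutatorElement_def] at h0
  obtain ⟨e, r, hr, hcard⟩ := Nat.exists_eq_two_pow_mul_odd (Nat.card_pos (α := X)).ne'
  have hodd : ∀ z : X, Odd (orderOf z) → z ^ r = 1 := by
    intro z hz
    have h1 : orderOf z ∣ 2 ^ e * r := hcard ▸ orderOf_dvd_natCard z
    have h2 : Nat.Coprime (orderOf z) (2 ^ e) := Nat.Coprime.pow_right e hz.coprime_two_right
    exact orderOf_dvd_iff_pow_eq_one.mp (h2.dvd_of_dvd_mul_left h1)
  have hAr := closure_pow_mem Q {g : X | g ∈ M ∧ Odd (orderOf g)} r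
    (fun z hz => hodd z hz.2) hAA
  have hcomm_eq : (commutator ↥M).map M.subtype = ⁅M, M⁆ := by
    rw [commutator_def, Subgroup.map_commutator, ← MonoidHom.range_eq_map, Subgroup.range_subtype]
  have hmain : K.map (MulAut.conj n).toMonoidHom ≤ Q ⊔ K := by
    intro k' hk'
    have h1 : k' ∈ ((K : Set X) * (C : Set X)) := by
      rw [← Subgroup.mul_normal]; exact hKn hk'
    obtain ⟨k, hk, c, hc, rfl⟩ := Set.mem_mul.mp h1
    have hcA : c ∈ Subgroup.closure {g : X | g ∈ M ∧ Odd (orderOf g)} := by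
      have h0 : c = k⁻¹ * (k * c) := by group
      rw [h0]; exact mul_mem (inv_mem (hKA hk)) (hKA' hk')
    have hcD : c ∈ ⁅M, M⁆ := by
      have h0 : c = k⁻¹ * (k * c) := by group
      rw [h0]; exact mul_mem (inv_mem (hKD hk)) (hKD' hk')
    have hcM : c ∈ M := hA₀M hcA
    have hcQ : c ∈ Q := by
      have h0 := central_mem (G := ↥M) (Q.subgroupOf M)
        ((Subgroup.closure {g : X | g ∈ M ∧ Odd (orderOf g)}).subgroupOf M) ?_ r hr ?_ ?_
        ⟨c, hcM⟩ ?_ ?_ ?_
      · exact Subgroup.mem_subgroupOf.mp h0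
      · intro x hx y hy
        rw [Subgroup.mem_subgroupOf] at hx hy ⊢
        simp only [Subgroup.coe_mul, Subgroup.coe_inv]
        exact hAA _ hx _ hy
      · intro x hx
        rw [Subgroup.mem_subgroupOf] at hx ⊢
        simp only [Subgroup.coe_pow]
        exact hAr _ hx
      · intro g
        obtain ⟨j, r', hr', hord⟩ := Nat.exists_eq_two_pow_mul_odd (orderOf_pos g).ne'
        refine ⟨j, Subgroup.mem_subgroupOf.mpr (Subgroup.subset_closure ⟨(g ^ 2 ^ j).2, ?_⟩)⟩
        rw [Subgroup.orderOf_coe]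
        have h1 : (g ^ 2 ^ j) ^ r' = 1 := by rw [← pow_mul, ← hord, pow_orderOf_eq_one]
        exact Odd.of_dvd_nat hr' (orderOf_dvd_of_pow_eq_one h1)
      · exact Subgroup.mem_subgroupOf.mpr hcA
      · intro g
        rw [Subgroup.mem_subgroupOf]
        simp only [Subgroup.coe_mul, Subgroup.coe_inv]
        have h1 : ⁅(g : X), c⁆ ∈ ⁅M, C⁆ := Subgroup.commutator_mem_commutator g.2 hc
        rw [← Subgroup.commutator_comm, commutatorElement_def] at h1
        exact hCM h1
      · rw [← hcomm_eq] at hcD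
        obtain ⟨c', hc', hcc'⟩ := hcD
        have h1 : c' = ⟨c, hcM⟩ := Subtype.ext hcc'
        rw [← h1]; exact hc'
    exact mul_mem (Subgroup.mem_sup_right hk) (Subgroup.mem_sup_left hcQ)
  rw [← hgen', Subgroup.closure_le]
  intro g hg
  exact Cfsg.Agent.H40.Sn.inj_odd_mem K Q hQK hQ2 g (hmain hg.1) hg.2

end Cfsg.Agent.H75.SpB

universe u in
example : Cfsg.Agent.H52.Sn.StNormB.{u} := Cfsg.Agent.H75.SpB.normB.{u}
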