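import Cfsg.Agent.H75.TmBase

/-!
# TM-FIN (helper64, S3701): a normal subgroup `K ≥ T` with `K ∩ H = T` forces `H = G`

Twin of helper63's TN-FIN: Burnside's transfer theorem gives a normal 3-complement `Q` of `K`,
on which a subgroup of order 9 of `T` acts fixed-point-freely, so `Q = 1` by (FPF).
-/

set_option autoImplicit false

namespace Cfsg.Agent.H75.Tm

open Subgroup Cfsg.Agent.H64.Tm

universe u

theorem fin (h : Cfsg.Agent.H4.Tn.StFpf.{u}) (hS : StSyl.{u}) : StFin.{u} := by
  intro G _ _ H T a b c x y cfg K hKn hTK hxK hyK hxyK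
  classical
  have hp3 : Fact (Nat.Prime 3) := ⟨by norm_num⟩
  obtain ⟨S, hS'⟩ := hS G H T a b c x y cfg
  have hcomm := T_comm cfg
  have hKH : ∀ n ∈ K, n ∈ H → n ∈ T := by
    intro n hnK hnH
    obtain ⟨t, ht, h1 | h1 | h1 | h1⟩ := cfg.Helts n hnH
    · rw [h1]
      exact ht
    · exfalso
      apply hxK
      have h2 : x = t⁻¹ * n := by rw [h1]; group
      rw [h2]
      exact K.mul_mem (K.inv_mem (hTK ht)) hnK
    · exfalso
      apply hyK
      have h2 : y = t⁻¹ * n := by rw [h1]; group
      rw [h2]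
      exact K.mul_mem (K.inv_mem (hTK ht)) hnK
    · exfalso
      apply hxyK
      have h2 : x * y = t⁻¹ * n := by rw [h1]; group
      rw [h2]
      exact K.mul_mem (K.inv_mem (hTK ht)) hnK
  have hSK : (S : Subgroup G) ≤ K := by
    rw [hS']
    exact hTK
  obtain ⟨P, hPdef⟩ : ∃ P : Sylow 3 K, P = S.subtype hSK := ⟨_, rfl⟩
  have hPcoe : (P : Subgroup K) = T.subgroupOf K := by
    rw [hPdef, Sylow.coe_subtype, hS']
  have hmemP : ∀ k : K, k ∈ (P : Subgroup K) ↔ (k : G) ∈ T := by
    intro k
    rw [hPcoe, Subgroup.mem_subgroupOf]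
  have hP : normalizer ((P : Subgroup K) : Set K) ≤ centralizer ((P : Subgroup K) : Set K) := by
    intro k hk
    have hkN : (k : G) ∈ normalizer (T : Set G) := by
      rw [Subgroup.mem_normalizer_iff]
      intro g
      constructor
      · intro hg
        have h1 := (Subgroup.mem_normalizer_iff.mp hk ⟨g, hTK hg⟩).mp ((hmemP _).mpr hg)
        exact (hmemP _).mp h1
      · intro hg
        have hgK : g ∈ K := by
          have h2 : g = (k : G)⁻¹ * ((k : G) * g * (k : G)⁻¹) * (k : G) := by group
          rw [h2]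
          exact K.mul_mem (K.mul_mem (K.inv_mem k.2) (hTK hg)) k.2
        have h1 := (Subgroup.mem_normalizer_iff.mp hk ⟨g, hgK⟩).mpr ((hmemP _).mpr hg)
        exact (hmemP _).mp h1
    have hkT : (k : G) ∈ T := hKH _ k.2 (cfg.norm ▸ hkN)
    rw [Subgroup.mem_centralizer_iff]
    intro y hy
    apply Subtype.ext
    exact hcomm _ ((hmemP y).mp hy) _ hkT
  have hcompl := MonoidHom.ker_transferSylow_isComplement' P hP
  have hinj : Function.Injective K.subtype := Subtype.coe_injective
  -- a subgroup of order 9 of `T`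
  obtain ⟨T₀, hT₀⟩ := Sylow.exists_subgroup_card_pow_prime 3 (G := ↥T) (n := 2)
    (by rw [cfg.cardT]; norm_num)
  have hT'T : T₀.map T.subtype ≤ T := by
    rintro _ ⟨t, -, rfl⟩
    exact t.2
  have hT'card : Nat.card (T₀.map T.subtype) = 9 := by
    rw [Subgroup.card_map_of_injective Subtype.coe_injective, hT₀]
    norm_num
  have h1 : T₀.map T.subtype ≤ normalizer
      ((((MonoidHom.transferSylow P hP).ker).map K.subtype : Subgroup G) : Set G) := by
    have hle := Subgroup.le_normalizer_map (H := (MonoidHom.transferSylow P hP).ker) K.subtype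
    rw [Subgroup.normalizer_eq_top] at hle
    intro t ht
    apply hle
    exact ⟨⟨t, hTK (hT'T ht)⟩, Subgroup.mem_top _, rfl⟩
  have h2 : (Nat.card (((MonoidHom.transferSylow P hP).ker).map K.subtype : Subgroup G)).Coprime
      3 := by
    have hc : Nat.card (((MonoidHom.transferSylow P hP).ker).map K.subtype : Subgroup G)
        = Nat.card (MonoidHom.transferSylow P hP).ker := Subgroup.card_map_of_injective hinj
    have hmul := hcompl.card_mul_card
    have hidx := Subgroup.card_mul_index (P : Subgroup K)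
    have hQidx : Nat.card (MonoidHom.transferSylow P hP).ker = (P : Subgroup K).index := by
      have hpos : 0 < Nat.card (P : Subgroup K) := Nat.card_pos
      have h3 : Nat.card (P : Subgroup K) * Nat.card (MonoidHom.transferSylow P hP).ker
          = Nat.card (P : Subgroup K) * (P : Subgroup K).index := by
        rw [hidx, mul_comm, hmul]
      exact Nat.eq_of_mul_eq_mul_left hpos h3
    rw [hc, hQidx]
    exact ((Nat.Prime.coprime_iff_not_dvd (by norm_num)).mpr P.not_dvd_index).symm
  have h4 : ∀ t ∈ T₀.map T.subtype, t ^ 3 = 1 := fun t ht => T_exp3 cfg t (hT'T ht)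
  have h5 : ∀ s ∈ T₀.map T.subtype, ∀ t ∈ T₀.map T.subtype, s * t = t * s :=
    fun s hs t ht => hcomm s (hT'T hs) t (hT'T ht)
  have h6 : ∀ q ∈ (((MonoidHom.transferSylow P hP).ker).map K.subtype : Subgroup G),
      ∀ t ∈ T₀.map T.subtype, t ≠ 1 → t * q = q * t → q = 1 := by
    intro q hq t ht ht1 hcomm'
    obtain ⟨k, hk, rfl⟩ := hq
    have hqH : (k : G) ∈ H := by
      apply cfg.loc t (hT'T ht) ht1
      rw [Subgroup.mem_centralizer_singleton_iff]
      exact hcomm'.symm
    have hkT : (k : G) ∈ T := hKH _ k.2 hqH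
    have hk1 : k = 1 := Subgroup.disjoint_def.mp hcompl.disjoint hk ((hmemP k).mpr hkT)
    rw [hk1]
    rfl
  have hQbot := h G _ (T₀.map T.subtype) h1 h2 hT'card h4 h5 h6
  have hQ'bot : (MonoidHom.transferSylow P hP).ker = ⊥ :=
    (Subgroup.map_eq_bot_iff_of_injective _ hinj).mp hQbot
  have hPtop : (P : Subgroup K) = ⊤ := by
    apply Subgroup.eq_top_of_card_eq
    have hmul := hcompl.card_mul_card
    rw [hQ'bot, Subgroup.card_bot, one_mul] at hmul
    exact hmul
  have hKT : K ≤ T := by
    rw [hPcoe] at hPtop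
    exact Subgroup.subgroupOf_eq_top.mp hPtop
  have hTeq : T = K := le_antisymm hTK hKT
  rw [← cfg.norm, hTeq]
  exact Subgroup.normalizer_eq_top_iff.mpr hKn

end Cfsg.Agent.H75.Tm
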