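import Mathlib
import Cfsg.Agent.H67.UmDefs

/-!
# UM-BLK (piece of S2263): block sum of two unitary matrices
-/

set_option autoImplicit false
open Cfsg Matrix

namespace Cfsg.Agent.H75.UmB

open Cfsg.Agent.H67.Um

universe u

/-- UM-BLK. -/
theorem blk : StBlk.{u} := by
  intro F _ q n m Z J hZ hJ
  refine ⟨Matrix.reindexAlgEquiv F F finSumFinEquiv (Matrix.fromBlocks Z 0 0 J), ?_, ?_⟩
  · intro u v
    have hmv : ∀ w : Fin (n + m) → F, ∀ s : Fin n ⊕ Fin m,
        (Matrix.reindexAlgEquiv F F finSumFinEquiv (Matrix.fromBlocks Z 0 0 J) *ᵥ w)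
          (finSumFinEquiv s) = (Matrix.fromBlocks Z 0 0 J *ᵥ (w ∘ finSumFinEquiv)) s := by
      intro w s
      rw [Matrix.coe_reindexAlgEquiv, Matrix.reindex_apply, Matrix.submatrix_mulVec_equiv]
      simp
    have hsplit : ∀ a b : Fin (n + m) → F, Cfsg.hermForm (n + m) F q a b =
        Cfsg.hermForm n F q (a ∘ finSumFinEquiv ∘ Sum.inl) (b ∘ finSumFinEquiv ∘ Sum.inl) +
        Cfsg.hermForm m F q (a ∘ finSumFinEquiv ∘ Sum.inr) (b ∘ finSumFinEquiv ∘ Sum.inr) := by
      intro a b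
      unfold Cfsg.hermForm
      rw [← Equiv.sum_comp finSumFinEquiv, Fintype.sum_sum_type]
      rfl
    have hl : ∀ w : Fin (n + m) → F,
        (Matrix.reindexAlgEquiv F F finSumFinEquiv (Matrix.fromBlocks Z 0 0 J) *ᵥ w) ∘
          finSumFinEquiv ∘ Sum.inl = Z *ᵥ (w ∘ finSumFinEquiv ∘ Sum.inl) := by
      intro w
      funext i
      simp only [Function.comp_apply]
      rw [hmv, Matrix.fromBlocks_mulVec]
      simp [Function.comp_def]
    have hr : ∀ w : Fin (n + m) → F,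
        (Matrix.reindexAlgEquiv F F finSumFinEquiv (Matrix.fromBlocks Z 0 0 J) *ᵥ w) ∘
          finSumFinEquiv ∘ Sum.inr = J *ᵥ (w ∘ finSumFinEquiv ∘ Sum.inr) := by
      intro w
      funext i
      simp only [Function.comp_apply]
      rw [hmv, Matrix.fromBlocks_mulVec]
      simp [Function.comp_def]
    rw [hsplit, hsplit u v, hl, hl, hr, hr, hZ, hJ]
  · intro N c hN
    have h1 : (Matrix.fromBlocks Z 0 0 J) ^ N = c • (1 : Matrix (Fin n ⊕ Fin m) (Fin n ⊕ Fin m) F) := by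
      apply (Matrix.reindexAlgEquiv F F finSumFinEquiv).injective
      rw [map_pow, hN, map_smul, map_one]
    rw [Matrix.fromBlocks_diagonal_pow, ← Matrix.fromBlocks_one, Matrix.fromBlocks_smul] at h1
    have h2 := Matrix.fromBlocks_inj.mp h1
    exact ⟨h2.1, h2.2.2.2⟩

end Cfsg.Agent.H75.UmB

universe u in
example : Cfsg.Agent.H67.Um.StBlk.{u} := Cfsg.Agent.H75.UmB.blk.{u}
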