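import Mathlib
import Cfsg.Agent.H72.ZasDefs
import Cfsg.Agent.H59.UniqueOrderP

/-!
# Piece S0690-PN: proper normal subgroups have exponent 2

In a perfect group `G` satisfying `ZasAx`, with Sylow 2-subgroups `Q₈` and all elements of order
4 conjugate, every proper normal subgroup has exponent dividing 2 (given `StNoz`).
-/

set_option autoImplicit false
set_option linter.unusedSectionVars false
set_option linter.style.haveILetI false

namespace Cfsg.Agent.H75.Zas

open Cfsg.Agent.H72.Zas

universe u

section PN

variable {G : Type u} [Group G] [Finite G]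

/-- if abelian subgroups are cyclic, an element of order dividing `p` commuting with an element
`z` of order `p` is a power of `z`. -/
theorem pn_mem_zpowers
    (hab : ∀ A : Subgroup G, (∀ x ∈ A, ∀ y ∈ A, x * y = y * x) → IsCyclic A)
    {p : ℕ} (hp : p.Prime) {x z : G} (hx : x ^ p = 1)
    (hz : orderOf z = p) (hc : x * z = z * x) : x ∈ Subgroup.zpowers z := by
  have hzp : z ^ p = 1 := by rw [← hz]; exact pow_orderOf_eq_one z
  obtain ⟨A, hA⟩ : ∃ A : Subgroup G, A = Subgroup.closure {x, z} := ⟨_, rfl⟩
  have hxA : x ∈ A := by rw [hA]; exact Subgroup.subset_closure (by simp)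
  have hzA : z ∈ A := by rw [hA]; exact Subgroup.subset_closure (by simp)
  have h1 : ∀ b ∈ A, Commute b x ∧ Commute b z := by
    intro b hb
    rw [hA] at hb
    induction hb using Subgroup.closure_induction with
    | mem y hy =>
      rcases hy with rfl | rfl
      · exact ⟨Commute.refl _, hc⟩
      · exact ⟨hc.symm, Commute.refl _⟩
    | one => exact ⟨Commute.one_left _, Commute.one_left _⟩
    | mul a b _ _ iha ihb => exact ⟨iha.1.mul_left ihb.1, iha.2.mul_left ihb.2⟩
    | inv a _ iha => exact ⟨iha.1.inv_left, iha.2.inv_left⟩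
  have hcomm : ∀ a ∈ A, ∀ b ∈ A, a * b = b * a := by
    intro a ha b hb
    rw [hA] at ha
    have key : Commute a b := by
      induction ha using Subgroup.closure_induction with
      | mem y hy =>
        rcases hy with rfl | rfl
        · exact ((h1 b hb).1).symm
        · exact ((h1 b hb).2).symm
      | one => exact Commute.one_left _
      | mul a c _ _ iha ihc => exact iha.mul_left ihc
      | inv a _ iha => exact iha.inv_left
    exact key
  have hexp : ∀ a ∈ A, a ^ p = 1 := by
    intro a ha
    rw [hA] at ha
    induction ha using Subgroup.closure_induction with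
    | mem y hy =>
      rcases hy with rfl | rfl
      · exact hx
      · exact hzp
    | one => exact one_pow _
    | mul a b ha hb iha ihb =>
      have hcab : Commute a b := hcomm a (by rw [hA]; exact ha) b (by rw [hA]; exact hb)
      rw [hcab.mul_pow, iha, ihb, one_mul]
    | inv a ha iha => rw [inv_pow, iha, inv_one]
  have hcyc := hab A hcomm
  obtain ⟨g, hg⟩ := hcyc.exists_generator
  have hcard : orderOf g = Nat.card ↥A := orderOf_eq_card_of_forall_mem_zpowers hg
  have hgp : g ^ p = 1 := Subtype.ext (by simpa using hexp g g.2)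
  have hle : Nat.card ↥A ≤ p := by
    rw [← hcard]
    exact Nat.le_of_dvd hp.pos (orderOf_dvd_of_pow_eq_one hgp)
  have hzle : Subgroup.zpowers z ≤ A := by
    rw [Subgroup.zpowers_le]; exact hzA
  have heq : Subgroup.zpowers z = A := by
    apply Subgroup.eq_of_le_of_card_ge hzle
    rw [Nat.card_zpowers, hz]; exact hle
  rw [heq]; exact hxA

/-- if abelian subgroups are cyclic, the Sylow `p`-subgroups are cyclic for odd `p`. -/
theorem pn_sylow_cyclic
    (hab : ∀ A : Subgroup G, (∀ x ∈ A, ∀ y ∈ A, x * y = y * x) → IsCyclic A)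
    (p : ℕ) [hp : Fact p.Prime] (hodd : p ≠ 2) (P : Sylow p G) : IsCyclic ↥P := by
  by_cases htriv : Nontrivial ↥P
  swap
  · rw [not_nontrivial_iff_subsingleton] at htriv
    exact isCyclic_of_subsingleton
  have hcn : Nontrivial (Subgroup.center ↥P) := P.isPGroup'.center_nontrivial
  have hpg : IsPGroup p (Subgroup.center ↥P) := P.isPGroup'.to_subgroup _
  have hdvd : p ∣ Nat.card (Subgroup.center ↥P) := by
    rcases hpg.card_eq_or_dvd with h | h
    · exfalso
      have := Finite.one_lt_card (α := Subgroup.center ↥P)
      omega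
    · exact h
  obtain ⟨z, hz⟩ := exists_prime_orderOf_dvd_card' p hdvd
  have hzP : orderOf (z : ↥P) = p := by rw [Subgroup.orderOf_coe]; exact hz
  have hzG : orderOf ((z : ↥P) : G) = p := by rw [Subgroup.orderOf_coe]; exact hzP
  have key : ∀ H : Subgroup ↥P, Nat.card H = p → H = Subgroup.zpowers (z : ↥P) := by
    intro H hH
    apply Subgroup.eq_of_le_of_card_ge
    · intro y hy
      have h1 : (y : G) ^ p = 1 := by
        have h0 : (⟨y, hy⟩ : H) ^ p = 1 := by
          have h00 := pow_card_eq_one' (x := (⟨y, hy⟩ : H))
          rw [hH] at h00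
          exact h00
        have h0' := congrArg (fun w : H => ((w : ↥P) : G)) h0
        simpa using h0'
      have hcz : (y : G) * ((z : ↥P) : G) = ((z : ↥P) : G) * (y : G) := by
        have h0 := Subgroup.mem_center_iff.mp z.2 y
        have h0' := congrArg (fun w : ↥P => (w : G)) h0
        simpa using h0'
      have h2 := pn_mem_zpowers hab hp.out h1 hzG hcz
      rw [Subgroup.mem_zpowers_iff] at h2 ⊢
      obtain ⟨k, hk⟩ := h2
      exact ⟨k, Subtype.ext (by simpa using hk)⟩
    · rw [Nat.card_zpowers, hH, hzP]
  refine Cfsg.Agent.H59.isCyclic_of_unique_odd p hodd (Nat.card ↥P) ↥P rfl P.isPGroup' ?_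
  intro H K hH hK
  rw [key H hH, key K hK]

/-- an element squaring to one is central when there is at most one involution. -/
theorem pn_invol_central (hinv : ∀ x y : G, orderOf x = 2 → orderOf y = 2 → x = y)
    {x : G} (hx : x * x = 1) (w : G) : w * x = x * w := by
  by_cases hx1 : x = 1
  · rw [hx1, mul_one, one_mul]
  have ho : orderOf x = 2 := orderOf_eq_prime (by rw [pow_two]; exact hx) hx1
  have ho' : orderOf (w * x * w⁻¹) = 2 := by
    have := (MulAut.conj w).orderOf_eq x
    rw [MulAut.conj_apply] at this
    rw [this, ho]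
  have := hinv _ _ ho' ho
  calc w * x = (w * x * w⁻¹) * w := by group
    _ = x * w := by rw [this]

end PN

/-- **Piece PN** of the Zassenhaus project. -/
theorem pn (h : StNoz.{u}) : StPn.{u} := by
  intro G _ _ hax hperf S ⟨e⟩ hconj N hN hNtop g hg
  by_cases hA : ∃ u ∈ N, orderOf u = 4
  · exfalso
    obtain ⟨u, huN, hu⟩ := hA
    have hA1 : ∀ v : G, orderOf v = 4 → v ∈ N := by
      intro v hv
      obtain ⟨w, hw⟩ := hconj u v hu hv
      rw [← hw]; exact hN.conj_mem u huN w
    have hA2 : (S : Subgroup G) ≤ N := by
      have hq : ∀ q : QuaternionGroup 2, ((e.symm q : ↥S) : G) ∈ N := by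
        have hx : ∀ i : ZMod (2 * 2), ((e.symm (QuaternionGroup.xa i) : ↥S) : G) ∈ N := by
          intro i
          apply hA1
          rw [Subgroup.orderOf_coe, MulEquiv.orderOf_eq, QuaternionGroup.orderOf_xa]
        intro q
        cases q with
        | a i =>
          have hi : (QuaternionGroup.a i : QuaternionGroup 2) =
              QuaternionGroup.xa 0 * QuaternionGroup.xa (i - 2) := by
            rw [QuaternionGroup.xa_mul_xa]
            congr 1
            push_cast; ring
          rw [hi, map_mul, Subgroup.coe_mul]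
          exact N.mul_mem (hx _) (hx _)
        | xa i => exact hx i
      intro s hs
      have := hq (e ⟨s, hs⟩)
      simpa using this
    have hidx : ¬ 2 ∣ N.index := by
      intro hdvd
      exact S.not_dvd_index (hdvd.trans (Subgroup.index_dvd_of_le hA2))
    haveI : IsZGroup (G ⧸ N) := by
      refine ⟨fun p hp P => ?_⟩
      haveI := Fact.mk hp
      by_cases hp2 : p = 2
      · subst hp2
        obtain ⟨k, hk⟩ := P.2.exists_card_eq
        have h1 : Nat.card ↥P ∣ Nat.card (G ⧸ N) := (P : Subgroup (G ⧸ N)).card_subgroup_dvd_card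
        rw [← Subgroup.index_eq_card] at h1
        have hk0 : k = 0 := by
          by_contra hk0
          apply hidx
          refine dvd_trans ?_ h1
          have h2k : 2 ∣ 2 ^ k := dvd_pow_self 2 hk0
          rw [← hk] at h2k
          exact h2k
        rw [hk0, pow_zero] at hk
        haveI : Subsingleton ↥P := (Nat.card_eq_one_iff_unique.mp hk).1
        exact isCyclic_of_subsingleton
      · obtain ⟨Q, rfl⟩ := Sylow.mapSurjective_surjective (QuotientGroup.mk'_surjective N) p P
        haveI := pn_sylow_cyclic hax.ab p hp2 Q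
        exact isCyclic_of_surjective _ ((QuotientGroup.mk' N).subgroupMap_surjective Q)
    haveI : Nontrivial (G ⧸ N) := by
      by_contra hnt
      rw [not_nontrivial_iff_subsingleton] at hnt
      apply hNtop
      rw [eq_top_iff]
      intro x _
      rw [← QuotientGroup.eq_one_iff]
      exact Subsingleton.elim _ _
    have hlt := IsZGroup.commutator_lt (G ⧸ N)
    have htop : commutator (G ⧸ N) = ⊤ := by
      rw [commutator_def, ← Subgroup.map_top_of_surjective (QuotientGroup.mk' N)
        (QuotientGroup.mk'_surjective N), ← Subgroup.map_commutator, ← commutator_def, hperf]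
    rw [htop] at hlt
    exact lt_irrefl _ hlt
  · have hA' : ∀ u ∈ N, orderOf u ≠ 4 := fun u hu h4 => hA ⟨u, hu, h4⟩
    by_cases hodd : Odd (Nat.card ↥N)
    · have hbot := h G hax hperf N hN hodd
      rw [hbot, Subgroup.mem_bot] at hg
      rw [hg, mul_one]
    · obtain ⟨P⟩ : Nonempty (Sylow 2 ↥N) := inferInstance
      have hP2 : ∀ y : ↥N, y ∈ P → y * y = 1 := by
        intro y hy
        obtain ⟨k, hk⟩ := (IsPGroup.iff_orderOf.mp P.2) ⟨y, hy⟩
        have hk' : orderOf y = 2 ^ k := by
          have h0 := Subgroup.orderOf_coe (H := (P : Subgroup ↥N)) ⟨y, hy⟩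
          exact h0.trans hk
        have hk1 : k ≤ 1 := by
          by_contra hcon
          rw [not_le] at hcon
          have h4 : orderOf (y ^ 2 ^ (k - 2)) = 4 := by
            rw [orderOf_pow_of_dvd (by positivity)
              (by rw [hk']; exact pow_dvd_pow 2 (by omega)), hk']
            have h2k : 2 ^ k = 2 ^ (k - 2) * 4 := by
              rw [show (4:ℕ) = 2 ^ 2 by norm_num, ← pow_add]; congr 1; omega
            rw [h2k, Nat.mul_div_cancel_left _ (by positivity)]
          apply hA' ((y ^ 2 ^ (k - 2) : ↥N) : G) (SetLike.coe_mem _)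
          rw [Subgroup.orderOf_coe]; exact h4
        have hy2 : y ^ 2 = 1 := by
          apply orderOf_dvd_iff_pow_eq_one.mp
          rw [hk']
          interval_cases k <;> simp
        rwa [pow_two] at hy2
      have hcen : ∀ y : ↥N, y ∈ P → ∀ n : ↥N, n * y = y * n := by
        intro y hy n
        have h0 := hP2 y hy
        have h0' : (y : G) * (y : G) = 1 := by
          have := congrArg (fun w : ↥N => (w : G)) h0
          simpa using this
        exact Subtype.ext (by simpa using pn_invol_central hax.invol h0' (n : G))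
      have hPc : Subgroup.normalizer (P : Set ↥N) ≤ Subgroup.centralizer (P : Set ↥N) := by
        intro n _
        rw [Subgroup.mem_centralizer_iff]
        intro y hy
        exact (hcen y hy n).symm
      obtain ⟨φ, hφ⟩ : ∃ φ : ↥N →* ↥P, φ = MonoidHom.transferSylow P hPc := ⟨_, rfl⟩
      have hker : ¬ 2 ∣ Nat.card φ.ker := by
        rw [hφ]; exact MonoidHom.not_dvd_card_ker_transferSylow P hPc
      have hφ2 : ∀ n : ↥N, φ n * φ n = 1 := by
        intro n
        exact Subtype.ext (by simpa using congrArg (fun w : ↥N => w) (hP2 (φ n : ↥N) (φ n).2))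
      have hchar : ∀ n : ↥N, n ∈ φ.ker ↔ Odd (orderOf n) := by
        intro n
        constructor
        · intro hn
          have h1 : orderOf (⟨n, hn⟩ : φ.ker) ∣ Nat.card φ.ker := orderOf_dvd_natCard _
          rw [← Subgroup.orderOf_coe] at h1
          rw [← Nat.not_even_iff_odd, even_iff_two_dvd]
          intro h2
          exact hker (h2.trans h1)
        · intro hn
          rw [MonoidHom.mem_ker]
          have h1 : orderOf (φ n) ∣ 2 := by
            apply orderOf_dvd_of_pow_eq_one; rw [pow_two]; exact hφ2 n
          have h2 : orderOf (φ n) ∣ orderOf n := by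
            apply orderOf_dvd_of_pow_eq_one
            rw [← map_pow, pow_orderOf_eq_one, map_one]
          have h3 : orderOf (φ n) ∣ Nat.gcd 2 (orderOf n) := Nat.dvd_gcd h1 h2
          have h4 : Nat.gcd 2 (orderOf n) = 1 := Nat.coprime_two_left.mpr hn
          rw [h4, Nat.dvd_one, orderOf_eq_one_iff] at h3
          exact h3
      obtain ⟨K₀, hK₀⟩ : ∃ K₀ : Subgroup G, K₀ = φ.ker.map N.subtype := ⟨_, rfl⟩
      have hmem : ∀ x : G, x ∈ K₀ ↔ x ∈ N ∧ Odd (orderOf x) := by
        intro x
        rw [hK₀, Subgroup.mem_map]
        constructor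
        · rintro ⟨n, hn, rfl⟩
          refine ⟨n.2, ?_⟩
          have := (hchar n).mp hn
          rw [Subgroup.coe_subtype, Subgroup.orderOf_coe]; exact this
        · rintro ⟨hxN, hxo⟩
          refine ⟨⟨x, hxN⟩, ?_, rfl⟩
          rw [hchar, ← Subgroup.orderOf_coe]; exact hxo
      have hK₀n : K₀.Normal := by
        refine ⟨fun x hx w => ?_⟩
        rw [hmem] at hx ⊢
        refine ⟨hN.conj_mem x hx.1 w, ?_⟩
        have := (MulAut.conj w).orderOf_eq x
        rw [MulAut.conj_apply] at this
        rw [this]; exact hx.2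
      have hK₀odd : Odd (Nat.card ↥K₀) := by
        rw [hK₀, Subgroup.card_map_of_injective N.subtype_injective, ← Nat.not_even_iff_odd,
          even_iff_two_dvd]
        exact hker
      have hbot := h G hax hperf K₀ hK₀n hK₀odd
      have hgg : (⟨g, hg⟩ * ⟨g, hg⟩ : ↥N) ∈ φ.ker := by
        rw [MonoidHom.mem_ker, map_mul]; exact hφ2 _
      have hgg' : g * g ∈ K₀ := by
        rw [hK₀, Subgroup.mem_map]
        exact ⟨_, hgg, rfl⟩
      rw [hbot, Subgroup.mem_bot] at hgg'
      exact hgg'

end Cfsg.Agent.H75.Zas
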